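import Cfsg.Agent.Lib.Classical.TensorMaxO.Refl
import Mathlib.LinearAlgebra.Matrix.Kronecker
import Mathlib.LinearAlgebra.Trace

/-!
# The tensor product of a three-dimensional space and a four-dimensional space of minus type

Basic facts on the two factors and the tensor maps used for generation.
-/

set_option autoImplicit false
set_option linter.unusedSectionVars false

namespace CfsgLib.Classical.TensorMax34

open Matrix Module QuadraticMap CfsgLib.Orth CfsgLib.Classical CfsgLib.Classical.TensorMaxO
open CfsgLib.Classical.TensorMax (IsTensor)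
open CfsgLib.Classical.TensorMaxU (vecMulVec_row sl1 sl2 sl2_injective)
open scoped Kronecker

variable {F : Type*} [Field F]

/-- The standing hypotheses on the forms. -/
structure Data (Q : QuadraticForm F (Matrix (Fin 3) (Fin 4) F)) (qf : QuadraticForm F (Fin 3 → F))
    (qh : QuadraticForm F (Fin 4 → F)) : Prop where
  model : Model Q qf qh
  noPlane : ∀ u v, u ≠ 0 → qh u = 0 → qh v = 0 → polar qh u v = 0 → v ∈ F ∙ u
  big : ∃ s : F, s ≠ 0 ∧ s * s ≠ 1

/-- A hyperbolic pair. -/
structure Pair {V : Type*} [AddCommGroup V] [Module F V] (q : QuadraticForm F V) (b d : V) : Prop where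
  left : q b = 0
  right : q d = 0
  pair : polar q b d = 1

namespace Pair

variable {V : Type*} [AddCommGroup V] [Module F V] {q : QuadraticForm F V} {b d : V} (h : Pair q b d)
include h

theorem symm : Pair q d b := ⟨h.right, h.left, by rw [polar_comm]; exact h.pair⟩

theorem left_ne : b ≠ 0 := fun e => by
  have := h.pair
  rw [e, polar_zero_left] at this
  exact zero_ne_one this

theorem right_ne : d ≠ 0 := h.symm.left_ne

theorem bb : polar q b b = 0 := by rw [polar_self', h.left, mul_zero]
theorem dd : polar q d d = 0 := by rw [polar_self', h.right, mul_zero]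
theorem db : polar q d b = 1 := h.symm.pair

theorem coeff {l m : F} {w : V} (hb : polar q b w = 0) (hd : polar q d w = 0) :
    polar q b (l • b + m • d + w) = m ∧ polar q d (l • b + m • d + w) = l := by
  simp [polar_add_right, polar_smul_r', h.bb, h.dd, h.db, h.pair, hb, hd]

theorem part_perp (w : V) : polar q b (w - polar q d w • b - polar q b w • d) = 0 ∧
    polar q d (w - polar q d w • b - polar q b w • d) = 0 := by
  simp [polar_sub_right, polar_smul_r', h.bb, h.dd, h.db, h.pair]

theorem quad_line (s : F) : q (b + s • d) = s := by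
  rw [quad_add', quad_smul', polar_smul_r', h.left, h.right, h.pair]; ring

end Pair

/-- Isotropic orthogonal vectors of a three-dimensional space are dependent. -/
theorem line_three {q : QuadraticForm F (Fin 3 → F)} (hq : (polarBilin q).Nondegenerate) {u v : Fin 3 → F}
    (hu0 : u ≠ 0) (hu : q u = 0) (hv : q v = 0) (huv : polar q u v = 0) : v ∈ F ∙ u := by
  by_contra hne
  have hspan : ∀ x ∈ (F ∙ u) ⊔ (F ∙ v), q x = 0 := by
    intro x hx
    obtain ⟨_, h1, _, h2, rfl⟩ := Submodule.mem_sup.1 hx
    obtain ⟨s, rfl⟩ := Submodule.mem_span_singleton.1 h1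
    obtain ⟨t, rfl⟩ := Submodule.mem_span_singleton.1 h2
    rw [quad_add', quad_smul', quad_smul', polar_smul_l', polar_smul_r', hu, hv, huv]; ring
  have h1 := singular_finrank_le hq _ hspan
  have hlt : (F ∙ u) < (F ∙ u) ⊔ (F ∙ v) := lt_of_le_of_ne le_sup_left fun h =>
    hne (h ▸ Submodule.mem_sup_right (Submodule.mem_span_singleton_self v))
  have h2 := Submodule.finrank_lt_finrank_of_lt hlt
  rw [finrank_span_singleton hu0] at h2
  rw [finrank_fin_fun] at h1
  omega

variable {Q : QuadraticForm F (Matrix (Fin 3) (Fin 4) F)} {qf : QuadraticForm F (Fin 3 → F)}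
  {qh : QuadraticForm F (Fin 4 → F)}

namespace Data

variable (hd : Data Q qf qh)
include hd

theorem two : (2 : F) ≠ 0 := hd.model.two

theorem line_four {c y : Fin 4 → F} (hc0 : c ≠ 0) (hc : qh c = 0) (hy : qh y = 0) (hcy : polar qh c y = 0) :
    y ∈ F ∙ c := hd.noPlane c y hc0 hc hy hcy

theorem perp_aniso {b d e : Fin 4 → F} (hp : Pair qh b d) (hb : polar qh b e = 0) (hd' : polar qh d e = 0)
    (he : e ≠ 0) : qh e ≠ 0 := fun h => by
  obtain ⟨t, rfl⟩ := Submodule.mem_span_singleton.1 (hd.line_four hp.left_ne hp.left h hb)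
  rw [polar_smul_r', hp.db, mul_one] at hd'
  exact he (by rw [hd', zero_smul])

theorem perp_ne_zero {b d : Fin 4 → F} (hp : Pair qh b d) :
    2 ≤ finrank F ↥(LinearMap.ker (polarBilin qh b) ⊓ LinearMap.ker (polarBilin qh d)) := by
  have h1 := finrank_kerPolar (Q := qh) b
  have h2 := finrank_perp_vec (Q := qh) (S := LinearMap.ker (polarBilin qh b)) d
  rw [finrank_fin_fun] at *
  omega

variable [Fintype F]

/-- The complement of a hyperbolic plane represents every element. -/
theorem perp_universal {b d : Fin 4 → F} (hp : Pair qh b d) {s : F} (hs : s ≠ 0) :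
    ∃ e, polar qh b e = 0 ∧ polar qh d e = 0 ∧ qh e = s := by
  set S := LinearMap.ker (polarBilin qh b) ⊓ LinearMap.ker (polarBilin qh d) with hS
  set x := b + (-s) • d
  have hq : qh x = -s := hp.quad_line _
  have hxS : x ∉ S := fun h => by
    have h1 : polar qh b x = 0 := h.1
    rw [polar_add_right, polar_smul_r', hp.bb, hp.pair] at h1
    exact hs (by linear_combination -h1)
  obtain ⟨y, hy, hy0, hqy⟩ := SimMax.exists_singular_of_three (Q := qh) hd.two (U := (F ∙ x) ⊔ S) (by
    have hlt : S < (F ∙ x) ⊔ S := lt_of_le_of_ne le_sup_right fun h =>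
      hxS (h ▸ Submodule.mem_sup_left (Submodule.mem_span_singleton_self x))
    have := Submodule.finrank_lt_finrank_of_lt hlt
    have := hd.perp_ne_zero hp
    rw [← hS] at this
    omega)
  obtain ⟨_, hl, e, ⟨heb, hed⟩, rfl⟩ := Submodule.mem_sup.1 hy
  obtain ⟨l, rfl⟩ := Submodule.mem_span_singleton.1 hl
  rw [SetLike.mem_coe, mem_ker_polar] at heb hed
  have hl0 : l ≠ 0 := fun h => by
    rw [h, zero_smul, zero_add] at hy0 hqy
    exact hd.perp_aniso hp heb hed hy0 hqy
  refine ⟨l⁻¹ • e, by rw [polar_smul_r', heb, mul_zero], by rw [polar_smul_r', hed, mul_zero], ?_⟩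
  have hxe : polar qh x e = 0 := by rw [polar_add_left, polar_smul_l', heb, hed]; ring
  rw [quad_add', quad_smul', polar_smul_l', hxe, hq] at hqy
  rw [quad_smul']
  field_simp
  linear_combination hqy

/-- An orthogonal basis of the second factor. -/
theorem exists_orth_basis' : ∃ e : Basis (Fin 4) F (Fin 4 → F),
    (∀ i, qh (e i) ≠ 0) ∧ ∀ i j, i ≠ j → polar qh (e i) (e j) = 0 := by
  haveI : Invertible (2 : F) := invertibleOfNonzero hd.two
  obtain ⟨v, hv⟩ := LinearMap.BilinForm.exists_orthogonal_basis (B := polarBilin qh)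
    ⟨fun x y => by simpa using polar_comm qh x y⟩
  refine ⟨v.reindex (finCongr (by rw [finrank_fin_fun])), fun i h => ?_, fun i j hij => ?_⟩
  · rw [Basis.reindex_apply] at h
    exact LinearMap.BilinForm.iIsOrtho.not_isOrtho_basis_self_of_nondegenerate hv hd.model.ndh _
      (show polarBilin qh (v _) (v _) = 0 by rw [QuadraticMap.polarBilin_apply_apply, polar_self', h, mul_zero])
  · simp only [Basis.reindex_apply]
    exact hv ((Equiv.injective _).ne hij)

theorem prod_refl_col (e : Basis (Fin 4) F (Fin 4 → F)) (he : ∀ i, qh (e i) ≠ 0)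
    (heo : ∀ i j, i ≠ j → polar qh (e i) (e j) = 0) {x : Fin 3 → F} (hx : qf x ≠ 0) :
    ∀ (I : List (Fin 4)), I.Nodup → ∀ u j,
      ((I.map fun i => refl Q (vecMulVec x (e i))).prod).1 (vecMulVec u (e j)) =
        vecMulVec (if j ∈ I then (refl qf x).1 u else u) (e j)
  | [], _, u, j => by simp
  | i :: I, hI, u, j => by
    rw [List.nodup_cons] at hI
    rw [List.map_cons, List.prod_cons, TensorMaxO.mul_apply', prod_refl_col e he heo hx I hI.2]
    by_cases hij : i = j
    · subst hij
      rw [if_neg hI.1, if_pos List.mem_cons_self, refl_apply, hd.model.pol, hd.model.quad_pure, refl_apply,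
        polar_self', sub_vecMulVec, smul_vecMulVec]
      congr 2
      have := he i
      have := hd.two
      field_simp
    · rw [refl_fix Q (by rw [hd.model.pol, heo i j hij, mul_zero])]
      simp [Ne.symm hij]

theorem col_refl_eq (e : Basis (Fin 4) F (Fin 4 → F)) (he : ∀ i, qh (e i) ≠ 0)
    (heo : ∀ i j, i ≠ j → polar qh (e i) (e j) = 0) {x : Fin 3 → F} (hx : qf x ≠ 0) :
    hd.model.col (refl qf x) = ((List.ofFn fun i => vecMulVec x (e i)).map (refl Q)).prod := by
  rw [List.map_ofFn, List.ofFn_eq_map]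
  refine Subtype.ext (LinearEquiv.toLinearMap_injective (ext_pure fun u w => ?_))
  have key : (hd.model.col (refl qf x)).1.toLinearMap ∘ₗ sl1 4 u =
      ((List.finRange 4).map (refl Q ∘ fun i => vecMulVec x (e i))).prod.1.toLinearMap ∘ₗ sl1 4 u :=
    e.ext fun j => by
      show (hd.model.col (refl qf x)).1 (vecMulVec u (e j)) = _
      rw [hd.model.col_pure]
      exact ((hd.prod_refl_col e he heo hx _ (List.nodup_finRange 4) u j).trans (by simp)).symm
  exact LinearMap.congr_fun key w

/-- Products of two column reflections lie in the commutator subgroup. -/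
theorem col_pair_mem {x y : Fin 3 → F} (hx : qf x ≠ 0) (hy : qf y ≠ 0) :
    hd.model.col (refl qf x * refl qf y) ∈ commutator (orthGroup Q) := by
  obtain ⟨e, he, heo⟩ := hd.exists_orth_basis'
  have h0 : ∀ {x : Fin 3 → F}, qf x ≠ 0 → ∀ v ∈ List.ofFn (fun i => vecMulVec x (e i)), Q v ≠ 0 := fun hx v hv => by
    obtain ⟨i, rfl⟩ := List.mem_ofFn.1 hv
    rw [hd.model.quad_pure]
    exact mul_ne_zero (mul_ne_zero hd.two hx) (he i)
  rw [map_mul, hd.col_refl_eq e he heo hx, hd.col_refl_eq e he heo hy, ← List.prod_append, ← List.map_append,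
    prod_refl_mem_commutator_iff hd.model.nondeg hd.two _ fun v hv =>
      (List.mem_append.1 hv).elim (h0 hx v) (h0 hy v)]
  refine ⟨⟨4, by simp⟩, ?_⟩
  simp only [List.map_append, List.map_ofFn, List.prod_append, List.prod_ofFn, Function.comp_apply,
    hd.model.quad_pure, Fin.prod_univ_four]
  exact ⟨(2 * qf x) * (2 * qf x) * ((2 * qf y) * (2 * qf y)) * (qh (e 0) * qh (e 1) * qh (e 2) * qh (e 3)), by ring⟩

/-- The half turn about an anisotropic vector. -/
theorem exists_halfTurn {x : Fin 3 → F} (hx : qf x ≠ 0) : ∃ A : orthGroup qf,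
    hd.model.col A ∈ commutator (orthGroup Q) ∧ ∀ u, A.1 u = ((qf x)⁻¹ * polar qf x u) • x - u := by
  have hxx : polar qf x x ≠ 0 := by rw [polar_self']; exact mul_ne_zero hd.two hx
  obtain ⟨y, hy, hqy⟩ := exists_anisotropic_in hd.model.ndf (S := LinearMap.ker (polarBilin qf x))
    (by have := finrank_kerPolar (Q := qf) x; rw [finrank_fin_fun] at *; omega)
  rw [mem_ker_polar] at hy
  obtain ⟨z, hz, hz0⟩ := Submodule.exists_mem_ne_zero_of_ne_bot
    (p := LinearMap.ker (polarBilin qf x) ⊓ LinearMap.ker (polarBilin qf y)) (fun h => by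
      have := finrank_kerPolar (Q := qf) x
      have := finrank_perp_vec (Q := qf) (S := LinearMap.ker (polarBilin qf x)) y
      rw [h, finrank_bot] at this
      rw [finrank_fin_fun] at *; omega)
  obtain ⟨hxz, hyz⟩ := hz
  rw [SetLike.mem_coe, mem_ker_polar] at hxz hyz
  have hyy : polar qf y y ≠ 0 := by rw [polar_self']; exact mul_ne_zero hd.two hqy
  -- every vector is expanded
  have hexp : ∀ u, polar qf x u = 0 → polar qf y u = 0 → u ∈ F ∙ z := by
    intro u h1 h2
    by_contra hne
    have hdim : finrank F ↥(LinearMap.ker (polarBilin qf x) ⊓ LinearMap.ker (polarBilin qf y)) ≤ 1 := by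
      set S := LinearMap.ker (polarBilin qf x) ⊓ LinearMap.ker (polarBilin qf y)
      have hxS : x ∉ S := fun h => hxx h.1
      have hyS : y ∉ (F ∙ x) ⊔ S := fun h => by
        obtain ⟨_, hl, s, hs, hy'⟩ := Submodule.mem_sup.1 h
        obtain ⟨l, rfl⟩ := Submodule.mem_span_singleton.1 hl
        apply hyy
        have hs2 : polar qf y s = 0 := hs.2
        rw [show polar qf y y = polar qf y (l • x + s) by rw [hy'], polar_add_right, polar_smul_r', hs2,
          polar_comm _ y x, hy]
        ring
      have l1 : S < (F ∙ x) ⊔ S := lt_of_le_of_ne le_sup_right fun h =>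
        hxS (h ▸ Submodule.mem_sup_left (Submodule.mem_span_singleton_self x))
      have l2 : (F ∙ x) ⊔ S < (F ∙ y) ⊔ ((F ∙ x) ⊔ S) := lt_of_le_of_ne le_sup_right fun h =>
        hyS (h ▸ Submodule.mem_sup_left (Submodule.mem_span_singleton_self y))
      have := Submodule.finrank_lt_finrank_of_lt l1
      have := Submodule.finrank_lt_finrank_of_lt l2
      have := Submodule.finrank_le ((F ∙ y) ⊔ ((F ∙ x) ⊔ S))
      rw [finrank_fin_fun] at this
      omega
    refine hne ((Submodule.eq_of_le_of_finrank_le ?_ (by rwa [finrank_span_singleton hz0])).ge (Submodule.mem_inf.2 ⟨h1, h2⟩))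
    exact (Submodule.span_singleton_le_iff_mem _ _).2 (Submodule.mem_inf.2 ⟨hxz, hyz⟩)
  have hqz : qf z ≠ 0 := fun h => hz0 (hd.model.ndf.1 z fun u => by
    set p := u - ((polar qf x x)⁻¹ * polar qf x u) • x - ((polar qf y y)⁻¹ * polar qf y u) • y
    obtain ⟨t, ht⟩ := Submodule.mem_span_singleton.1 (hexp p
      (by simp only [p, polar_sub_right, polar_smul_r', hy]; field_simp; ring)
      (by simp only [p, polar_sub_right, polar_smul_r', polar_comm _ y x, hy]; field_simp; ring))
    have hu : u = t • z + ((polar qf x x)⁻¹ * polar qf x u) • x + ((polar qf y y)⁻¹ * polar qf y u) • y := by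
      rw [ht]; simp only [p]; abel
    rw [QuadraticMap.polarBilin_apply_apply, hu, polar_add_right, polar_add_right, polar_smul_r', polar_smul_r',
      polar_smul_r', polar_self', h, polar_comm _ z x, polar_comm _ z y, hxz, hyz]
    ring)
  refine ⟨refl qf y * refl qf z, hd.col_pair_mem hqy hqz, fun u => ?_⟩
  show (refl qf y).1 ((refl qf z).1 u) = _
  have hzz : polar qf z z ≠ 0 := by rw [polar_self']; exact mul_ne_zero hd.two hqz
  set p := u - ((polar qf x x)⁻¹ * polar qf x u) • x - ((polar qf y y)⁻¹ * polar qf y u) • y with hp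
  obtain ⟨t, ht⟩ := Submodule.mem_span_singleton.1 (hexp p
      (by simp only [hp, polar_sub_right, polar_smul_r', hy]; field_simp; ring)
      (by simp only [hp, polar_sub_right, polar_smul_r', polar_comm _ y x, hy]; field_simp; ring))
  have ht' : t * polar qf z z = polar qf z u := by
    rw [← polar_smul_r', ht, hp, polar_sub_right, polar_sub_right, polar_smul_r', polar_smul_r',
      polar_comm _ z x, polar_comm _ z y, hxz, hyz]
    ring
  rw [refl_apply, refl_apply, polar_sub_right, polar_smul_r', hyz, mul_zero, sub_zero]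
  rw [polar_self'] at ht'
  have hd2 := hd.two
  have e1 : (qf z)⁻¹ * polar qf z u = 2 * t := by rw [← ht']; field_simp
  have e2 : (qf y)⁻¹ * polar qf y u = 2 * ((polar qf y y)⁻¹ * polar qf y u) := by rw [polar_self']; field_simp
  have e3 : (qf x)⁻¹ * polar qf x u = 2 * ((polar qf x x)⁻¹ * polar qf x u) := by rw [polar_self']; field_simp
  rw [e1, e2, e3]
  rw [hp] at ht
  linear_combination (norm := module) (-2 : F) • ht

/-- A torus element of the first factor. -/
theorem exists_torus {r r' : Fin 3 → F} (hr : Pair qf r r') {ν : F} (hν : ν ≠ 0) : ∃ A : orthGroup qf,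
    hd.model.col A ∈ commutator (orthGroup Q) ∧ A.1 r = ν • r ∧ A.1 r' = ν⁻¹ • r' ∧
      ∀ u, polar qf r u = 0 → polar qf r' u = 0 → A.1 u = u := by
  have hq : ∀ t : F, qf (r + t • r') = t := hr.quad_line
  refine ⟨refl qf (r + (-1 : F) • r') * refl qf (r + (-ν) • r'),
    hd.col_pair_mem (by rw [hq]; exact neg_ne_zero.2 one_ne_zero) (by rw [hq]; exact neg_ne_zero.2 hν), ?_, ?_, ?_⟩
  · show (refl qf (r + (-1 : F) • r')).1 ((refl qf (r + (-ν) • r')).1 r) = _
    simp only [refl_apply, hq, polar_add_left, polar_smul_l', polar_sub_right, polar_add_right, polar_smul_r', hr.bb,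
      hr.dd, hr.db, hr.pair]
    match_scalars <;> field_simp <;> ring
  · show (refl qf (r + (-1 : F) • r')).1 ((refl qf (r + (-ν) • r')).1 r') = _
    simp only [refl_apply, hq, polar_add_left, polar_smul_l', polar_sub_right, polar_add_right, polar_smul_r', hr.bb,
      hr.dd, hr.db, hr.pair]
    match_scalars <;> field_simp <;> ring
  · intro u hu hu'
    show (refl qf (r + (-1 : F) • r')).1 ((refl qf (r + (-ν) • r')).1 u) = _
    have h0 : ∀ t : F, polar qf (r + t • r') u = 0 := fun t => by rw [polar_add_left, polar_smul_l', hu, hu']; ring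
    rw [refl_fix qf (h0 _), refl_fix qf (h0 _)]

/-- The swap of a hyperbolic pair of the second factor. -/
theorem exists_swap {b d : Fin 4 → F} (hp : Pair qh b d) : ∃ C : orthGroup qh,
    hd.model.row C ∈ commutator (orthGroup Q) ∧ C.1 b = d ∧ C.1 d = b := by
  have hq : qh (b + (-1 : F) • d) = -1 := hp.quad_line _
  obtain ⟨e, heb, hed, hqe⟩ := hd.perp_universal hp (neg_ne_zero.2 (one_ne_zero (α := F)))
  refine ⟨refl qh (b + (-1 : F) • d) * refl qh e, hd.model.row_mem ?_, ?_, ?_⟩
  · rw [CfsgLib.Orth.mem_commutator_iff, map_mul, ab_refl_eq hd.model.ndh (good_of_two_ne hd.two) (b := e)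
      (by rw [hq]; exact neg_ne_zero.2 one_ne_zero) (by rw [hqe]; exact neg_ne_zero.2 one_ne_zero)
      (by rw [hq, hqe]; exact ⟨1, by ring⟩), ab_refl_sq]
  all_goals
    show (refl qh (b + (-1 : F) • d)).1 ((refl qh e).1 _) = _
    rw [refl_fix qh (a := e) (by rw [polar_comm]; first | exact heb | exact hed), refl_apply, hq]
    simp only [polar_add_left, polar_smul_l', hp.bb, hp.dd, hp.db, hp.pair]
    match_scalars <;> field_simp <;> ring

end Data

end CfsgLib.Classical.TensorMax34
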