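import Cfsg.Agent.Lib.Classical.TensorMax34.Turn
import Cfsg.Agent.Lib.Classical.TensorMaxO.Axes

/-!
# A hyperbolic plane of the second factor

An element of an overgroup preserving the product of the first factor with a hyperbolic plane is a tensor map.
-/

set_option autoImplicit false
set_option linter.unusedSectionVars false

namespace CfsgLib.Classical.TensorMax34

open Matrix Module QuadraticMap CfsgLib.Orth CfsgLib.Classical CfsgLib.Classical.TensorMaxO
open CfsgLib.Classical.TensorMax (IsTensor)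
open CfsgLib.Classical.TensorMaxU (vecMulVec_row sl1 sl2 sl2_injective)

variable {F : Type*} [Field F]

section Three

variable {q : QuadraticForm F (Fin 3 → F)} (hq : (polarBilin q).Nondegenerate)
include hq

/-- A vector orthogonal to a basis is zero. -/
theorem eq_zero_of_three {x a b c : Fin 3 → F} (ha : a ≠ 0) (hb : b ∉ F ∙ a) (hc : c ∉ (F ∙ a) ⊔ (F ∙ b))
    (hxa : polar q x a = 0) (hxb : polar q x b = 0) (hxc : polar q x c = 0) : x = 0 := by
  have l1 : (F ∙ a) < (F ∙ a) ⊔ (F ∙ b) := lt_of_le_of_ne le_sup_left fun h =>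
    hb (h ▸ Submodule.mem_sup_right (Submodule.mem_span_singleton_self b))
  have l2 : (F ∙ a) ⊔ (F ∙ b) < ((F ∙ a) ⊔ (F ∙ b)) ⊔ (F ∙ c) := lt_of_le_of_ne le_sup_left fun h =>
    hc (h ▸ Submodule.mem_sup_right (Submodule.mem_span_singleton_self c))
  have htop : ((F ∙ a) ⊔ (F ∙ b)) ⊔ (F ∙ c) = ⊤ := by
    refine Submodule.eq_top_of_finrank_eq (le_antisymm (Submodule.finrank_le _) ?_)
    have := Submodule.finrank_lt_finrank_of_lt l1
    have := Submodule.finrank_lt_finrank_of_lt l2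
    rw [finrank_span_singleton ha] at *
    rw [finrank_fin_fun]
    omega
  refine hq.1 x fun w => ?_
  have hle : ((F ∙ a) ⊔ (F ∙ b)) ⊔ (F ∙ c) ≤ LinearMap.ker (polarBilin q x) :=
    sup_le (sup_le ((Submodule.span_singleton_le_iff_mem _ _).2 hxa)
      ((Submodule.span_singleton_le_iff_mem _ _).2 hxb))
      ((Submodule.span_singleton_le_iff_mem _ _).2 hxc)
  exact LinearMap.mem_ker.1 (hle (htop ▸ Submodule.mem_top))

/-- The orthogonal of a vector is spanned by two independent vectors in it. -/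
theorem perp_span {w a b x : Fin 3 → F} (hw : w ≠ 0) (ha : a ≠ 0) (hb : b ∉ F ∙ a) (hwa : polar q w a = 0)
    (hwb : polar q w b = 0) (hwx : polar q w x = 0) : x ∈ (F ∙ a) ⊔ (F ∙ b) :=
  by_contra fun hx => hw (eq_zero_of_three hq ha hb hx hwa hwb hwx)

/-- The orthogonal of a vector contains at most two singular lines. -/
theorem two_lines {w r₁ r₂ r₃ : Fin 3 → F} (hw : w ≠ 0) (h₁0 : r₁ ≠ 0) (h₂0 : r₂ ≠ 0) (h₁ : q r₁ = 0)
    (h₂ : q r₂ = 0) (h₃ : q r₃ = 0) (hw₁ : polar q w r₁ = 0) (hw₂ : polar q w r₂ = 0) (hw₃ : polar q w r₃ = 0) :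
    r₂ ∈ F ∙ r₁ ∨ r₃ ∈ F ∙ r₁ ∨ r₃ ∈ F ∙ r₂ := by
  by_cases h : r₂ ∈ F ∙ r₁
  · exact Or.inl h
  right
  obtain ⟨_, ha, _, hb, e⟩ := Submodule.mem_sup.1 (perp_span hq hw h₁0 h hw₁ hw₂ hw₃)
  obtain ⟨a, rfl⟩ := Submodule.mem_span_singleton.1 ha
  obtain ⟨b, rfl⟩ := Submodule.mem_span_singleton.1 hb
  rw [← e, quad_add', quad_smul', quad_smul', polar_smul_l', polar_smul_r', h₁, h₂] at h₃
  have h12 : polar q r₁ r₂ ≠ 0 := fun e => h (line_three hq h₁0 h₁ h₂ e)
  have hab : a * b = 0 := mul_right_cancel₀ h12 (by linear_combination h₃)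
  rcases mul_eq_zero.1 hab with rfl | rfl
  · exact Or.inr (Submodule.mem_span_singleton.2 ⟨b, by rw [← e, zero_smul, zero_add]⟩)
  · exact Or.inl (Submodule.mem_span_singleton.2 ⟨a, by rw [← e, zero_smul, add_zero]⟩)

end Three

variable {Q : QuadraticForm F (Matrix (Fin 3) (Fin 4) F)} {qf : QuadraticForm F (Fin 3 → F)}
  {qh : QuadraticForm F (Fin 4 → F)} {M : Subgroup (orthGroup Q)}

/-- The product of the first factor with the plane of a hyperbolic pair. -/
def InPlane (qh : QuadraticForm F (Fin 4 → F)) (p o : Fin 4 → F) (Z : Matrix (Fin 3) (Fin 4) F) : Prop :=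
  Z = vecMulVec (ct 3 qh o Z) p + vecMulVec (ct 3 qh p Z) o

theorem InPlane.symm {p o : Fin 4 → F} {Z : Matrix (Fin 3) (Fin 4) F} (h : InPlane qh p o Z) : InPlane qh o p Z :=
  h.trans (add_comm _ _)

theorem InPlane.mk {p o : Fin 4 → F} (hp : Pair qh p o) (s s' : Fin 3 → F) :
    InPlane qh p o (vecMulVec s p + vecMulVec s' o) := by
  simp only [InPlane, map_add, ct_vecMulVec, hp.bb, hp.dd, hp.db, hp.pair, one_smul, zero_smul, add_zero, zero_add]

namespace Data

variable (hd : Data Q qf qh) [Fintype F]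
include hd

theorem inPlane_col (A : orthGroup qf) {p o : Fin 4 → F} {Z : Matrix (Fin 3) (Fin 4) F} (h : InPlane qh p o Z) :
    InPlane qh p o ((hd.model.col A).1 Z) := by
  unfold InPlane at *
  rw [hd.model.ct_col, hd.model.ct_col]
  conv_lhs => rw [h]
  rw [map_add, hd.model.col_pure, hd.model.col_pure]

theorem polar_inPlane {p o : Fin 4 → F} {Z : Matrix (Fin 3) (Fin 4) F} (h : InPlane qh p o Z)
    (Z' : Matrix (Fin 3) (Fin 4) F) :
    polar Q Z Z' = polar qf (ct 3 qh o Z) (ct 3 qh p Z') + polar qf (ct 3 qh p Z) (ct 3 qh o Z') := by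
  conv_lhs => rw [show Z = _ from h]
  rw [polar_add_left, hd.model.pol_left, hd.model.pol_left]

section Member

variable {p o e : Fin 4 → F} (hp : Pair qh p o) (he0 : e ≠ 0) (he : qh e = 0) {h : orthGroup Q}
  (hin : ∀ u, InPlane qh p o (h.1 (vecMulVec u e)))
include hp he0 he hin

theorem sum_zero (u u' : Fin 3 → F) :
    polar qf (ct 3 qh o (h.1 (vecMulVec u e))) (ct 3 qh p (h.1 (vecMulVec u' e))) +
      polar qf (ct 3 qh p (h.1 (vecMulVec u e))) (ct 3 qh o (h.1 (vecMulVec u' e))) = 0 := by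
  rw [← hd.polar_inPlane (hin u), polar_isom, hd.model.pol, polar_self', he, mul_zero, mul_zero]

theorem self_zero (u : Fin 3 → F) :
    polar qf (ct 3 qh o (h.1 (vecMulVec u e))) (ct 3 qh p (h.1 (vecMulVec u e))) = 0 := by
  refine mul_left_cancel₀ hd.two ?_
  have e1 := hd.sum_zero hp he0 he hin u u
  rw [polar_comm qf (ct 3 qh p _)] at e1
  linear_combination e1

theorem ext_comp {u u' : Fin 3 → F} (ho : ct 3 qh o (h.1 (vecMulVec u e)) = ct 3 qh o (h.1 (vecMulVec u' e)))
    (hpc : ct 3 qh p (h.1 (vecMulVec u e)) = ct 3 qh p (h.1 (vecMulVec u' e))) : u = u' :=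
  sl2_injective (a := 3) he0 (h.1.injective (by
    show h.1 (vecMulVec u e) = h.1 (vecMulVec u' e)
    rw [show h.1 (vecMulVec u e) = _ from hin u, show h.1 (vecMulVec u' e) = _ from hin u', ho, hpc]))

variable (hM : ContainsTensor M) (hNF : SliceFree M qh) (hh : h ∈ M) (hT : ¬ IsTensor h.1)
include hM hNF hh hT

/-- The image of a slice meets the first slice of the plane in singular vectors only. -/
theorem no_aniso {u₀ x : Fin 3 → F} (hx : h.1 (vecMulVec u₀ e) = vecMulVec x p) : qf x = 0 := by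
  by_contra hqx
  obtain ⟨A, hAc, hA⟩ := hd.exists_halfTurn hqx
  set t := hd.model.col A
  have htM : t ∈ M := hM _ hAc (hd.model.col_tensor A)
  set k := h⁻¹ * t * h
  have hk : ∀ u, k.1 (vecMulVec u e) =
      vecMulVec (((qf x)⁻¹ * polar qf x (ct 3 qh o (h.1 (vecMulVec u e)))) • u₀ - u) e := fun u => by
    refine h.1.injective ?_
    rw [TensorMaxO.mul_apply', TensorMaxO.mul_apply', Orth.inv_apply, sub_vecMulVec, smul_vecMulVec, map_sub, map_smul,
      hx]
    have hb : polar qf x (ct 3 qh p (h.1 (vecMulVec u e))) = 0 := by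
      have e1 := hd.sum_zero hp he0 he hin u₀ u
      rw [hx, ct_vecMulVec, ct_vecMulVec, hp.db, hp.bb, one_smul, zero_smul, polar_zero_left, add_zero] at e1
      exact e1
    conv_lhs => rw [show h.1 (vecMulVec u e) = _ from hin u]
    conv_rhs => rw [show h.1 (vecMulVec u e) = _ from hin u]
    rw [map_add, hd.model.col_pure, hd.model.col_pure, hA, hA, hb, mul_zero, zero_smul]
    simp only [map_add, ct_vecMulVec, hp.dd, hp.db, one_smul, zero_smul, add_zero, sub_vecMulVec, zero_sub,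
      neg_vecMulVec, smul_vecMulVec]
    abel
  have hkT := hNF k (M.mul_mem (M.mul_mem (M.inv_mem hh) htM) hh) e e he0 he fun u => ⟨_, hk u⟩
  refine TensorMaxO.not_isTensor_inv hT (hd.tensor_of_conj_turn hM hNF (M.inv_mem hh) hAc hqx
    (fun u => by rw [hA, turn_apply]) ?_)
  rwa [inv_inv]

omit hT in
/-- The image of a slice meets one of the two slices of the plane. -/
theorem exists_type (hT : ¬ IsTensor h.1) : ∃ r u₀, r ≠ 0 ∧ qf r = 0 ∧
    (h.1 (vecMulVec u₀ e) = vecMulVec r p ∨ h.1 (vecMulVec u₀ e) = vecMulVec r o) := by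
  set α := ct 3 qh o ∘ₗ h.1.toLinearMap ∘ₗ sl2 3 e
  set β := ct 3 qh p ∘ₗ h.1.toLinearMap ∘ₗ sl2 3 e
  obtain ⟨u₀, hu₀, hS⟩ := exists_ker_of_skew hd.model.ndf hd.two (by decide) (TensorMaxS.adj hd.model.ndf α ∘ₗ β)
    fun u v => by
      have e1 := hd.sum_zero hp he0 he hin u v
      simp only [LinearMap.comp_apply]
      rw [polar_comm qf u, polar_comm qf v, show polar qf (TensorMaxS.adj hd.model.ndf α (β v)) u = polar qf (β v) (α u)
        from TensorMaxS.adj_left hd.model.ndf α _ _, show polar qf (TensorMaxS.adj hd.model.ndf α (β u)) v =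
        polar qf (β u) (α v) from TensorMaxS.adj_left hd.model.ndf α _ _, polar_comm qf (β v)]
      exact eq_neg_of_add_eq_zero_left e1
  by_cases hβ : β u₀ = 0
  · have hx : h.1 (vecMulVec u₀ e) = vecMulVec (α u₀) p := by
      conv_lhs => rw [show h.1 (vecMulVec u₀ e) = _ from hin u₀]
      rw [show ct 3 qh p (h.1 (vecMulVec u₀ e)) = 0 from hβ, zero_vecMulVec, add_zero]
      rfl
    refine ⟨α u₀, u₀, fun h0 => hu₀ (hd.ext_comp hp he0 he hin (u' := 0) ?_ ?_),
      hd.no_aniso hp he0 he hin hM hNF hh hT hx, Or.inl hx⟩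
    · rw [show ct 3 qh o (h.1 (vecMulVec u₀ e)) = 0 from h0]; simp
    · rw [show ct 3 qh p (h.1 (vecMulVec u₀ e)) = 0 from hβ]; simp
  · obtain ⟨v, hv, hαv⟩ : ∃ v, v ≠ 0 ∧ α v = 0 := by
      by_contra! hall
      have hinj : Function.Injective α := (injective_iff_map_eq_zero α).2 fun v hv => by
        by_contra hv0; exact hall v hv0 hv
      refine hβ (hd.model.ndf.2 _ fun w => ?_)
      obtain ⟨v, rfl⟩ := α.surjective_of_injective hinj w
      rw [QuadraticMap.polarBilin_apply_apply, polar_comm]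
      exact (TensorMaxS.adj_left hd.model.ndf α (β u₀) v).symm.trans
        (by rw [show (TensorMaxS.adj hd.model.ndf α) (β u₀) = 0 from hS]; simp)
    have hx : h.1 (vecMulVec v e) = vecMulVec (β v) o := by
      conv_lhs => rw [show h.1 (vecMulVec v e) = _ from hin v]
      rw [show ct 3 qh o (h.1 (vecMulVec v e)) = 0 from hαv, zero_vecMulVec, zero_add]
      rfl
    refine ⟨β v, v, fun h0 => hv (hd.ext_comp hp he0 he hin (u' := 0) ?_ ?_),
      hd.no_aniso hp.symm he0 he (fun u => (hin u).symm) hM hNF hh hT hx, Or.inr hx⟩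
    · rw [show ct 3 qh o (h.1 (vecMulVec v e)) = 0 from hαv]; simp
    · rw [show ct 3 qh p (h.1 (vecMulVec v e)) = 0 from h0]; simp

variable {r u₀ : Fin 3 → F} (hr0 : r ≠ 0) (hqr : qf r = 0) (hru : h.1 (vecMulVec u₀ e) = vecMulVec r p)
include hr0 hqr hru

omit hM hNF hh hT in
theorem r_perp (u : Fin 3 → F) : polar qf r (ct 3 qh p (h.1 (vecMulVec u e))) = 0 := by
  have e1 := hd.sum_zero hp he0 he hin u₀ u
  rw [hru, ct_vecMulVec, ct_vecMulVec, hp.db, hp.bb, one_smul, zero_smul, polar_zero_left, add_zero] at e1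
  exact e1

theorem second_ker {u : Fin 3 → F} (hu : ct 3 qh p (h.1 (vecMulVec u e)) = 0) : u ∈ F ∙ u₀ := by
  have hz : h.1 (vecMulVec u e) = vecMulVec (ct 3 qh o (h.1 (vecMulVec u e))) p := by
    conv_lhs => rw [show h.1 (vecMulVec u e) = _ from hin u]
    rw [hu, zero_vecMulVec, add_zero]
  set x := ct 3 qh o (h.1 (vecMulVec u e))
  have hqx := hd.no_aniso hp he0 he hin hM hNF hh hT hz
  have hs := hd.no_aniso hp he0 he hin hM hNF hh hT (u₀ := u₀ + u) (x := r + x)
    (by rw [add_vecMulVec, map_add, hru, hz, ← add_vecMulVec])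
  rw [quad_add', hqr, hqx, zero_add, zero_add] at hs
  obtain ⟨t, ht⟩ := Submodule.mem_span_singleton.1 (line_three hd.model.ndf hr0 hqr hqx hs)
  refine Submodule.mem_span_singleton.2 ⟨t, sl2_injective (a := 3) he0 (h.1.injective ?_)⟩
  show h.1 (vecMulVec (t • u₀) e) = h.1 (vecMulVec u e)
  rw [smul_vecMulVec, map_smul, hru, hz, ← smul_vecMulVec, ht]

theorem first_injective {u : Fin 3 → F} (hu : ct 3 qh o (h.1 (vecMulVec u e)) = 0) : u = 0 := by
  by_contra hu0
  set α := ct 3 qh o ∘ₗ h.1.toLinearMap ∘ₗ sl2 3 e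
  set β := ct 3 qh p ∘ₗ h.1.toLinearMap ∘ₗ sl2 3 e
  have hα : ∀ u, ct 3 qh o (h.1 (vecMulVec u e)) = α u := fun u => rfl
  have hβ : ∀ u, ct 3 qh p (h.1 (vecMulVec u e)) = β u := fun u => rfl
  have hz : ∀ {u}, α u = 0 → h.1 (vecMulVec u e) = vecMulVec (β u) o := fun {u} hu => by
    conv_lhs => rw [show h.1 (vecMulVec u e) = _ from hin u]
    rw [hα, hu, zero_vecMulVec, zero_add, hβ]
  have hker : ∀ {v}, α v = 0 → ∃ t : F, β v = t • r := fun {v} hv => by
    obtain ⟨t, ht⟩ := Submodule.mem_span_singleton.1 (line_three hd.model.ndf hr0 hqr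
      (hd.no_aniso hp.symm he0 he (fun u => (hin u).symm) hM hNF hh hT (hz hv))
      (hd.r_perp hp he0 he hin hr0 hqr hru v))
    exact ⟨t, ht.symm⟩
  obtain ⟨t, ht⟩ := hker hu
  have ht0 : t ≠ 0 := fun h0 => hu0 (hd.ext_comp hp he0 he hin (u' := 0) (by rw [hu]; simp)
    (by rw [hβ, ht, h0, zero_smul]; simp [hβ]))
  have hαr : ∀ v, polar qf r (α v) = 0 := fun v => by
    have e1 := hd.sum_zero hp he0 he hin u v
    rw [hα, hβ, hβ, show α u = 0 from hu, polar_zero_left, zero_add, ht, polar_smul_l'] at e1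
    exact (mul_eq_zero.1 e1).resolve_left ht0
  have hkerle : LinearMap.ker α ≤ F ∙ u := fun v hv => by
    obtain ⟨s, hs⟩ := hker hv
    refine Submodule.mem_span_singleton.2 ⟨s / t, hd.ext_comp hp he0 he hin ?_ ?_⟩
    · rw [hα, hα, map_smul, show α u = 0 from hu, smul_zero]; exact hv.symm
    · rw [hβ, hβ, map_smul, ht, smul_smul, div_mul_cancel₀ _ ht0, hs]
  have hrange : ∀ (f : (Fin 3 → F) →ₗ[F] (Fin 3 → F)) (w : Fin 3 → F), LinearMap.ker f ≤ F ∙ w →
      ∃ v, f v ∉ F ∙ r := by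
    intro f w hf
    by_contra! hall
    have h1 := f.finrank_range_add_finrank_ker
    have h2 := Submodule.finrank_mono (show LinearMap.range f ≤ F ∙ r by rintro _ ⟨v, rfl⟩; exact hall v)
    have h3 := Submodule.finrank_mono hf
    have h4 := finrank_span_le_card (R := F) ({r} : Set (Fin 3 → F))
    have h5 := finrank_span_le_card (R := F) ({w} : Set (Fin 3 → F))
    simp only [Set.toFinset_singleton, Finset.card_singleton] at h4 h5
    rw [finrank_fin_fun] at h1
    omega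
  obtain ⟨ua, hua⟩ := hrange α u hkerle
  obtain ⟨ub, hub⟩ := hrange β u₀ fun v hv => hd.second_ker hp he0 he hin hM hNF hh hT hr0 hqr hru hv
  set v := α ua
  set z := β ub
  have hrz : polar qf r z = 0 := hd.r_perp hp he0 he hin hr0 hqr hru ub
  have hvv : polar qf v v ≠ 0 := fun h0 => hua (line_three hd.model.ndf hr0 hqr
    ((mul_eq_zero.1 (by rwa [polar_self'] at h0)).resolve_left hd.two) (hαr ua))
  have hline : ∀ y, polar qf r y = 0 → polar qf v y = 0 → y ∈ F ∙ r := fun y hy hvy => by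
    obtain ⟨_, ha, _, hb, e1⟩ := Submodule.mem_sup.1 (perp_span hd.model.ndf hr0 hr0 hua
      (by rw [polar_self', hqr, mul_zero]) (hαr ua) hy)
    obtain ⟨a, rfl⟩ := Submodule.mem_span_singleton.1 ha
    obtain ⟨b, rfl⟩ := Submodule.mem_span_singleton.1 hb
    rw [← e1, polar_add_right, polar_smul_r', polar_smul_r', polar_comm qf v r, hαr ua, mul_zero, zero_add] at hvy
    rw [← e1, (mul_eq_zero.1 hvy).resolve_right hvv, zero_smul, add_zero]
    exact Submodule.smul_mem _ _ (Submodule.mem_span_singleton_self r)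
  have hvz : polar qf v z ≠ 0 := fun h0 => hub (hline z hrz h0)
  have e1 : polar qf v (β ua) = 0 := hd.self_zero hp he0 he hin ua
  have e2 : polar qf (α ub) z = 0 := hd.self_zero hp he0 he hin ub
  obtain ⟨_, ha, _, hb, e3⟩ := Submodule.mem_sup.1 (perp_span hd.model.ndf hr0 hr0 hua
    (by rw [polar_self', hqr, mul_zero]) (hαr ua) (hαr ub))
  obtain ⟨a, rfl⟩ := Submodule.mem_span_singleton.1 ha
  obtain ⟨b, rfl⟩ := Submodule.mem_span_singleton.1 hb
  rw [← e3, polar_add_left, polar_smul_l', polar_smul_l', hrz, mul_zero, zero_add] at e2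
  have hb0 : b = 0 := (mul_eq_zero.1 e2).resolve_right hvz
  have e4 : polar qf (α (ua + ub)) (β (ua + ub)) = 0 := hd.self_zero hp he0 he hin (ua + ub)
  rw [map_add, map_add, ← e3, hb0, zero_smul, add_zero, polar_add_left, polar_add_right, polar_add_right, e1,
    polar_smul_l', polar_smul_l', hrz, show polar qf r (β ua) = 0 from hd.r_perp hp he0 he hin hr0 hqr hru ua] at e4
  exact hvz (by linear_combination e4)

/-- Two images of a slice with a common singular line and a common further vector coincide. -/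
theorem same {h' : orthGroup Q} (hin' : ∀ u, InPlane qh p o (h'.1 (vecMulVec u e))) (hh' : h' ∈ M)
    (hT' : ¬ IsTensor h'.1) {u₀' z z' : Fin 3 → F} (hru' : h'.1 (vecMulVec u₀' e) = vecMulVec r p)
    (hzz : h.1 (vecMulVec z e) = h'.1 (vecMulVec z' e)) (hzd : ct 3 qh p (h.1 (vecMulVec z e)) ≠ 0) :
    ∀ u, ∃ u', h.1 (vecMulVec u e) = h'.1 (vecMulVec u' e) := by
  set α := ct 3 qh o ∘ₗ h.1.toLinearMap ∘ₗ sl2 3 e
  set α' := ct 3 qh o ∘ₗ h'.1.toLinearMap ∘ₗ sl2 3 e
  set β := ct 3 qh p ∘ₗ h.1.toLinearMap ∘ₗ sl2 3 e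
  set β' := ct 3 qh p ∘ₗ h'.1.toLinearMap ∘ₗ sl2 3 e
  have hinj' : Function.Injective α' := (injective_iff_map_eq_zero α').2 fun u hu =>
    hd.first_injective hp he0 he hin' hM hNF hh' hT' hr0 hqr hru' hu
  obtain ⟨L, hL⟩ : ∃ L : (Fin 3 → F) →ₗ[F] (Fin 3 → F), ∀ u, α' (L u) = α u :=
    ⟨(LinearEquiv.ofInjectiveEndo α' hinj').symm.toLinearMap ∘ₗ α,
      fun u => (LinearEquiv.ofInjectiveEndo α' hinj').apply_symm_apply (α u)⟩
  set δ := β - β' ∘ₗ L
  have hδapp : ∀ u, δ u = β u - β' (L u) := fun u => rfl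
  have hδ : ∀ u, polar qf (α u) (δ u) = 0 := fun u => by
    rw [hδapp, polar_sub_right,
      show polar qf (α u) (β u) = 0 from hd.self_zero hp he0 he hin u, ← hL,
      show polar qf (α' (L u)) (β' (L u)) = 0 from hd.self_zero hp he0 he hin' (L u), sub_zero]
  have hδ' : ∀ u v, polar qf (α u) (δ v) + polar qf (α v) (δ u) = 0 := fun u v => by
    have e1 := hδ (u + v)
    rw [map_add, map_add, polar_add_left, polar_add_right, polar_add_right, hδ, hδ] at e1
    linear_combination e1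
  have hfix : ∀ {u u'}, h.1 (vecMulVec u e) = h'.1 (vecMulVec u' e) → δ u = 0 := fun {u u'} hu => by
    have e1 : L u = u' := hinj' ((hL u).trans (congrArg (ct 3 qh o) hu))
    rw [hδapp, e1]
    exact sub_eq_zero.2 (congrArg (ct 3 qh p) hu)
  have h0 := hfix (hru.trans hru'.symm)
  have hz := hfix hzz
  have hαr : α u₀ = r := by
    show ct 3 qh o (h.1 (vecMulVec u₀ e)) = r
    rw [hru, ct_vecMulVec, hp.db, one_smul]
  have hαinj : Function.Injective α := (injective_iff_map_eq_zero α).2 fun u hu =>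
    hd.first_injective hp he0 he hin hM hNF hh hT hr0 hqr hru hu
  have hzu : z ∉ F ∙ u₀ := fun hmem => by
    obtain ⟨s, rfl⟩ := Submodule.mem_span_singleton.1 hmem
    rw [smul_vecMulVec, map_smul, map_smul, hru, ct_vecMulVec, hp.bb, zero_smul, smul_zero] at hzd
    exact hzd rfl
  intro u
  suffices hu : δ u = 0 by
    refine ⟨L u, ?_⟩
    rw [show h.1 (vecMulVec u e) = _ from hin u, show h'.1 (vecMulVec (L u) e) = _ from hin' (L u)]
    rw [show ct 3 qh o (h.1 (vecMulVec u e)) = ct 3 qh o (h'.1 (vecMulVec (L u) e)) from (hL u).symm,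
      show ct 3 qh p (h.1 (vecMulVec u e)) = ct 3 qh p (h'.1 (vecMulVec (L u) e)) from sub_eq_zero.1 hu]
  by_cases hu : u ∈ (F ∙ u₀) ⊔ (F ∙ z)
  · obtain ⟨_, ha, _, hb, rfl⟩ := Submodule.mem_sup.1 hu
    obtain ⟨a, rfl⟩ := Submodule.mem_span_singleton.1 ha
    obtain ⟨b, rfl⟩ := Submodule.mem_span_singleton.1 hb
    rw [map_add, map_smul, map_smul, h0, hz, smul_zero, smul_zero, add_zero]
  refine eq_zero_of_three hd.model.ndf (a := α u₀) (b := α z) (c := α u) (by rw [hαr]; exact hr0) ?_ ?_ ?_ ?_ ?_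
  · intro hmem
    obtain ⟨s, hs⟩ := Submodule.mem_span_singleton.1 hmem
    exact hzu (Submodule.mem_span_singleton.2 ⟨s, hαinj (by rw [map_smul, hs])⟩)
  · intro hmem
    obtain ⟨_, ha, _, hb, e1⟩ := Submodule.mem_sup.1 hmem
    obtain ⟨a, rfl⟩ := Submodule.mem_span_singleton.1 ha
    obtain ⟨b, rfl⟩ := Submodule.mem_span_singleton.1 hb
    rw [← map_smul, ← map_smul, ← map_add] at e1
    exact hu (hαinj e1 ▸ Submodule.add_mem_sup (Submodule.smul_mem _ _ (Submodule.mem_span_singleton_self u₀))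
      (Submodule.smul_mem _ _ (Submodule.mem_span_singleton_self z)))
  · rw [polar_comm]
    have e1 := hδ' u₀ u
    rwa [h0, polar_zero_right, add_zero] at e1
  · rw [polar_comm]
    have e1 := hδ' z u
    rwa [hz, polar_zero_right, add_zero] at e1
  · rw [polar_comm]; exact hδ u

end Member

/-- The counting argument. -/
theorem plane_aux (hM : ContainsTensor M) (hNF : SliceFree M qh) (hq : 5 ≤ Fintype.card F) {p o e : Fin 4 → F}
    (hp : Pair qh p o) (he0 : e ≠ 0) (he : qh e = 0) {g : orthGroup Q} (hg : g ∈ M) (hgT : ¬ IsTensor g.1)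
    (hkeep : ∀ Z, InPlane qh p o Z → InPlane qh p o (g.1 Z)) (hpe : ∀ u, InPlane qh p o (vecMulVec u e))
    {C : orthGroup qh} (hC : hd.model.row C ∈ M) (hCp : C.1 p = e)
    (hCkeep : ∀ Z, InPlane qh p o Z → InPlane qh p o ((hd.model.row C).1 Z))
    {r u₀ : Fin 3 → F} (hr0 : r ≠ 0) (hqr : qf r = 0) (hru : g.1 (vecMulVec u₀ e) = vecMulVec r p) : False := by
  classical
  have hm := hd.model
  have hF := hM.factors hm
  have hin : ∀ u, InPlane qh p o (g.1 (vecMulVec u e)) := fun u => hkeep _ (hpe u)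
  set α := ct 3 qh o ∘ₗ g.1.toLinearMap ∘ₗ sl2 3 e
  set β := ct 3 qh p ∘ₗ g.1.toLinearMap ∘ₗ sl2 3 e
  have hαr : α u₀ = r := by
    show ct 3 qh o (g.1 (vecMulVec u₀ e)) = r
    rw [hru, ct_vecMulVec, hp.db, one_smul]
  have hαinj : Function.Injective α := (injective_iff_map_eq_zero α).2 fun u hu =>
    hd.first_injective hp he0 he hin hM hNF hg hgT hr0 hqr hru hu
  have hβker : ∀ {u}, β u = 0 → u ∈ F ∙ u₀ := fun hu => hd.second_ker hp he0 he hin hM hNF hg hgT hr0 hqr hru hu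
  -- the common vector
  obtain ⟨r₁, hr₁0, hr₁, hr₁u⟩ : ∃ r₁, r₁ ≠ 0 ∧ qf r₁ = 0 ∧ r₁ ∉ F ∙ u₀ := by
    obtain ⟨a, ha0, ha⟩ := CfsgLib.Orth.exists_singular hm.ndf (by rw [finrank_fin_fun])
    obtain ⟨a', ha', haa⟩ := exists_partner hm.ndf ha ha0
    by_cases h : a ∈ F ∙ u₀
    · refine ⟨a', fun e0 => by rw [e0, polar_zero_right] at haa; exact zero_ne_one haa, ha', fun h' => ?_⟩
      obtain ⟨s, rfl⟩ := Submodule.mem_span_singleton.1 h
      obtain ⟨s', rfl⟩ := Submodule.mem_span_singleton.1 h'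
      rw [quad_smul', mul_eq_zero] at ha
      rw [polar_smul_l', polar_smul_r', polar_self'] at haa
      rcases ha with h0 | h0
      · rw [mul_self_eq_zero.1 h0, zero_mul] at haa; exact zero_ne_one haa
      · rw [h0, mul_zero, mul_zero, mul_zero] at haa; exact zero_ne_one haa
    · exact ⟨a, ha0, ha, h⟩
  set Z := g.1 (vecMulVec r₁ e) with hZ
  have hZo : ct 3 qh o Z ≠ 0 := fun h => hr₁0 (hαinj (by rw [map_zero]; exact h))
  have hZp : ct 3 qh p Z ≠ 0 := fun h => hr₁u (hβker h)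
  -- the frame
  obtain ⟨r₁', hr₁', hrr⟩ := exists_partner hm.ndf hr₁ hr₁0
  have hP : Pair qf r₁ r₁' := ⟨hr₁, hr₁', hrr⟩
  obtain ⟨v, hv, hv0⟩ := Submodule.exists_mem_ne_zero_of_ne_bot
    (p := LinearMap.ker (polarBilin qf r₁) ⊓ LinearMap.ker (polarBilin qf r₁')) (fun h => by
      have := finrank_kerPolar (Q := qf) r₁
      have := finrank_perp_vec (Q := qf) (S := LinearMap.ker (polarBilin qf r₁)) r₁'
      rw [h, finrank_bot] at this
      rw [finrank_fin_fun] at *; omega)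
  obtain ⟨hv1, hv2⟩ := hv
  rw [SetLike.mem_coe, mem_ker_polar] at hv1 hv2
  have hvr : v ∉ F ∙ r₁ := fun h => by
    obtain ⟨s, rfl⟩ := Submodule.mem_span_singleton.1 h
    rw [polar_smul_r', hP.db, mul_one] at hv2
    exact hv0 (by rw [hv2, zero_smul])
  have hqv : qf v ≠ 0 := fun h => hvr (line_three hm.ndf hr₁0 hr₁ h hv1)
  have hvv : polar qf v v ≠ 0 := by rw [polar_self']; exact mul_ne_zero hd.two hqv
  obtain ⟨A, hA, t, ht, hAr⟩ := TensorMaxO.exists_move hm.ndf (by rw [finrank_fin_fun]) hm.two hqr hr₁ hr0 hr₁0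
  choose T hTc hTr hTr' hTfix using fun ν : Fˣ => hd.exists_torus hP ν.ne_zero
  -- the family
  let H : Option Fˣ → orthGroup Q := fun i => i.elim g fun ν => g * (hm.row C * (hm.col (T ν * A) * g))
  have hcolM : ∀ ν, hm.col (T ν * A) ∈ M := fun ν => by
    rw [map_mul]; exact M.mul_mem (hM _ (hTc ν) (hm.col_tensor _)) (hF.col A hA)
  have hHM : ∀ i, H i ∈ M := by
    rintro (_ | ν)
    · exact hg
    · exact M.mul_mem hg (M.mul_mem hC (M.mul_mem (hcolM ν) hg))
  have hHin : ∀ i u, InPlane qh p o ((H i).1 (vecMulVec u e)) := by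
    rintro (_ | ν) u
    · exact hin u
    · exact hkeep _ (hCkeep _ (hd.inPlane_col _ (hin u)))
  have hHZ : ∀ i, ∃ z, (H i).1 (vecMulVec z e) = Z := by
    rintro (_ | ν)
    · exact ⟨r₁, rfl⟩
    · refine ⟨(t * (ν : F))⁻¹ • u₀, ?_⟩
      show g.1 ((hm.row C).1 ((hm.col (T ν * A)).1 (g.1 (vecMulVec ((t * (ν : F))⁻¹ • u₀) e)))) = Z
      rw [smul_vecMulVec, map_smul, hru, map_smul, hm.col_pure]
      show g.1 ((hm.row C).1 ((t * (ν : F))⁻¹ • vecMulVec ((T ν).1 (A.1 r)) p)) = Z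
      rw [hAr, map_smul (T ν).1, hTr, smul_vecMulVec, smul_vecMulVec, smul_smul, smul_smul, mul_assoc,
        inv_mul_cancel₀ (mul_ne_zero ht ν.ne_zero), one_smul, hm.row_pure, hCp]
  choose z hz using hHZ
  have hHT : ∀ i, ¬ IsTensor (H i).1 := by
    intro i hTi
    obtain ⟨A', C', hA'i, hC', hAC⟩ := TensorMaxU.tensor_pure hTi
    have e1 := hAC (z i) e
    rw [hz i] at e1
    set s := A' (z i)
    set c := C' e
    have hs0 : s ≠ 0 := fun h0 => hZo (by rw [e1, h0, zero_vecMulVec, map_zero])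
    have hc : qh c = 0 := by
      obtain ⟨w, hw⟩ : ∃ w, qf (A' w) ≠ 0 := by
        obtain ⟨w₀, -, hw₀⟩ := exists_anisotropic_in hm.ndf (S := ⊤) (by rw [finrank_top, finrank_fin_fun]; omega)
        obtain ⟨w, rfl⟩ := A'.surjective_of_injective hA'i w₀
        exact ⟨w, hw₀⟩
      have h2 := apply_quad (H i) (vecMulVec w e)
      rw [hAC, hm.quad_pure, hm.quad_pure, he, mul_zero] at h2
      exact (mul_eq_zero.1 h2).resolve_left (mul_ne_zero hd.two hw)
    have hplane : InPlane qh p o (vecMulVec s c) := e1 ▸ (hz i ▸ hHin i (z i))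
    rw [InPlane, ct_vecMulVec, ct_vecMulVec, smul_vecMulVec, smul_vecMulVec, ← vecMulVec_smul, ← vecMulVec_smul,
      ← vecMulVec_add] at hplane
    have hcc : c = polar qh o c • p + polar qh p c • o := TensorMaxU.sl1_injective (b := 4) hs0 hplane
    rw [hcc, quad_add', quad_smul', quad_smul', polar_smul_l', polar_smul_r', hp.left, hp.right, hp.pair] at hc
    rcases mul_eq_zero.1 (show polar qh o c * polar qh p c = 0 by linear_combination hc) with h | h
    · exact hZo (by rw [e1, ct_vecMulVec, h, zero_smul])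
    · exact hZp (by rw [e1, ct_vecMulVec, h, zero_smul])
  -- the members are distinct
  have hdist : ∀ i j, (∀ u, ∃ u', (H i).1 (vecMulVec u e) = (H j).1 (vecMulVec u' e)) → i = j := by
    have hAα : Function.Surjective (A.1.toLinearMap ∘ₗ α) :=
      (A.1.toLinearMap ∘ₗ α).surjective_of_injective (A.1.injective.comp hαinj)
    obtain ⟨u, hu : A.1 (α u) = v⟩ := hAα v
    have hβ0 : A.1 (β u) ≠ 0 := fun h0 => by
      obtain ⟨s, rfl⟩ := Submodule.mem_span_singleton.1 (hβker (A.1.map_eq_zero_iff.1 h0))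
      rw [map_smul, map_smul, hαr, hAr, smul_smul] at hu
      exact hvr (Submodule.mem_span_singleton.2 ⟨_, hu⟩)
    have hperp1 : polar qf v (A.1 (β u)) = 0 := by
      rw [← hu, polar_isom]; exact hd.self_zero hp he0 he hin u
    have hperp2 : polar qf r₁ (A.1 (β u)) = 0 := by
      have e1 : polar qf (A.1 r) (A.1 (β u)) = 0 := (polar_isom A _ _).trans (hd.r_perp hp he0 he hin hr0 hqr hru u)
      rw [hAr, polar_smul_l'] at e1
      exact (mul_eq_zero.1 e1).resolve_left ht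
    obtain ⟨a, ha⟩ : ∃ a : F, A.1 (β u) = a • r₁ := by
      obtain ⟨_, ha, _, hb, e1⟩ := Submodule.mem_sup.1 (perp_span hm.ndf hr₁0 hr₁0 hvr
        (by rw [polar_self', hr₁, mul_zero]) hv1 hperp2)
      obtain ⟨a, rfl⟩ := Submodule.mem_span_singleton.1 ha
      obtain ⟨b, rfl⟩ := Submodule.mem_span_singleton.1 hb
      rw [← e1, polar_add_right, polar_smul_r', polar_smul_r', polar_comm qf v r₁, hv1, mul_zero, zero_add] at hperp1
      exact ⟨a, by rw [← e1, (mul_eq_zero.1 hperp1).resolve_right hvv, zero_smul, add_zero]⟩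
    have ha0 : a ≠ 0 := fun h0 => hβ0 (by rw [ha, h0, zero_smul])
    have hcomp : ∀ ν u, ct 3 qh o ((hm.col (T ν * A)).1 (g.1 (vecMulVec u e))) = (T ν).1 (A.1 (α u)) ∧
        ct 3 qh p ((hm.col (T ν * A)).1 (g.1 (vecMulVec u e))) = (T ν).1 (A.1 (β u)) :=
      fun ν u => ⟨hm.ct_col _ _ _, hm.ct_col _ _ _⟩
    have hTu : ∀ ν, (T ν).1 (A.1 (α u)) = v ∧ (T ν).1 (A.1 (β u)) = ((ν : F) * a) • r₁ := fun ν =>
      ⟨by rw [hu]; exact hTfix ν v hv1 hv2, by rw [ha, map_smul, hTr, smul_smul, mul_comm]⟩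
    have hgfalse : ∀ ν u', g.1 (vecMulVec u' e) = g.1 ((hm.row C).1 ((hm.col (T ν * A)).1 (g.1 (vecMulVec u e)))) →
        False := fun ν u' e1 => by
      have e2 : (hm.row C).1 ((hm.col (T ν * A)).1 (g.1 (vecMulVec u e))) = (hm.row C).1 (vecMulVec u' p) := by
        rw [hm.row_pure, hCp]; exact (g.1.injective e1).symm
      have e3 := congrArg (ct 3 qh p) ((hm.row C).1.injective e2)
      rw [(hcomp ν u).2, (hTu ν).2, ct_vecMulVec, hp.bb, zero_smul, smul_eq_zero] at e3
      exact e3.elim (mul_ne_zero ν.ne_zero ha0) hr₁0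
    intro i j hij
    rcases i with _ | ν <;> rcases j with _ | μ
    · rfl
    · exfalso
      -- every vector of one member is in the other
      set L : (Fin 3 → F) → Matrix (Fin 3) (Fin 4) F := fun u => (hm.row C).1 ((hm.col (T μ * A)).1 (g.1 (vecMulVec u e)))
      choose f hf using hij
      have hL : ∀ u, vecMulVec u e = L (f u) := fun u => g.1.injective (hf u)
      have hinj : Function.Injective f := fun a b hab => sl2_injective (a := 3) he0 (by
        show vecMulVec a e = vecMulVec b e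
        rw [hL, hL, hab])
      obtain ⟨u', hu'⟩ := (Finite.injective_iff_surjective.1 hinj) u
      exact hgfalse μ u' (congrArg g.1 ((hL u').trans (by rw [hu'])))
    · obtain ⟨u', hu'⟩ := hij u
      exact (hgfalse ν u' hu'.symm).elim
    · obtain ⟨u', hu'⟩ := hij u
      have e1 : (hm.col (T ν * A)).1 (g.1 (vecMulVec u e)) = (hm.col (T μ * A)).1 (g.1 (vecMulVec u' e)) :=
        (hm.row C).1.injective (g.1.injective hu')
      have eo := congrArg (ct 3 qh o) e1
      rw [(hcomp ν u).1, (hcomp μ u').1, (hTu ν).1, ← (hTu μ).1] at eo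
      have : u = u' := hαinj (A.1.injective ((T μ).1.injective eo))
      subst this
      have ep := congrArg (ct 3 qh p) e1
      rw [(hcomp ν u).2, (hcomp μ u).2, (hTu ν).2, (hTu μ).2, ← sub_eq_zero, ← sub_smul, smul_eq_zero] at ep
      exact congrArg some (Units.ext (mul_right_cancel₀ ha0 (sub_eq_zero.1 (ep.resolve_right hr₁0))))
  -- three members of one type
  have key : ∀ p' o', Pair qh p' o' → (∀ i u, InPlane qh p' o' ((H i).1 (vecMulVec u e))) → ct 3 qh p' Z ≠ 0 →
      ∀ i j k, i ≠ j → i ≠ k → j ≠ k →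
      (∀ l ∈ [i, j, k], ∃ r u, r ≠ 0 ∧ qf r = 0 ∧ (H l).1 (vecMulVec u e) = vecMulVec r p') → False := by
    intro p' o' hp' hin' hZ' i j k hij hik hjk hall
    obtain ⟨ri, ui, hri0, hqri, hui⟩ := hall i (by simp)
    obtain ⟨rj, uj, hrj0, hqrj, huj⟩ := hall j (by simp)
    obtain ⟨rk, uk, hrk0, hqrk, huk⟩ := hall k (by simp)
    have hperp : ∀ {l r u}, (H l).1 (vecMulVec u e) = vecMulVec r p' → r ≠ 0 → qf r = 0 →
        polar qf (ct 3 qh p' Z) r = 0 := fun {l r u} hu h0 hq0 => by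
      rw [polar_comm, ← hz l]
      exact hd.r_perp hp' he0 he (hin' l) h0 hq0 hu (z l)
    have heq : ∀ {l l' r r' u u'}, (H l).1 (vecMulVec u e) = vecMulVec r p' → (H l').1 (vecMulVec u' e) = vecMulVec r' p' →
        r ≠ 0 → qf r = 0 → r' ≠ 0 → r' ∈ F ∙ r → l = l' := fun {l l' r r' u u'} hu hu' h0 hq0 h0' hmem => by
      obtain ⟨s, rfl⟩ := Submodule.mem_span_singleton.1 hmem
      have hs : s ≠ 0 := fun e0 => h0' (by rw [e0, zero_smul])
      refine hdist l l' (hd.same hp' he0 he (hin' l) hM hNF (hHM l) (hHT l) h0 hq0 hu (hin' l') (hHM l') (hHT l')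
        (u₀' := s⁻¹ • u') (by rw [smul_vecMulVec, map_smul, hu', ← smul_vecMulVec, smul_smul, inv_mul_cancel₀ hs,
          one_smul]) ((hz l).trans (hz l').symm) (by rw [hz l]; exact hZ'))
    rcases two_lines hm.ndf hZ' hri0 hrj0 hqri hqrj hqrk (hperp hui hri0 hqri) (hperp huj hrj0 hqrj)
        (hperp huk hrk0 hqrk) with h | h | h
    · exact hij (heq hui huj hri0 hqri hrj0 h)
    · exact hik (heq hui huk hri0 hqri hrk0 h)
    · exact hjk (heq huj huk hrj0 hqrj hrk0 h)
  set P : Option Fˣ → Prop := fun i => ∃ r u, r ≠ 0 ∧ qf r = 0 ∧ (H i).1 (vecMulVec u e) = vecMulVec r p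
  have hcard : 5 ≤ (Finset.univ.filter P).card + (Finset.univ.filter fun i => ¬ P i).card := by
    rw [Finset.card_filter_add_card_filter_not, Finset.card_univ, Fintype.card_option, Fintype.card_units]
    omega
  rcases (show 2 < (Finset.univ.filter P).card ∨ 2 < (Finset.univ.filter fun i => ¬ P i).card by omega) with h | h
  · obtain ⟨i, j, k, hi, hj, hk, hij, hik, hjk⟩ := Finset.two_lt_card_iff.1 h
    simp only [Finset.mem_filter, Finset.mem_univ, true_and] at hi hj hk
    exact key p o hp hHin hZp i j k hij hik hjk (by simp [P, hi, hj, hk] at *; exact ⟨hi, hj, hk⟩)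
  · obtain ⟨i, j, k, hi, hj, hk, hij, hik, hjk⟩ := Finset.two_lt_card_iff.1 h
    simp only [Finset.mem_filter, Finset.mem_univ, true_and] at hi hj hk
    have hO : ∀ i, ¬ P i → ∃ r u, r ≠ 0 ∧ qf r = 0 ∧ (H i).1 (vecMulVec u e) = vecMulVec r o := fun i hPi => by
      obtain ⟨r, u, h0, hq0, hu | hu⟩ := hd.exists_type hp he0 he (hHin i) hM hNF (hHM i) (hHT i)
      · exact absurd ⟨r, u, h0, hq0, hu⟩ hPi
      · exact ⟨r, u, h0, hq0, hu⟩
    refine key o p hp.symm (fun i u => (hHin i u).symm) hZo i j k hij hik hjk fun l hl => hO l ?_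
    rcases List.mem_cons.1 hl with rfl | hl
    · exact hi
    rcases List.mem_cons.1 hl with rfl | hl
    · exact hj
    · rw [List.mem_singleton] at hl; exact hl ▸ hk

/-- An element preserving the product with a hyperbolic plane is a tensor map. -/
theorem tensor_of_plane (hM : ContainsTensor M) (hNF : SliceFree M qh) (hq : 5 ≤ Fintype.card F) {b d : Fin 4 → F}
    (hp : Pair qh b d) {g : orthGroup Q} (hg : g ∈ M)
    (hkeep : ∀ Z, InPlane qh b d Z → InPlane qh b d (g.1 Z)) : IsTensor g.1 := by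
  by_contra hT
  have hpb : ∀ u : Fin 3 → F, InPlane qh b d (vecMulVec u b) := fun u => by
    have h := InPlane.mk hp u 0
    rwa [zero_vecMulVec, add_zero] at h
  obtain ⟨r, u₀, hr0, hqr, hu | hu⟩ :=
    hd.exists_type hp hp.left_ne hp.left (fun u => hkeep _ (hpb u)) hM hNF hg hT
  · exact hd.plane_aux hM hNF hq hp hp.left_ne hp.left hg hT hkeep hpb (C := 1) (by rw [map_one]; exact M.one_mem) rfl
      (fun Z hZ => by rw [map_one]; exact hZ) hr0 hqr hu
  · obtain ⟨C, hC, hCb, hCd⟩ := hd.exists_swap hp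
    refine hd.plane_aux hM hNF hq hp.symm hp.left_ne hp.left hg hT (fun Z hZ => (hkeep Z hZ.symm).symm)
      (fun u => (hpb u).symm) (hM _ hC (hd.model.row_tensor C)) hCd (fun Z hZ => ?_) hr0 hqr hu
    rw [show Z = _ from hZ, map_add, hd.model.row_pure, hd.model.row_pure, hCb, hCd, add_comm]
    exact InPlane.mk hp.symm _ _

end Data

end CfsgLib.Classical.TensorMax34
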