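import Cfsg.Agent.Lib.Classical.TensorMax34.Frame
import Cfsg.Agent.Lib.Classical.TensorMax34.Plane

/-!
# Involutions in an overgroup

An overgroup of the tensor maps in which only tensor maps send a singular slice to a slice consists of tensor maps.
-/

set_option autoImplicit false
set_option linter.unusedSectionVars false

namespace CfsgLib.Classical.TensorMax34

open Matrix Module QuadraticMap CfsgLib.Orth CfsgLib.Classical CfsgLib.Classical.TensorMaxO
open CfsgLib.Classical.TensorMax (IsTensor)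
open CfsgLib.Classical.TensorMaxU (vecMulVec_row sl1 sl2 sl2_injective)

/-- Two involutions in different classes give a further involution commuting with both. -/
theorem exists_dihedral {G : Type*} [Group G] [Finite G] {α : Type*} (f : G → α)
    (hf : ∀ g k, f (g * k * g⁻¹) = f k) {s t : G} (hs : s * s = 1) (ht : t * t = 1) (hne : f s ≠ f t) :
    ∃ z : G, (∀ H : Subgroup G, s ∈ H → t ∈ H → z ∈ H) ∧ z ≠ 1 ∧ z * z = 1 ∧ Commute z s ∧ Commute z t ∧
      (∀ k, Commute k s → Commute k t → Commute k z) ∧ (f t = f (s * z) ∨ f t = f (t * z)) := by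
  set u := s * t with hu
  have hsi : s⁻¹ = s := inv_eq_of_mul_eq_one_right hs
  have hti : t⁻¹ = t := inv_eq_of_mul_eq_one_right ht
  have htu : t = s * u := by rw [hu, ← _root_.mul_assoc, hs, _root_.one_mul]
  have hsu : s * u * s⁻¹ = u⁻¹ := by
    rw [hu, _root_.mul_inv_rev, hsi, hti, ← _root_.mul_assoc, hs, _root_.one_mul]
  have hz : ∀ j : ℤ, u ^ j * s = s * u ^ (-j) := fun j => by
    have h := _root_.conj_zpow (a := s) (b := u) (i := j)
    rw [hsu, _root_.inv_zpow', hsi] at h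
    rw [h, ← _root_.mul_assoc, ← _root_.mul_assoc, hs, _root_.one_mul]
  have key : ∀ j k : ℤ, f (s * u ^ (k - 2 * j)) = f (s * u ^ k) := fun j k => by
    rw [← hf (u ^ j) (s * u ^ k), ← _root_.mul_assoc, hz, ← _root_.zpow_neg, _root_.mul_assoc, _root_.mul_assoc, ← _root_.zpow_add, ← _root_.zpow_add]
    congr 3
    ring
  have hn := orderOf_pos u
  have hun : u ^ (orderOf u : ℤ) = 1 := by rw [_root_.zpow_natCast, pow_orderOf_eq_one]
  rcases Nat.even_or_odd' (orderOf u) with ⟨m, hm | hm⟩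
  · have hz1 : u ^ m ≠ 1 := fun h => by
      have := Nat.le_of_dvd (by omega) (orderOf_dvd_of_pow_eq_one h)
      omega
    have hzz : u ^ m * u ^ m = 1 := by rw [← pow_add, ← two_mul, ← hm, pow_orderOf_eq_one]
    have hzs : Commute (u ^ m) s := by
      have h := hz m
      rw [_root_.zpow_neg, _root_.zpow_natCast, inv_eq_of_mul_eq_one_right hzz] at h
      exact h
    refine ⟨u ^ m, fun H h1 h2 => H.pow_mem (H.mul_mem h1 h2) m, hz1, hzz, hzs, ?_,
      fun k h1 h2 => (h1.mul_right h2).pow_right m, ?_⟩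
    · conv => arg 2; rw [htu]
      exact hzs.mul_right ((Commute.refl u).pow_left m)
    rcases Nat.even_or_odd' m with ⟨i, hi | hi⟩
    · right
      have h := key i 1
      rw [_root_.zpow_one, ← htu] at h
      rw [← h]
      congr 1
      rw [htu, _root_.mul_assoc, _root_.zpow_sub, _root_.zpow_one, show (2 * (i : ℤ)) = ((m : ℕ) : ℤ) by rw [hi]; push_cast; ring,
        _root_.zpow_natCast, inv_eq_of_mul_eq_one_right hzz]
    · left
      have h := key (-(i : ℤ)) 1
      rw [_root_.zpow_one, ← htu, show (1 : ℤ) - 2 * -(i : ℤ) = ((m : ℕ) : ℤ) by rw [hi]; push_cast; ring, _root_.zpow_natCast] at h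
      exact h.symm
  · exfalso
    have h := key ((m : ℤ) + 1) 1
    rw [_root_.zpow_one, ← htu, show (1 : ℤ) - 2 * ((m : ℤ) + 1) = -(orderOf u : ℤ) by rw [hm]; push_cast; ring, _root_.zpow_neg,
      hun, _root_.inv_one, _root_.mul_one] at h
    exact hne h

variable {F : Type*} [Field F] {Q : QuadraticForm F (Matrix (Fin 3) (Fin 4) F)} {qf : QuadraticForm F (Fin 3 → F)}
  {qh : QuadraticForm F (Fin 4 → F)} {M : Subgroup (orthGroup Q)}

theorem trQ_smul_of {V : Type*} [AddCommGroup V] [Module F V] {q : QuadraticForm F V} {g k : orthGroup q} {ε : F}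
    (h : ∀ v, g.1 v = ε • k.1 v) : trQ g = ε * trQ k := by
  rw [trQ, trQ, show (g.1 : V →ₗ[F] V) = ε • (k.1 : V →ₗ[F] V) from LinearMap.ext h, map_smul, smul_eq_mul]

theorem commute_apply {g k : orthGroup Q} (h : Commute g k) (X : Matrix (Fin 3) (Fin 4) F) :
    g.1 (k.1 X) = k.1 (g.1 X) := congrArg (fun j : orthGroup Q => j.1 X) h.eq

theorem orth_ext_pure {g k : orthGroup Q} (h : ∀ u w, g.1 (vecMulVec u w) = k.1 (vecMulVec u w)) : g = k :=
  Subtype.ext (LinearEquiv.toLinearMap_injective (ext_pure h))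

theorem pure_left {A₁ A₂ : (Fin 3 → F) →ₗ[F] (Fin 3 → F)} {S₁ S₂ : (Fin 4 → F) →ₗ[F] (Fin 4 → F)}
    (h : ∀ u w, vecMulVec (A₁ u) (S₁ w) = vecMulVec (A₂ u) (S₂ w)) {w₀ : Fin 4 → F} (hw : S₁ w₀ ≠ 0) :
    ∃ c : F, ∀ u, A₁ u = c • A₂ u := by
  obtain ⟨j, hj⟩ := Function.ne_iff.1 hw
  refine ⟨S₂ w₀ j / S₁ w₀ j, fun u => funext fun i => ?_⟩
  have e := congrFun (congrFun (h u w₀) i) j
  rw [vecMulVec_apply, vecMulVec_apply] at e
  rw [Pi.smul_apply, smul_eq_mul, div_mul_eq_mul_div, eq_div_iff (show S₁ w₀ j ≠ 0 from hj)]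
  linear_combination e

theorem pure_right {A₁ A₂ : (Fin 3 → F) →ₗ[F] (Fin 3 → F)} {S₁ S₂ : (Fin 4 → F) →ₗ[F] (Fin 4 → F)}
    (h : ∀ u w, vecMulVec (A₁ u) (S₁ w) = vecMulVec (A₂ u) (S₂ w)) {u₀ : Fin 3 → F} (hu : A₂ u₀ ≠ 0) :
    ∃ c : F, ∀ w, S₂ w = c • S₁ w := by
  obtain ⟨i, hi⟩ := Function.ne_iff.1 hu
  refine ⟨A₁ u₀ i / A₂ u₀ i, fun w => funext fun j => ?_⟩
  have e := congrFun (congrFun (h u₀ w) i) j
  rw [vecMulVec_apply, vecMulVec_apply] at e
  rw [Pi.smul_apply, smul_eq_mul, div_mul_eq_mul_div, eq_div_iff (show A₂ u₀ i ≠ 0 from hi)]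
  linear_combination -e

namespace Data

variable (hd : Data Q qf qh) [Fintype F]
include hd

theorem turn_turn {x : Fin 3 → F} (hx : qf x ≠ 0) (u : Fin 3 → F) : turn qf x (turn qf x u) = u := by
  rw [turn_apply, turn_apply, polar_sub_right, polar_smul_r', polar_self']
  match_scalars <;> field_simp <;> ring

theorem turn_smul {x : Fin 3 → F} {c : F} (hc : c ≠ 0) : turn qf (c • x) = turn qf x :=
  LinearMap.ext fun u => by
    rw [turn_apply, turn_apply, quad_smul', polar_smul_l', smul_smul]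
    congr 2
    field_simp

theorem turn_perp {x u : Fin 3 → F} (h : polar qf x u = 0) : turn qf x u = -u := by
  rw [turn_apply, h, mul_zero, zero_smul, zero_sub]

theorem exists_perp (x : Fin 3 → F) : ∃ v, v ≠ 0 ∧ polar qf x v = 0 := by
  obtain ⟨v, hv, hv0⟩ := Submodule.exists_mem_ne_zero_of_ne_bot (p := LinearMap.ker (polarBilin qf x)) fun h => by
    have := finrank_kerPolar (Q := qf) x
    rw [h, finrank_bot] at this
    rw [finrank_fin_fun] at this
    omega
  exact ⟨v, hv0, hv⟩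

theorem turn_ne_scalar {x : Fin 3 → F} (hx : qf x ≠ 0) (c : F) : ∃ u, turn qf x u ≠ c • u := by
  by_contra! hall
  obtain ⟨v, hv0, hv⟩ := hd.exists_perp x
  have hx0 : x ≠ 0 := fun h => hx (by rw [h, QuadraticMap.map_zero])
  have e1 : c = 1 := smul_left_injective F hx0 ((hall x).symm.trans ((hd.turn_self hx).trans (one_smul F x).symm))
  have e2 : c = -1 := smul_left_injective F hv0
    ((hall v).symm.trans ((hd.turn_perp hv).trans (neg_one_smul F v).symm))
  exact hd.two (by linear_combination e2 - e1)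

theorem half_ne_scalar {b d : Fin 4 → F} (hp : Pair qh b d) (c : F) : ∃ w, half qh b d w ≠ c • w := by
  by_contra! hall
  obtain ⟨e, eb, ed, hqe⟩ := hd.perp_universal hp (one_ne_zero (α := F))
  have e1 : half qh b d b = b := by
    rw [half_apply, hp.bb, hp.db, mul_zero, zero_smul, mul_one]; module
  have k1 : c = 1 := smul_left_injective F hp.left_ne ((hall b).symm.trans (e1.trans (one_smul F b).symm))
  have he0 : e ≠ 0 := fun h => by rw [h, QuadraticMap.map_zero] at hqe; exact zero_ne_one hqe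
  have k2 : c = -1 := smul_left_injective F he0 ((hall e).symm.trans ((half_perp eb ed).trans (neg_one_smul F e).symm))
  exact hd.two (by linear_combination k2 - k1)

/-- Maps commuting with a signed half turn of the second factor preserve its plane. -/
theorem keeps_of_commute {g k : orthGroup Q} {b d : Fin 4 → F} (hp : Pair qh b d) {κ : F} (hκ : κ ≠ 0)
    (hk : ∀ u w, k.1 (vecMulVec u w) = κ • vecMulVec u (half qh b d w)) (hc : Commute g k)
    (Z : Matrix (Fin 3) (Fin 4) F) (hZ : InPlane qh b d Z) : InPlane qh b d (g.1 Z) := by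
  have key : ∀ Y, k.1 Y + κ • Y = (2 * κ) • (vecMulVec (ct 3 qh d Y) b + vecMulVec (ct 3 qh b Y) d) := fun Y =>
    LinearMap.congr_fun (ext_pure (φ := k.1.toLinearMap + κ • LinearMap.id)
      (ψ := (2 * κ) • (sl2 3 b ∘ₗ ct 3 qh d + sl2 3 d ∘ₗ ct 3 qh b)) fun u w => by
        show k.1 (vecMulVec u w) + κ • vecMulVec u w =
          (2 * κ) • (vecMulVec (ct 3 qh d (vecMulVec u w)) b + vecMulVec (ct 3 qh b (vecMulVec u w)) d)
        rw [hk, half_apply, ct_vecMulVec, ct_vecMulVec, vecMulVec_sub, vecMulVec_add, vecMulVec_smul, vecMulVec_smul,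
          smul_vecMulVec, smul_vecMulVec]
        module) Y
  have e1 : k.1 Z = κ • Z := by
    have e := key Z
    rw [← show Z = _ from hZ] at e
    linear_combination (norm := module) e
  have e2 := key (g.1 Z)
  rw [← commute_apply hc, e1, map_smul, ← add_smul, ← two_mul] at e2
  exact smul_right_injective _ (mul_ne_zero hd.two hκ) e2

variable (hM : ContainsTensor M) (hMc : M ≤ commutator (orthGroup Q)) (hNF : SliceFree M qh)
  (hq : 5 ≤ Fintype.card F)
include hM hMc hNF hq

/-- An element commuting with a signed product of two reflections is a tensor map. -/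
theorem tensor_of_commute_flip {g σ : orthGroup Q} (hg : g ∈ M) {b d e e' : Fin 4 → F} {a : F}
    (h : Frame qh b d a e e') {κ : F} (hκ : κ ≠ 0)
    (hσ : ∀ u w, σ.1 (vecMulVec u w) = κ • vecMulVec u ((flip2 qh b d a e).1 w)) (hc : Commute g σ) :
    IsTensor g.1 := by
  rcases hd.row_involution _ (hd.flip_sq h) (hd.det_flip h) with ⟨ε, -, hε⟩ | ⟨b₃, d₃, ε, hp, hε, hR⟩
  · obtain ⟨w, hw⟩ := hd.flip_ne_scalar h ε
    exact absurd (hε w) hw
  · have hε0 : ε ≠ 0 := by rcases hε with rfl | rfl <;> simp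
    exact hd.tensor_of_plane hM hNF hq hp hg fun Z hZ => hd.keeps_of_commute hp (mul_ne_zero hκ hε0)
      (fun u w => by rw [hσ, hR, vecMulVec_smul, smul_smul]) hc Z hZ

variable {τ : orthGroup Q} (hτ : τ ∈ M) (hτT : ¬ IsTensor τ.1)
include hτ hτT

/-- An involution commuting with `τ` is the product of two half turns. -/
theorem kind_two {z : orthGroup Q} (hz : z ∈ M) (hz2 : z * z = 1) (hzT : IsTensor z.1)
    (hns : ∀ ε : F, ε = 1 ∨ ε = -1 → ¬ ∀ X, z.1 X = ε • X) (hc : Commute τ z) :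
    ∃ (x : Fin 3 → F) (δ : F) (b d : Fin 4 → F), qf x ≠ 0 ∧ (δ = 1 ∨ δ = -1) ∧ Pair qh b d ∧
      ∀ u w, z.1 (vecMulVec u w) = δ • vecMulVec (turn qf x u) (half qh b d w) := by
  rcases hd.involution_cases (hMc hz) hzT hz2 with ⟨ε, hε, hk⟩ | ⟨x, ε, hx, hε, hk⟩ | ⟨b, d, A, hp, hA, hk⟩
  · exact absurd hk (hns ε hε)
  · have hε0 : ε ≠ 0 := by rcases hε with rfl | rfl <;> simp
    exact absurd (hd.tensor_of_turn hM hNF hτ hx hx hε0 hk hk (commute_apply hc)) hτT
  · rcases hd.col_involution A hA with ⟨ε, hε, hAu⟩ | ⟨x, δ, hx, hδ, hAu⟩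
    · have hε0 : ε ≠ 0 := by rcases hε with rfl | rfl <;> simp
      exact absurd (hd.tensor_of_plane hM hNF hq hp hτ fun Z hZ => hd.keeps_of_commute hp hε0
        (fun u w => by rw [hk, hAu, smul_vecMulVec]) hc Z hZ) hτT
    · exact ⟨x, δ, b, d, hx, hδ, hp, fun u w => by rw [hk, hAu, smul_vecMulVec]⟩

variable (hτ2 : τ * τ = 1) (hτr : trQ τ = -4)
include hτ2 hτr

/-- The involution attached to a signed product of two reflections. -/
theorem exists_round {b d e e' : Fin 4 → F} {a : F} (h : Frame qh b d a e e') :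
    ∃ (σ z : orthGroup Q) (κ : F), κ ≠ 0 ∧ (∀ u w, σ.1 (vecMulVec u w) = κ • vecMulVec u ((flip2 qh b d a e).1 w)) ∧
      z ∈ M ∧ z * z = 1 ∧ IsTensor z.1 ∧ Commute z σ ∧ Commute τ z ∧
      (∀ ε : F, ε = 1 ∨ ε = -1 → ¬ ∀ X, z.1 X = ε • X) ∧
      (∀ k, Commute k σ → Commute k τ → Commute k z) ∧ (trQ τ = trQ (σ * z) ∨ trQ τ = trQ (τ * z)) := by
  haveI := hd.finite_orth
  obtain ⟨σ, κ, hσc, hσT, hκ, hσ⟩ := hd.exists_flip_mem h
  have hκ0 : κ ≠ 0 := by rcases hκ with rfl | rfl <;> simp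
  have hσM : σ ∈ M := hM σ hσc hσT
  have hσ2 : σ * σ = 1 := orth_ext_pure fun u w => by
    rw [TensorMaxO.mul_apply', hσ, map_smul, hσ, smul_smul,
      show (flip2 qh b d a e).1 ((flip2 qh b d a e).1 w) = w from (mul_self_one_iff _).1 (hd.flip_sq h) w,
      show κ * κ = 1 by rcases hκ with rfl | rfl <;> ring, one_smul]
    rfl
  have htrR : LinearMap.trace F _ ((flip2 qh b d a e).1 : (Fin 4 → F) →ₗ[F] (Fin 4 → F)) = 0 := by
    rw [show ((flip2 qh b d a e).1 : (Fin 4 → F) →ₗ[F] (Fin 4 → F)) = LinearMap.id -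
      (a⁻¹ • polarBilin qh (b + a • d)).smulRight (b + a • d) - ((qh e)⁻¹ • polarBilin qh e).smulRight e from
      LinearMap.ext fun w => h.flip_apply w, map_sub, map_sub, LinearMap.trace_id, LinearMap.trace_smulRight,
      LinearMap.trace_smulRight, finrank_fin_fun]
    simp only [LinearMap.smul_apply, QuadraticMap.polarBilin_apply_apply, polar_self', h.qp, smul_eq_mul]
    have := h.a0
    have := h.qe
    field_simp
    push_cast
    ring
  have hσr : trQ σ = 0 := by
    rw [hd.trQ_pure σ (κ • LinearMap.id) ((flip2 qh b d a e).1 : (Fin 4 → F) →ₗ[F] (Fin 4 → F)) (fun u w => by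
      rw [hσ, LinearMap.smul_apply, LinearMap.id_apply, smul_vecMulVec]; rfl), htrR, mul_zero]
  have h4 : (-4 : F) ≠ 0 := fun e0 => mul_ne_zero hd.two hd.two (by linear_combination -e0)
  obtain ⟨z, hzH, hz1, hz2, hzs, hzt, hzk, hdisj⟩ := exists_dihedral (trQ (F := F)) trQ_conj hσ2 hτ2
    (by rw [hσr, hτr]; exact h4.symm)
  refine ⟨σ, z, κ, hκ0, hσ, hzH M hσM hτ, hz2,
    hd.tensor_of_commute_flip hM hMc hNF hq (hzH M hσM hτ) h hκ0 hσ hzs, hzs, hzt.symm, ?_, hzk, hdisj⟩
  intro ε hε hall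
  rcases hdisj with e1 | e1
  · rw [hτr, trQ_smul_of (g := σ * z) (k := σ) (fun X => by rw [TensorMaxO.mul_apply', hall, map_smul]), hσr,
      mul_zero] at e1
    exact h4 e1
  · rw [hτr, trQ_smul_of (g := τ * z) (k := τ) (fun X => by rw [TensorMaxO.mul_apply', hall, map_smul]), hτr] at e1
    rcases hε with rfl | rfl
    · exact hz1 (Subtype.ext (LinearEquiv.ext fun X => (hall X).trans (one_smul F X)))
    · exact mul_ne_zero (mul_ne_zero hd.two hd.two) hd.two (by linear_combination -e1)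

/-- A product of two reflections is paired with a half turn commuting with the given one. -/
theorem exists_partner_turn {z : orthGroup Q} (hz : z ∈ M) (hz2 : z * z = 1) (hzc : Commute τ z)
    (hzT : IsTensor z.1) (hztr : trQ (τ * z) = 0) {x : Fin 3 → F} {δ : F} {b d : Fin 4 → F} (hx : qf x ≠ 0)
    (hδ : δ ≠ 0) (hzp : ∀ u w, z.1 (vecMulVec u w) = δ • vecMulVec (turn qf x u) (half qh b d w))
    {e e' : Fin 4 → F} {a : F} (h : Frame qh b d a e e') :
    ∃ (y : Fin 3 → F) (κ : F) (Z : orthGroup Q), qf y ≠ 0 ∧ polar qf x y = 0 ∧ κ ≠ 0 ∧ Commute τ Z ∧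
      ∀ u w, Z.1 (vecMulVec u w) = κ • vecMulVec (turn qf y u) ((flip2 qh b d a e).1 w) := by
  classical
  have h2 := hd.two
  obtain ⟨σ, z₂, κ, hκ, hσ, hz₂, hz₂2, hz₂T, hz₂σ, hz₂τ, hns₂, hzk, hdisj⟩ :=
    hd.exists_round hM hMc hNF hq hτ hτT hτ2 hτr h
  set R := ((flip2 qh b d a e).1 : (Fin 4 → F) →ₗ[F] (Fin 4 → F)) with hR
  have hσ' : ∀ u w, σ.1 (vecMulVec u w) = κ • vecMulVec u (R w) := hσ
  have hzσ : Commute z σ := orth_ext_pure fun u w => by
    rw [TensorMaxO.mul_apply', TensorMaxO.mul_apply', hσ', map_smul, hzp, hzp, map_smul, hσ', smul_comm]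
    rw [show R (half qh b d w) = half qh b d (R w) from hd.flip_half h w]
  have hzz₂ : Commute z z₂ := hzk z hzσ hzc.symm
  -- the second involution is not the first one
  have hne : ∀ ε : F, ¬ ∀ X, z₂.1 X = ε • z.1 X := by
    intro ε hall
    have h4 : (-4 : F) ≠ 0 := fun e0 => mul_ne_zero h2 h2 (by linear_combination -e0)
    have hσz : trQ (σ * z) = 0 := by
      rw [hd.trQ_pure (σ * z) ((δ * κ) • turn qf x) (R ∘ₗ half qh b d) (fun u w => by
        rw [TensorMaxO.mul_apply', hzp, map_smul, hσ', smul_smul, LinearMap.smul_apply, smul_vecMulVec,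
          LinearMap.comp_apply]), hd.trace_flip_half h, mul_zero]
    rcases hdisj with e1 | e1
    · rw [hτr, trQ_smul_of (g := σ * z₂) (k := σ * z) (fun X => by rw [TensorMaxO.mul_apply', hall, map_smul]; rfl),
        hσz, mul_zero] at e1
      exact h4 e1
    · rw [hτr, trQ_smul_of (g := τ * z₂) (k := τ * z) (fun X => by rw [TensorMaxO.mul_apply', hall, map_smul]; rfl),
        hztr, mul_zero] at e1
      exact h4 e1
  obtain ⟨x₂, δ₂, b₂, d₂, hx₂, hδ₂, hp₂, hz₂p⟩ := hd.kind_two hM hMc hNF hq hτ hτT hz₂ hz₂2 hz₂T hns₂ hz₂τ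
  have hδ₂0 : δ₂ ≠ 0 := by rcases hδ₂ with rfl | rfl <;> simp
  set z₃ := z * z₂
  have hz₃ns : ∀ ε : F, ε = 1 ∨ ε = -1 → ¬ ∀ X, z₃.1 X = ε • X := fun ε _ hall => hne ε fun X => by
    rw [← map_smul, ← hall]
    exact ((mul_self_one_iff z).1 hz2 _).symm
  have hz₃2 : z₃ * z₃ = 1 := by
    show z * z₂ * (z * z₂) = 1
    rw [mul_assoc, ← mul_assoc z₂, ← hzz₂.eq, mul_assoc z, hz₂2, mul_one, hz2]
  obtain ⟨x₃, δ₃, b₃, d₃, hx₃, hδ₃, hp₃, hz₃p⟩ :=
    hd.kind_two hM hMc hNF hq hτ hτT (M.mul_mem hz hz₂) hz₃2 (hzT.mul hz₂T) hz₃ns (hzc.mul_right hz₂τ)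
  have hδ₃0 : δ₃ ≠ 0 := by rcases hδ₃ with rfl | rfl <;> simp
  set S := half qh b₂ d₂
  set s := half qh b d
  set t := turn qf x
  set t₂ := turn qf x₂
  have hz₃' : ∀ u w, z₃.1 (vecMulVec u w) = (δ₂ * δ) • vecMulVec (t (t₂ u)) (s (S w)) := fun u w => by
    rw [TensorMaxO.mul_apply', hz₂p, map_smul, hzp, smul_smul]
  -- the factors commute
  have hx₂0 : x₂ ≠ 0 := fun e0 => hx₂ (by rw [e0, QuadraticMap.map_zero])
  have htt : ∀ u w, vecMulVec (t (t₂ u)) (s (S w)) = vecMulVec (t₂ (t u)) (S (s w)) := fun u w => by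
    have e1 := commute_apply hzz₂ (vecMulVec u w)
    rw [hz₂p, map_smul, hzp, hzp, map_smul, hz₂p, smul_smul, smul_smul, mul_comm δ δ₂] at e1
    exact smul_right_injective _ (mul_ne_zero hδ₂0 hδ) e1
  obtain ⟨w₀, hw₀⟩ : ∃ w₀, w₀ ≠ (0 : Fin 4 → F) := ⟨b, h.pair.left_ne⟩
  have hsS0 : s (S w₀) ≠ 0 := fun e0 => hw₀ (by
    rw [← half_half hp₂ w₀, show half qh b₂ d₂ w₀ = s (s (S w₀)) from (half_half h.pair _).symm, e0, map_zero, map_zero])
  obtain ⟨c, hc⟩ := pure_left (A₁ := t ∘ₗ t₂) (A₂ := t₂ ∘ₗ t) (S₁ := s ∘ₗ S) (S₂ := S ∘ₗ s) htt hsS0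
  have htc : ∀ u, t (t₂ u) = t₂ (t u) := by
    have e1 : t₂ * (t * t₂) = c • t := LinearMap.ext fun u => by
      show t₂ (t (t₂ u)) = c • t u
      rw [show t (t₂ u) = c • t₂ (t u) from hc u, map_smul, hd.turn_turn hx₂]
    have e2 := congrArg (LinearMap.trace F (Fin 3 → F)) e1
    rw [LinearMap.trace_mul_comm, mul_assoc, show t₂ * t₂ = 1 from LinearMap.ext (hd.turn_turn hx₂), mul_one,
      map_smul, hd.trace_turn hx, smul_eq_mul] at e2
    have hc1 : c = 1 := by linear_combination e2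
    exact fun u => by rw [show t (t₂ u) = c • t₂ (t u) from hc u, hc1, one_smul]
  have hu₀ : t (t₂ x₂) ≠ 0 := fun e0 => hx₂0 (by
    rw [← hd.turn_turn hx x₂, ← hd.turn_self hx₂, e0, map_zero])
  have hsS : ∀ w, s (S w) = S (s w) := fun w => TensorMaxU.sl1_injective (b := 4) hu₀ (by
    show vecMulVec (t (t₂ x₂)) (s (S w)) = vecMulVec (t (t₂ x₂)) (S (s w))
    rw [htt, htc])
  have hRS : ∀ w, R (S w) = S (R w) := fun w => TensorMaxU.sl1_injective (b := 4) hx₂0 (by
    show vecMulVec x₂ (R (S w)) = vecMulVec x₂ (S (R w))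
    have e1 := commute_apply hz₂σ (vecMulVec x₂ w)
    rw [hz₂p, map_smul, hσ', map_smul, hσ', hz₂p, smul_smul, smul_smul, mul_comm κ δ₂, hd.turn_self hx₂] at e1
    exact (smul_right_injective _ (mul_ne_zero hδ₂0 hκ) e1).symm)
  -- the first factors are orthogonal
  have hxx : polar qf x x₂ = 0 := by
    by_contra hne0
    set v := t₂ x with hv
    have htv : t v = v := by
      rw [hv, htc, show t x = x from hd.turn_self hx]
    rw [show t v = _ from turn_apply qf x v] at htv
    have hvx : v = ((2 : F)⁻¹ * ((qf x)⁻¹ * polar qf x v)) • x := by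
      rw [mul_smul, sub_eq_iff_eq_add.1 htv, ← two_smul F v, smul_smul, inv_mul_cancel₀ h2, one_smul]
    set r := (2 : F)⁻¹ * ((qf x)⁻¹ * polar qf x v)
    have hcx : ((qf x₂)⁻¹ * polar qf x₂ x) • x₂ = (r + 1) • x := by
      rw [add_smul, one_smul, ← hvx, hv, show t₂ x = _ from turn_apply qf x₂ x, sub_add_cancel]
    have hne1 : (qf x₂)⁻¹ * polar qf x₂ x ≠ 0 := mul_ne_zero (inv_ne_zero hx₂) (by rwa [polar_comm])
    have hx₂x : x₂ = (((qf x₂)⁻¹ * polar qf x₂ x)⁻¹ * (r + 1)) • x := by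
      rw [mul_smul, ← hcx, smul_smul, inv_mul_cancel₀ hne1, one_smul]
    have hteq : t₂ = t := by
      show turn qf x₂ = turn qf x
      rw [hx₂x]
      exact hd.turn_smul fun e0 => hx₂0 (by rw [hx₂x, e0, zero_smul])
    obtain ⟨c', hc'⟩ := pure_left (A₁ := δ₃ • turn qf x₃) (A₂ := (δ₂ * δ) • LinearMap.id) (S₁ := half qh b₃ d₃)
      (S₂ := s ∘ₗ S) (fun u w => by
        rw [LinearMap.smul_apply, smul_vecMulVec, ← hz₃p, hz₃', hteq, hd.turn_turn hx, LinearMap.smul_apply,
          LinearMap.id_apply, smul_vecMulVec]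
        rfl) (w₀ := b₃) (fun e0 => hp₃.left_ne (by rw [← half_half hp₃ b₃, e0, map_zero]))
    obtain ⟨u, hu⟩ := hd.turn_ne_scalar hx₃ (δ₃⁻¹ * (c' * (δ₂ * δ)))
    refine hu ?_
    have e1 := hc' u
    simp only [LinearMap.smul_apply, LinearMap.id_apply, smul_smul] at e1
    rw [mul_smul, ← e1, smul_smul, inv_mul_cancel₀ hδ₃0, one_smul]
  -- the common eigenvectors
  have hjoint : ∀ (v : Fin 4 → F) (ε₁ ε₂ : F), ε₁ * ε₁ = 1 → ε₂ * ε₂ = 1 → s v = ε₁ • v → R v = ε₂ • v →
      ∃ c₁ c₂ c₃ c₄ : F,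
      (4 : F) • v = (c₁ * ((1 + ε₁) * (1 - ε₂))) • (b + a • d) + (c₂ * ((1 + ε₁) * (1 + ε₂))) • (b + (-a) • d) +
        (c₃ * ((1 - ε₁) * (1 - ε₂))) • e + (c₄ * ((1 - ε₁) * (1 + ε₂))) • e' := by
    intro v ε₁ ε₂ h11 h22 hs hRv
    obtain ⟨c₁, c₂, c₃, c₄, e1⟩ := hd.frame_span h v
    refine ⟨c₁, c₂, c₃, c₄, ?_⟩
    have key : (4 : F) • v = v + ε₁ • s v + ε₂ • R v + (ε₁ * ε₂) • R (s v) := by
      rw [hs, map_smul, hRv, smul_smul, smul_smul, smul_smul, smul_smul, h11, h22,
        show ε₁ * ε₂ * ε₁ * ε₂ = 1 by linear_combination (ε₂ * ε₂) * h11 + h22]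
      module
    have lin : ∀ (T : (Fin 4 → F) →ₗ[F] (Fin 4 → F)) (P₁ P₂ P₃ P₄ : Fin 4 → F),
        T (c₁ • P₁ + c₂ • P₂ + c₃ • P₃ + c₄ • P₄) = c₁ • T P₁ + c₂ • T P₂ + c₃ • T P₃ + c₄ • T P₄ := fun T _ _ _ _ => by
      simp only [map_add, map_smul]
    rw [key, e1, lin, lin, show s (b + a • d) = _ from h.half_p, show s (b + (-a) • d) = _ from h.half_p',
      show s e = _ from h.half_e, show s e' = _ from h.half_e', lin, map_neg, map_neg,
      show R (b + a • d) = _ from h.flip_p, show R (b + (-a) • d) = _ from h.flip_p',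
      show R e = _ from h.flip_e, show R e' = _ from h.flip_e']
    module
  have hsR : ∀ (v : Fin 4 → F) (ε₁ ε₂ : F), s v = ε₁ • v → R v = ε₂ • v →
      s (S v) = ε₁ • S v ∧ R (S v) = ε₂ • S v := fun v ε₁ ε₂ h1 h2 =>
    ⟨by rw [hsS, h1, map_smul], by rw [hRS, h2, map_smul]⟩
  have hsgn : ∀ (v : Fin 4 → F) (c : F), v ≠ 0 → S v = c • v → c = 1 ∨ c = -1 := fun v c hv hS => by
    refine mul_self_eq_one_iff.1 (smul_left_injective F hv ?_)
    show (c * c) • v = (1 : F) • v
    rw [mul_smul, ← hS, ← map_smul, ← hS, half_half hp₂, one_smul]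
  have h4 : (4 : F) ≠ 0 := fun e0 => mul_ne_zero h2 h2 (by linear_combination e0)
  have cancel4 : ∀ {v v' : Fin 4 → F} {c : F}, (4 : F) • v = c • v' → v = ((4 : F)⁻¹ * c) • v' := fun e0 => by
    rw [mul_smul, ← e0, smul_smul, inv_mul_cancel₀ h4, one_smul]
  have hp0 : ∀ {v : Fin 4 → F}, qh v ≠ 0 → v ≠ 0 := fun hv e0 => hv (by rw [e0, QuadraticMap.map_zero])
  obtain ⟨μ₁, hμ₁, hS₁⟩ : ∃ μ : F, (μ = 1 ∨ μ = -1) ∧ S (b + a • d) = μ • (b + a • d) := by
    obtain ⟨e1, e2⟩ := hsR _ 1 (-1) (by rw [one_smul]; exact h.half_p) (by rw [neg_one_smul]; exact h.flip_p)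
    obtain ⟨c₁, c₂, c₃, c₄, e3⟩ := hjoint _ 1 (-1) (by ring) (by ring) e1 e2
    simp only [sub_self, add_neg_cancel, mul_zero, zero_mul, zero_smul, add_zero] at e3
    exact ⟨_, hsgn _ _ (hp0 (by rw [h.qp]; exact h.a0)) (cancel4 e3), cancel4 e3⟩
  obtain ⟨μ₂, hμ₂, hS₂⟩ : ∃ μ : F, (μ = 1 ∨ μ = -1) ∧ S (b + (-a) • d) = μ • (b + (-a) • d) := by
    obtain ⟨e1, e2⟩ := hsR _ 1 1 (by rw [one_smul]; exact h.half_p') (by rw [one_smul]; exact h.flip_p')
    obtain ⟨c₁, c₂, c₃, c₄, e3⟩ := hjoint _ 1 1 (by ring) (by ring) e1 e2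
    simp only [sub_self, mul_zero, zero_mul, zero_smul, add_zero, zero_add] at e3
    exact ⟨_, hsgn _ _ (hp0 (by rw [h.neg.qp]; exact h.neg.a0)) (cancel4 e3), cancel4 e3⟩
  obtain ⟨μ₃, hμ₃, hS₃⟩ : ∃ μ : F, (μ = 1 ∨ μ = -1) ∧ S e = μ • e := by
    obtain ⟨e1, e2⟩ := hsR _ (-1) (-1) (by rw [neg_one_smul]; exact h.half_e) (by rw [neg_one_smul]; exact h.flip_e)
    obtain ⟨c₁, c₂, c₃, c₄, e3⟩ := hjoint _ (-1) (-1) (by ring) (by ring) e1 e2
    simp only [add_neg_cancel, mul_zero, zero_mul, zero_smul, add_zero, zero_add] at e3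
    exact ⟨_, hsgn _ _ (hp0 h.qe) (cancel4 e3), cancel4 e3⟩
  obtain ⟨μ₄, hμ₄, hS₄⟩ : ∃ μ : F, (μ = 1 ∨ μ = -1) ∧ S e' = μ • e' := by
    obtain ⟨e1, e2⟩ := hsR _ (-1) 1 (by rw [neg_one_smul]; exact h.half_e') (by rw [one_smul]; exact h.flip_e')
    obtain ⟨c₁, c₂, c₃, c₄, e3⟩ := hjoint _ (-1) 1 (by ring) (by ring) e1 e2
    simp only [add_neg_cancel, sub_self, mul_zero, zero_mul, zero_smul, zero_add] at e3
    exact ⟨_, hsgn _ _ (hp0 h.qe') (cancel4 e3), cancel4 e3⟩
  have hsum : μ₁ + μ₂ + μ₃ + μ₄ = 0 := by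
    have hS' : S = ((μ₁ * (2 * a)⁻¹) • polarBilin qh (b + a • d)).smulRight (b + a • d) +
        ((μ₂ * (2 * -a)⁻¹) • polarBilin qh (b + (-a) • d)).smulRight (b + (-a) • d) +
        ((μ₃ * (2 * qh e)⁻¹) • polarBilin qh e).smulRight e + ((μ₄ * (2 * qh e')⁻¹) • polarBilin qh e').smulRight e' := by
      refine hd.frame_ext h ?_ ?_ ?_ ?_ <;>
        simp only [hS₁, hS₂, hS₃, hS₄, LinearMap.add_apply, LinearMap.smulRight_apply, LinearMap.smul_apply,
          QuadraticMap.polarBilin_apply_apply, polar_self', h.qp, h.neg.qp, h.pp, h.pe, h.pe', h.neg.pe, h.neg.pe',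
          h.ee, polar_comm qh (b + (-a) • d) (b + a • d), polar_comm qh e (b + a • d), polar_comm qh e (b + (-a) • d),
          polar_comm qh e' (b + a • d), polar_comm qh e' (b + (-a) • d), polar_comm qh e' e, smul_eq_mul, mul_zero,
          zero_smul, add_zero, zero_add] <;>
        congr 1 <;> (have := h.a0; have := h.qe; have := h.qe'; field_simp)
    have e1 := hd.trace_half hp₂
    rw [show half qh b₂ d₂ = S from rfl, hS', map_add, map_add, map_add, LinearMap.trace_smulRight,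
      LinearMap.trace_smulRight, LinearMap.trace_smulRight, LinearMap.trace_smulRight] at e1
    simp only [LinearMap.smul_apply, QuadraticMap.polarBilin_apply_apply, polar_self', h.qp, h.neg.qp, smul_eq_mul] at e1
    have := h.a0; have := h.qe; have := h.qe'
    field_simp at e1
    linear_combination e1
  by_cases h12 : μ₂ = μ₁
  · exfalso
    have h34 : μ₃ = -μ₁ ∧ μ₄ = -μ₁ := by
      have hbad : ∀ P : Prop, (4 : F) = 0 → P := fun P e0 => absurd e0 h4
      have hbad' : ∀ P : Prop, (2 : F) = 0 → P := fun P e0 => absurd e0 h2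
      rcases hμ₁ with rfl | rfl <;> rcases hμ₃ with rfl | rfl <;> rcases hμ₄ with rfl | rfl <;>
        rw [h12] at hsum <;>
        first
          | (exact hbad _ (by linear_combination hsum))
          | (exact hbad _ (by linear_combination -hsum))
          | (exact hbad' _ (by linear_combination hsum))
          | (exact hbad' _ (by linear_combination -hsum))
          | simp
    have hS : S = μ₁ • s := hd.frame_ext h
      (by rw [hS₁, LinearMap.smul_apply, h.half_p]) (by rw [hS₂, LinearMap.smul_apply, h.half_p', h12])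
      (by rw [hS₃, LinearMap.smul_apply, h.half_e, h34.1, smul_neg, neg_smul])
      (by rw [hS₄, LinearMap.smul_apply, h.half_e', h34.2, smul_neg, neg_smul])
    obtain ⟨c', hc'⟩ := pure_right (A₁ := δ₃ • turn qf x₃) (A₂ := (δ₂ * δ * μ₁) • (t ∘ₗ t₂)) (S₁ := half qh b₃ d₃)
      (S₂ := LinearMap.id) (fun u w => by
        rw [LinearMap.smul_apply, smul_vecMulVec, ← hz₃p, hz₃', hS, LinearMap.smul_apply, map_smul, half_half h.pair,
          vecMulVec_smul, smul_smul, LinearMap.smul_apply, smul_vecMulVec, LinearMap.id_apply]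
        rfl) (u₀ := x₂) (by
          rw [LinearMap.smul_apply]
          refine smul_ne_zero (mul_ne_zero (mul_ne_zero hδ₂0 hδ) ?_) hu₀
          rcases hμ₁ with rfl | rfl <;> simp)
    have hc0 : c' ≠ 0 := fun e0 => h.pair.left_ne (by
      have := hc' b; rwa [e0, zero_smul, LinearMap.id_apply] at this)
    obtain ⟨w, hw⟩ := hd.half_ne_scalar hp₃ c'⁻¹
    refine hw ?_
    have e1 := hc' w
    rw [LinearMap.id_apply] at e1
    conv_rhs => rw [e1]
    rw [smul_smul, inv_mul_cancel₀ hc0, one_smul]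
  · have h12' : μ₂ = -μ₁ := by
      rcases hμ₁ with rfl | rfl <;> rcases hμ₂ with rfl | rfl <;> first | (exact absurd rfl h12) | ring
    have h34 : μ₄ = -μ₃ := by linear_combination hsum - h12'
    have hμ₁0 : μ₁ ≠ 0 := by rcases hμ₁ with rfl | rfl <;> simp
    by_cases h13 : μ₃ = μ₁
    · have hS : S = (-μ₁) • R := hd.frame_ext h
        (by rw [hS₁, LinearMap.smul_apply, hR, LinearEquiv.coe_coe, h.flip_p]; module)
        (by rw [hS₂, LinearMap.smul_apply, hR, LinearEquiv.coe_coe, h.flip_p', h12'])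
        (by rw [hS₃, LinearMap.smul_apply, hR, LinearEquiv.coe_coe, h.flip_e, h13]; module)
        (by rw [hS₄, LinearMap.smul_apply, hR, LinearEquiv.coe_coe, h.flip_e', h34, h13])
      refine ⟨x₂, δ₂ * -μ₁, z₂, hx₂, hxx, mul_ne_zero hδ₂0 (neg_ne_zero.2 hμ₁0), hz₂τ, fun u w => ?_⟩
      rw [hz₂p, hS, LinearMap.smul_apply, vecMulVec_smul, smul_smul]
      rfl
    · have h13' : μ₃ = -μ₁ := by
        rcases hμ₁ with rfl | rfl <;> rcases hμ₃ with rfl | rfl <;> first | (exact absurd rfl h13) | ring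
      have hS : S = (-μ₁) • (R ∘ₗ s) := hd.frame_ext h
        (by rw [hS₁, LinearMap.smul_apply, LinearMap.comp_apply, h.half_p, hR, LinearEquiv.coe_coe, h.flip_p]; module)
        (by rw [hS₂, LinearMap.smul_apply, LinearMap.comp_apply, h.half_p', hR, LinearEquiv.coe_coe, h.flip_p', h12'])
        (by rw [hS₃, LinearMap.smul_apply, LinearMap.comp_apply, h.half_e, map_neg, hR, LinearEquiv.coe_coe, h.flip_e,
          h13']; module)
        (by rw [hS₄, LinearMap.smul_apply, LinearMap.comp_apply, h.half_e', map_neg, hR, LinearEquiv.coe_coe,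
          h.flip_e', h34, h13']; module)
      obtain ⟨y, ⟨hxy, hx₂y⟩, hy0⟩ := Submodule.exists_mem_ne_zero_of_ne_bot
        (p := LinearMap.ker (polarBilin qf x) ⊓ LinearMap.ker (polarBilin qf x₂)) (fun h0 => by
          have := finrank_kerPolar (Q := qf) x
          have := finrank_perp_vec (Q := qf) (S := LinearMap.ker (polarBilin qf x)) x₂
          rw [h0, finrank_bot] at this
          rw [finrank_fin_fun] at *; omega)
      rw [SetLike.mem_coe, mem_ker_polar] at hxy hx₂y
      have hx0 : x ≠ 0 := fun e0 => hx (by rw [e0, QuadraticMap.map_zero])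
      have hx₂x : x₂ ∉ F ∙ x := fun hmem => by
        obtain ⟨l, rfl⟩ := Submodule.mem_span_singleton.1 hmem
        rw [polar_smul_r', polar_self', mul_eq_zero] at hxx
        exact hxx.elim (fun e0 => hx₂0 (by rw [e0, zero_smul])) (mul_ne_zero h2 hx)
      have hspan : ∀ v, v ∈ (F ∙ x) ⊔ (F ∙ x₂) → polar qf y v = 0 := fun v hv => by
        obtain ⟨_, ha, _, hb, rfl⟩ := Submodule.mem_sup.1 hv
        obtain ⟨l, rfl⟩ := Submodule.mem_span_singleton.1 ha
        obtain ⟨m, rfl⟩ := Submodule.mem_span_singleton.1 hb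
        rw [polar_add_right, polar_smul_r', polar_smul_r', polar_comm qf y x, hxy, polar_comm qf y x₂, hx₂y]
        ring
      have hy3 : y ∉ (F ∙ x) ⊔ (F ∙ x₂) := fun hmem => by
        obtain ⟨_, ha, _, hb, e1⟩ := Submodule.mem_sup.1 hmem
        obtain ⟨l, rfl⟩ := Submodule.mem_span_singleton.1 ha
        obtain ⟨m, rfl⟩ := Submodule.mem_span_singleton.1 hb
        have k1 := hxy
        have k2 := hx₂y
        rw [← e1, polar_add_right, polar_smul_r', polar_smul_r', hxx, polar_self', mul_zero, add_zero] at k1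
        rw [← e1, polar_add_right, polar_smul_r', polar_smul_r', polar_comm qf x₂ x, hxx, polar_self', mul_zero,
          zero_add] at k2
        refine hy0 ?_
        rw [← e1, (mul_eq_zero.1 k1).resolve_right (mul_ne_zero h2 hx),
          (mul_eq_zero.1 k2).resolve_right (mul_ne_zero h2 hx₂), zero_smul, zero_smul, add_zero]
      have hqy : qf y ≠ 0 := fun e0 => hy0 (eq_zero_of_three hd.model.ndf hx0 hx₂x hy3
        ((polar_comm _ _ _).trans hxy) ((polar_comm _ _ _).trans hx₂y) (by rw [polar_self', e0, mul_zero]))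
      have hT : ∀ u, t (t₂ u) = turn qf y u := fun u => by
        have htop : u ∈ ((F ∙ x) ⊔ (F ∙ x₂)) ⊔ (F ∙ y) := by
          by_contra hu
          have hxx₂ : ∀ v, v ∈ F ∙ x → polar qf y v = 0 := fun v hv => hspan v (Submodule.mem_sup_left hv)
          have l1 : (F ∙ x) < (F ∙ x) ⊔ (F ∙ x₂) := lt_of_le_of_ne le_sup_left fun h0 =>
            hx₂x (h0 ▸ Submodule.mem_sup_right (Submodule.mem_span_singleton_self x₂))
          have l2 : (F ∙ x) ⊔ (F ∙ x₂) < ((F ∙ x) ⊔ (F ∙ x₂)) ⊔ (F ∙ y) := lt_of_le_of_ne le_sup_left fun h0 =>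
            hy3 (h0 ▸ Submodule.mem_sup_right (Submodule.mem_span_singleton_self y))
          have l3 : ((F ∙ x) ⊔ (F ∙ x₂)) ⊔ (F ∙ y) < ⊤ := lt_top_iff_ne_top.2 fun h0 => hu (h0 ▸ Submodule.mem_top)
          have := Submodule.finrank_lt_finrank_of_lt l1
          have := Submodule.finrank_lt_finrank_of_lt l2
          have := Submodule.finrank_lt_finrank_of_lt l3
          rw [finrank_span_singleton hx0] at *
          rw [finrank_top, finrank_fin_fun] at this
          omega
        obtain ⟨_, h12, _, hb, rfl⟩ := Submodule.mem_sup.1 htop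
        obtain ⟨_, ha, _, hb', rfl⟩ := Submodule.mem_sup.1 h12
        obtain ⟨l, rfl⟩ := Submodule.mem_span_singleton.1 ha
        obtain ⟨m, rfl⟩ := Submodule.mem_span_singleton.1 hb'
        obtain ⟨n, rfl⟩ := Submodule.mem_span_singleton.1 hb
        simp only [map_add, map_smul, t, t₂, hd.turn_self hx, hd.turn_self hx₂, hd.turn_self hqy,
          hd.turn_perp ((polar_comm _ _ _).trans hxx), hd.turn_perp hxx, hd.turn_perp hxy, hd.turn_perp hx₂y,
          hd.turn_perp ((polar_comm _ _ _).trans hxy), hd.turn_perp ((polar_comm _ _ _).trans hx₂y), map_neg, neg_neg]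
      refine ⟨y, δ₂ * δ * -μ₁, z₃, hqy, hxy, mul_ne_zero (mul_ne_zero hδ₂0 hδ) (neg_ne_zero.2 hμ₁0),
        hzc.mul_right hz₂τ, fun u w => ?_⟩
      rw [hz₃', hT, hS, LinearMap.smul_apply, map_smul, LinearMap.comp_apply,
        show s (R (s w)) = R w from by
          rw [show s (R (s w)) = R (s (s w)) from (hd.flip_half h (s w)).symm, half_half h.pair],
        vecMulVec_smul, smul_smul]
      rfl

omit hτ hτT hτ2 hτr in
/-- Only tensor maps remain. -/
theorem isTensor_of_sliceFree {g : orthGroup Q} (hg : g ∈ M) : IsTensor g.1 := by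
  classical
  by_contra hgT
  have hm := hd.model
  have h2 := hd.two
  obtain ⟨x₀, -, hx₀⟩ := exists_anisotropic_in hm.ndf (S := ⊤) (by rw [finrank_top, finrank_fin_fun]; omega)
  obtain ⟨A, hAc, hA⟩ := hd.exists_halfTurn hx₀
  have hA' : ∀ u, A.1 u = turn qf x₀ u := fun u => by rw [hA, turn_apply]
  set t := hm.col A
  have htM : t ∈ M := hM _ hAc (hm.col_tensor A)
  have ht : ∀ u w, t.1 (vecMulVec u w) = (1 : F) • vecMulVec (turn qf x₀ u) w := fun u w => by
    rw [hm.col_pure, hA', one_smul]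
  set τ := g * t * g⁻¹ with hτdef
  have hτ : τ ∈ M := M.mul_mem (M.mul_mem hg htM) (M.inv_mem hg)
  have hτT : ¬ IsTensor τ.1 := fun hT => hgT (hd.tensor_of_conj_turn hM hNF hg hAc hx₀ hA' hT)
  have hτr : trQ τ = -4 := by rw [hτdef, trQ_conj, hd.trQ_turn t hx₀ ht, mul_one]
  have hτ2 : τ * τ = 1 := by
    rw [hτdef, conj_mul, ← map_mul, show A * A = 1 from (mul_self_one_iff A).2 fun v => by
      rw [hA', hA', hd.turn_turn hx₀], map_one, mul_one, mul_inv_cancel]
  -- the first involution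
  obtain ⟨c, hc0, hc⟩ := CfsgLib.Orth.exists_singular hm.ndh (by rw [finrank_fin_fun]; omega)
  obtain ⟨c', hc', hcc⟩ := exists_partner hm.ndh hc hc0
  have hpair : Pair qh c c' := ⟨hc, hc', hcc⟩
  obtain ⟨e₀, he₀b, he₀d, hqe₀⟩ := hd.perp_universal hpair (one_ne_zero (α := F))
  obtain ⟨e₀', hfr⟩ := hd.exists_companion hpair (one_ne_zero (α := F)) he₀b he₀d
    (fun h0 => by rw [h0, QuadraticMap.map_zero] at hqe₀; exact zero_ne_one hqe₀)
  obtain ⟨σ, z, -, -, -, hz, hz2, hzT, -, hzc, hns, -, -⟩ := hd.exists_round hM hMc hNF hq hτ hτT hτ2 hτr hfr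
  obtain ⟨x, δ, b, d, hx, hδ, hp, hzp⟩ := hd.kind_two hM hMc hNF hq hτ hτT hz hz2 hzT hns hzc
  have hδ0 : δ ≠ 0 := by rcases hδ with rfl | rfl <;> simp
  -- the trace of the product with `τ`
  have hztr : trQ (τ * z) = 0 := by
    set k := g⁻¹ * z * g with hk
    have hkM : k ∈ M := M.mul_mem (M.mul_mem (M.inv_mem hg) hz) hg
    have hkt : Commute k t := by
      have e1 : g * t * g⁻¹ * z = z * (g * t * g⁻¹) := hzc.eq
      show g⁻¹ * z * g * t = t * (g⁻¹ * z * g)
      calc g⁻¹ * z * g * t = g⁻¹ * (z * (g * t * g⁻¹)) * g := by group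
        _ = g⁻¹ * (g * t * g⁻¹ * z) * g := by rw [e1]
        _ = t * (g⁻¹ * z * g) := by group
    have hkT : IsTensor k.1 := hd.tensor_of_turn hM hNF hkM hx₀ hx₀ one_ne_zero ht ht (commute_apply hkt)
    have hk2 : k * k = 1 := by
      rw [hk, show g⁻¹ * z * g * (g⁻¹ * z * g) = g⁻¹ * (z * z) * g by group, hz2, mul_one, inv_mul_cancel]
    have hzk : z = g * k * g⁻¹ := by rw [hk]; group
    have hkr : trQ k = 0 := by
      rw [← trQ_conj g k, ← hzk]
      exact hd.trQ_half z hp (δ • turn qf x) fun u w => by rw [hzp, LinearMap.smul_apply, smul_vecMulVec]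
    rw [show τ * z = g * (t * k) * g⁻¹ by rw [hzk, hτdef]; group, trQ_conj]
    rcases hd.involution_cases (hMc hkM) hkT hk2 with ⟨ε, hε, hall⟩ | ⟨y, ε, hy, hε, hall⟩ | ⟨b', d', B, hp', -, hall⟩
    · refine absurd (fun X => ?_) (hns ε hε)
      rw [hzk, TensorMaxO.mul_apply', TensorMaxO.mul_apply', hall, map_smul, Orth.inv_apply]
    · rw [hd.trQ_turn k hy hall] at hkr
      exfalso
      rcases hε with rfl | rfl
      · exact mul_ne_zero h2 h2 (by linear_combination -hkr)
      · exact mul_ne_zero h2 h2 (by linear_combination hkr)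
    · exact hd.trQ_half (t * k) hp' (turn qf x₀ ∘ₗ B.1.toLinearMap) fun u w => by
        rw [TensorMaxO.mul_apply', hall, ht, one_smul]; rfl
  -- the two directions in the complement
  obtain ⟨e, heb, hed, hqe⟩ := hd.perp_universal hp (one_ne_zero (α := F))
  have he0 : e ≠ 0 := fun h0 => by rw [h0, QuadraticMap.map_zero] at hqe; exact zero_ne_one hqe
  obtain ⟨e', hfe⟩ := hd.exists_companion hp (one_ne_zero (α := F)) heb hed he0
  set E : Bool → (Fin 4 → F) := fun i => if i then e + e' else e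
  have hEb : ∀ i, polar qh b (E i) = 0 ∧ polar qh d (E i) = 0 ∧ E i ≠ 0 := by
    rintro (_ | _)
    · exact ⟨heb, hed, he0⟩
    · refine ⟨by simp [E, polar_add_right, heb, hfe.e'b], by simp [E, polar_add_right, hed, hfe.e'd], fun h0 => ?_⟩
      exact hd.frame_notMem hfe (Submodule.mem_span_singleton.2 ⟨-1, by
        have : e + e' = 0 := h0
        rw [neg_one_smul]; exact neg_eq_of_add_eq_zero_right this⟩)
  have hEE : ∀ i j, polar qh (E i) (E j) ≠ 0 := by
    have h2e : polar qh e e ≠ 0 := by rw [polar_self']; exact mul_ne_zero h2 hfe.qe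
    have hpe : polar qh e' e = 0 := (polar_comm _ _ _).trans hfe.ee
    rintro (_ | _) (_ | _)
    · exact h2e
    · show polar qh e (e + e') ≠ 0; rw [polar_add_right, hfe.ee, add_zero]; exact h2e
    · show polar qh (e + e') e ≠ 0; rw [polar_add_left, hpe, add_zero]; exact h2e
    · rw [polar_self']; exact mul_ne_zero h2 (hd.perp_aniso hp (hEb true).1 (hEb true).2.1 (hEb true).2.2)
  choose E' hE' using fun i : Fˣ × Bool => hd.exists_companion hp i.1.ne_zero (hEb i.2).1 (hEb i.2).2.1 (hEb i.2).2.2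
  choose y κ Z hqy hxy hκ hZτ hZp using fun i : Fˣ × Bool =>
    hd.exists_partner_turn hM hMc hNF hq hτ hτT hτ2 hτr hz hz2 hzc hzT hztr hx hδ0 hzp (hE' i)
  -- two with the same half turn
  obtain ⟨v₁, hv₁0, hv₁⟩ := hd.exists_perp x
  obtain ⟨v₂, hv₂, hv₂n⟩ := exists_notMem_line (S := LinearMap.ker (polarBilin qf x))
    (by have := finrank_kerPolar (Q := qf) x; rw [finrank_fin_fun] at *; omega) v₁
  have hx0 : x ≠ 0 := fun e0 => hx (by rw [e0, QuadraticMap.map_zero])
  have hcoord : ∀ i, ∃ l m : F, y i = l • v₁ + m • v₂ := fun i => by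
    obtain ⟨_, ha, _, hb, e1⟩ := Submodule.mem_sup.1 (perp_span hm.ndf hx0 hv₁0 hv₂n hv₁ hv₂ (hxy i))
    obtain ⟨l, rfl⟩ := Submodule.mem_span_singleton.1 ha
    obtain ⟨m, rfl⟩ := Submodule.mem_span_singleton.1 hb
    exact ⟨l, m, e1.symm⟩
  choose l m hlm using hcoord
  set f : Fˣ × Bool → Option F := fun i => if l i = 0 then none else some (m i / l i)
  obtain ⟨i, j, hij, hfij⟩ : ∃ i j, i ≠ j ∧ f i = f j := by
    refine Fintype.exists_ne_map_eq_of_card_lt f ?_
    rw [Fintype.card_option, Fintype.card_prod, Fintype.card_units, Fintype.card_bool]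
    omega
  obtain ⟨r, hr, hyr⟩ : ∃ r : F, r ≠ 0 ∧ y i = r • y j := by
    have hy0 : ∀ i, y i ≠ 0 := fun i e0 => hqy i (by rw [e0, QuadraticMap.map_zero])
    simp only [f] at hfij
    by_cases hli : l i = 0
    · rw [if_pos hli] at hfij
      have hlj : l j = 0 := by by_contra hlj; rw [if_neg hlj] at hfij; simp at hfij
      have hmj : m j ≠ 0 := fun e0 => hy0 j (by rw [hlm, hlj, e0, zero_smul, zero_smul, add_zero])
      have hmi : m i ≠ 0 := fun e0 => hy0 i (by rw [hlm, hli, e0, zero_smul, zero_smul, add_zero])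
      refine ⟨m i / m j, div_ne_zero hmi hmj, ?_⟩
      rw [hlm, hlm, hli, hlj]
      match_scalars <;> field_simp <;> ring
    · rw [if_neg hli] at hfij
      have hlj : l j ≠ 0 := fun e0 => by rw [if_pos e0] at hfij; simp at hfij
      rw [if_neg hlj, Option.some.injEq, div_eq_div_iff hli hlj] at hfij
      refine ⟨l i / l j, div_ne_zero hli hlj, ?_⟩
      rw [hlm, hlm]
      match_scalars <;> field_simp
      linear_combination hfij
  -- the product commutes with `τ`
  set a : F := (i.1 : F)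
  set a' : F := (j.1 : F)
  set R := flip2 qh b d a (E i.2)
  set R' := flip2 qh b d a' (E j.2)
  set D := R * R'
  have hcomm : ∀ X, τ.1 ((hm.row D).1 X) = (hm.row D).1 (τ.1 X) := by
    have hpr : ∀ X, (Z i * Z j).1 X = (κ j * κ i) • (hm.row D).1 X := LinearMap.congr_fun
      (ext_pure (φ := (Z i * Z j).1.toLinearMap) (ψ := (κ j * κ i) • (hm.row D).1.toLinearMap) fun u w => by
        show (Z i * Z j).1 (vecMulVec u w) = (κ j * κ i) • (hm.row D).1 (vecMulVec u w)
        rw [TensorMaxO.mul_apply', hZp, map_smul, hZp, smul_smul, hm.row_pure, hyr, hd.turn_smul hr,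
          hd.turn_turn (hqy j)]
        rfl)
    intro X
    have e1 := commute_apply ((hZτ i).mul_right (hZτ j)) X
    rw [hpr, hpr, map_smul] at e1
    exact smul_right_injective _ (mul_ne_zero (hκ j) (hκ i)) e1
  have hi := hE' i
  have hj := hE' j
  have hRb : ∀ {a : F} {f f' : Fin 4 → F}, Frame qh b d a f f' →
      (flip2 qh b d a f).1 b = -(a • d) ∧ (flip2 qh b d a f).1 d = -(a⁻¹ • b) := fun {a f f'} hf => by
    have ha := hf.a0
    constructor <;> rw [hf.flip_apply]
    · rw [polar_comm qh f b, hf.eb, mul_zero, zero_smul, sub_zero, polar_add_left, polar_smul_l', hp.bb, hp.db]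
      match_scalars <;> field_simp <;> ring
    · rw [polar_comm qh f d, hf.ed, mul_zero, zero_smul, sub_zero, polar_add_left, polar_smul_l', hp.dd, hp.pair]
      match_scalars <;> field_simp <;> ring
  set lam := a' / a
  have ha : a ≠ 0 := i.1.ne_zero
  have ha' : a' ≠ 0 := j.1.ne_zero
  have hDb : D.1 b = lam • b := by
    show R.1 (R'.1 b) = lam • b
    rw [(hRb hj).1, map_neg, map_smul, (hRb hi).2, smul_neg, neg_neg, smul_smul]
    show _ = (a' / a) • b
    rw [div_eq_mul_inv]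
  have hDd : D.1 d = lam⁻¹ • d := by
    show R.1 (R'.1 d) = lam⁻¹ • d
    rw [(hRb hj).2, map_neg, map_smul, (hRb hi).1, smul_neg, neg_neg, smul_smul, inv_div, inv_mul_eq_div]
  have hrow : ∀ X k, ((hm.row D).1 X) k = D.1 (X k) := fun X k => rfl
  by_cases hl : lam * lam = 1
  · -- the plane is the eigenspace
    have hli : lam⁻¹ = lam := inv_eq_of_mul_eq_one_right hl
    rw [hli] at hDd
    have heig : ∀ v, D.1 v = lam • v → v = polar qh d v • b + polar qh b v • d := by
      intro v hv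
      obtain ⟨hwb, hwd⟩ := hp.part_perp v
      set w := v - polar qh d v • b - polar qh b v • d with hw
      have hDw : D.1 w = lam • w := by
        rw [hw, map_sub, map_sub, map_smul, map_smul, hv, hDb, hDd]
        module
      suffices w = 0 by rw [hw, sub_sub, sub_eq_zero] at this; exact this
      have hRw : ∀ {a : F} {f f' : Fin 4 → F}, Frame qh b d a f f' →
          (flip2 qh b d a f).1 w = w - ((qh f)⁻¹ * polar qh f w) • f := fun {a f f'} hf => by
        rw [hf.flip_apply, polar_add_left, polar_smul_l', hwb, hwd, mul_zero, add_zero, mul_zero, zero_smul, sub_zero]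
      have e1 : R'.1 w = lam • R.1 w := by
        rw [← map_smul, ← hDw]
        exact ((mul_self_one_iff R).1 (hd.flip_sq hi) _).symm
      rw [hRw hj, hRw hi] at e1
      set c₁ := (qh (E i.2))⁻¹ * polar qh (E i.2) w with hc₁
      set c₂ := (qh (E j.2))⁻¹ * polar qh (E j.2) w with hc₂
      have hq1 : polar qh (E i.2) w = c₁ * qh (E i.2) := by rw [hc₁]; have := hi.qe; field_simp
      have hq2 : polar qh (E j.2) w = c₂ * qh (E j.2) := by rw [hc₂]; have := hj.qe; field_simp
      have hee : E i.2 ≠ 0 := (hEb i.2).2.2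
      rcases mul_self_eq_one_iff.1 hl with hl1 | hl1
      · rw [hl1, one_smul, sub_right_inj] at e1
        have hbool : i.2 ≠ j.2 := fun hb => hij (Prod.ext (Units.ext (by
          have : a' / a = 1 := hl1
          rw [div_eq_one_iff_eq ha] at this
          exact this.symm)) hb)
        have hind : E j.2 ∉ F ∙ E i.2 := by
          intro hmem
          obtain ⟨s, hs⟩ := Submodule.mem_span_singleton.1 hmem
          have hee' : e' ∈ F ∙ e := by
            rcases hi2 : i.2 with _ | _ <;> rcases hj2 : j.2 with _ | _ <;> rw [hi2, hj2] at hbool hs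
            · exact absurd rfl hbool
            · exact Submodule.mem_span_singleton.2 ⟨s - 1, by
                rw [sub_smul, one_smul, show s • e = e + e' from hs, add_sub_cancel_left]⟩
            · have hs0 : s ≠ 0 := fun e0 => he0 (by
                have : s • (e + e') = e := hs
                rw [e0, zero_smul] at this; exact this.symm)
              exact Submodule.mem_span_singleton.2 ⟨s⁻¹ - 1, by
                rw [sub_smul, one_smul]
                conv_lhs => arg 1; rw [← show s • (e + e') = e from hs, smul_smul, inv_mul_cancel₀ hs0, one_smul]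
                rw [add_sub_cancel_left]⟩
            · exact absurd rfl hbool
          exact hd.frame_notMem hfe hee'
        have hc2 : c₂ = 0 := by
          by_contra hne
          exact hind (Submodule.mem_span_singleton.2 ⟨c₂⁻¹ * c₁, by
            rw [mul_smul, ← e1, smul_smul, inv_mul_cancel₀ hne, one_smul]⟩)
        rw [hc2, zero_smul, eq_comm, smul_eq_zero] at e1
        exact hd.perp_pair_zero hp hee hind (hEb _).1 (hEb _).2.1 (hEb _).1 (hEb _).2.1 hwb hwd
          (by rw [hq1, e1.resolve_right hee, zero_mul]) (by rw [hq2, hc2, zero_mul])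
      · rw [hl1, neg_one_smul] at e1
        have k1 := congrArg (polar qh (E i.2)) e1
        have k2 := congrArg (polar qh (E j.2)) e1
        simp only [polar_sub_right, polar_neg_right, polar_smul_r', polar_self', hq1, hq2] at k1 k2
        have hz2 : c₂ = 0 := (mul_eq_zero.1 (show c₂ * polar qh (E i.2) (E j.2) = 0 by linear_combination -k1)).resolve_right
          (hEE _ _)
        have hz1 : c₁ = 0 := (mul_eq_zero.1 (show c₁ * polar qh (E j.2) (E i.2) = 0 by linear_combination -k2)).resolve_right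
          (hEE _ _)
        rw [hz1, hz2, zero_smul, zero_smul, sub_zero, eq_neg_iff_add_eq_zero, ← two_smul F, smul_eq_zero] at e1
        exact e1.resolve_left h2
    refine hτT (hd.tensor_of_plane hM hNF hq hp hτ fun X hX => funext fun k => ?_)
    have hXe : (hm.row D).1 X = lam • X := funext fun k => by
      rw [hrow, show X k = _ from congrFun hX k]
      show D.1 (vecMulVec (ct 3 qh d X) b k + vecMulVec (ct 3 qh b X) d k) = lam • X k
      rw [vecMulVec_row, vecMulVec_row, map_add, map_smul, map_smul, hDb, hDd, show X k = _ from congrFun hX k]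
      show _ = lam • (vecMulVec (ct 3 qh d X) b k + vecMulVec (ct 3 qh b X) d k)
      rw [vecMulVec_row, vecMulVec_row]
      module
    have e1 := congrFun (hcomm X) k
    rw [hXe, map_smul, hrow] at e1
    show τ.1 X k = vecMulVec (ct 3 qh d (τ.1 X)) b k + vecMulVec (ct 3 qh b (τ.1 X)) d k
    rw [vecMulVec_row, vecMulVec_row, ct_apply, ct_apply]
    exact heig _ e1.symm
  · -- the eigenspace is a singular line
    have heig : ∀ v, D.1 v = lam • v → v ∈ F ∙ b := by
      intro v hv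
      refine hd.line_four hp.left_ne hp.left ?_ ?_
      · have e1 := apply_quad D v
        rw [hv, quad_smul'] at e1
        exact (mul_eq_zero.1 (show (lam * lam - 1) * qh v = 0 by linear_combination e1)).resolve_left (sub_ne_zero.2 hl)
      · have e1 := polar_isom D b v
        rw [hv, hDb, polar_smul_l', polar_smul_r'] at e1
        exact (mul_eq_zero.1 (show (lam * lam - 1) * polar qh b v = 0 by linear_combination e1)).resolve_left
          (sub_ne_zero.2 hl)
    refine hτT (hNF τ hτ b b hp.left_ne hp.left fun u => ?_)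
    have e1 := hcomm (vecMulVec u b)
    rw [hm.row_pure, hDb, vecMulVec_smul, map_smul] at e1
    choose s hs using fun k => Submodule.mem_span_singleton.1 (heig _ ((hrow _ k).symm.trans (congrFun e1.symm k)))
    exact ⟨s, funext fun k => by rw [vecMulVec_row]; exact (hs k).symm⟩

end Data

end CfsgLib.Classical.TensorMax34
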