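import Cfsg.Agent.Lib.Classical.TensorMax34.Turn

/-!
# Orthogonal frames of the second factor adapted to a hyperbolic pair
-/

set_option autoImplicit false
set_option linter.unusedSectionVars false

namespace CfsgLib.Classical.TensorMax34

open Matrix Module QuadraticMap CfsgLib.Orth CfsgLib.Classical CfsgLib.Classical.TensorMaxO
open CfsgLib.Classical.TensorMax (IsTensor)
open CfsgLib.Classical.TensorMaxU (vecMulVec_row sl1 sl2 sl2_injective)

variable {F : Type*} [Field F] {Q : QuadraticForm F (Matrix (Fin 3) (Fin 4) F)} {qf : QuadraticForm F (Fin 3 → F)}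
  {qh : QuadraticForm F (Fin 4 → F)}

/-- An orthogonal frame: `b + a d`, `b - a d`, `e`, `e'`. -/
structure Frame (qh : QuadraticForm F (Fin 4 → F)) (b d : Fin 4 → F) (a : F) (e e' : Fin 4 → F) : Prop where
  pair : Pair qh b d
  a0 : a ≠ 0
  eb : polar qh b e = 0
  ed : polar qh d e = 0
  e'b : polar qh b e' = 0
  e'd : polar qh d e' = 0
  qe : qh e ≠ 0
  qe' : qh e' ≠ 0
  ee : polar qh e e' = 0

/-- The product of the reflections in the first and third vectors of a frame. -/
noncomputable def flip2 (qh : QuadraticForm F (Fin 4 → F)) (b d : Fin 4 → F) (a : F) (e : Fin 4 → F) : orthGroup qh :=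
  refl qh (b + a • d) * refl qh e

theorem half_left {b d : Fin 4 → F} (hp : Pair qh b d) (s t : F) {w : Fin 4 → F} (hb : polar qh b w = 0)
    (hd : polar qh d w = 0) : half qh b d (s • b + t • d + w) = s • b + t • d - w := by
  obtain ⟨e1, e2⟩ := hp.coeff (l := s) (m := t) hb hd
  rw [half_apply, e1, e2]
  module

theorem half_self {b d : Fin 4 → F} (hp : Pair qh b d) (s : F) : half qh b d (b + s • d) = b + s • d := by
  have h := half_left hp 1 s (w := 0) (by rw [polar_zero_right]) (by rw [polar_zero_right])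
  rwa [one_smul, add_zero, sub_zero] at h

theorem half_perp {b d w : Fin 4 → F} (hb : polar qh b w = 0) (hd : polar qh d w = 0) : half qh b d w = -w := by
  rw [half_apply, hb, hd, mul_zero, zero_smul, zero_smul, add_zero, zero_sub]

theorem half_half {b d : Fin 4 → F} (hp : Pair qh b d) (w : Fin 4 → F) : half qh b d (half qh b d w) = w := by
  obtain ⟨hb, hd⟩ := hp.part_perp w
  set w' := w - polar qh d w • b - polar qh b w • d with hw'
  have e : w = polar qh d w • b + polar qh b w • d + w' := by rw [hw']; abel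
  conv_lhs => rw [e, half_left hp _ _ hb hd, sub_eq_add_neg, half_left hp _ _ (by rw [polar_neg_right, hb, neg_zero])
    (by rw [polar_neg_right, hd, neg_zero]), sub_neg_eq_add, ← e]

namespace Frame

variable {b d e e' : Fin 4 → F} {a : F} (h : Frame qh b d a e e')
include h

theorem neg : Frame qh b d (-a) e e' := ⟨h.pair, neg_ne_zero.2 h.a0, h.eb, h.ed, h.e'b, h.e'd, h.qe, h.qe', h.ee⟩

theorem qp : qh (b + a • d) = a := h.pair.quad_line a

theorem pe : polar qh (b + a • d) e = 0 := by rw [polar_add_left, polar_smul_l', h.eb, h.ed]; ring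

theorem pe' : polar qh (b + a • d) e' = 0 := by rw [polar_add_left, polar_smul_l', h.e'b, h.e'd]; ring

theorem pp : polar qh (b + a • d) (b + (-a) • d) = 0 := by
  simp only [polar_add_left, polar_add_right, polar_smul_l', polar_smul_r', h.pair.bb, h.pair.dd, h.pair.db,
    h.pair.pair]
  ring

theorem flip_apply (w : Fin 4 → F) : (flip2 qh b d a e).1 w =
    w - (a⁻¹ * polar qh (b + a • d) w) • (b + a • d) - ((qh e)⁻¹ * polar qh e w) • e := by
  show (refl qh (b + a • d)).1 ((refl qh e).1 w) = _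
  rw [refl_apply, refl_apply, h.qp, polar_sub_right, polar_smul_r', h.pe]
  module

theorem flip_perp {w : Fin 4 → F} (hp : polar qh (b + a • d) w = 0) (he : polar qh e w = 0) :
    (flip2 qh b d a e).1 w = w := by
  rw [h.flip_apply, hp, he, mul_zero, mul_zero, zero_smul, zero_smul, sub_zero, sub_zero]

theorem flip_p : (flip2 qh b d a e).1 (b + a • d) = -(b + a • d) := by
  have ha := h.a0
  rw [h.flip_apply, polar_self', h.qp, show a⁻¹ * (2 * a) = 2 by field_simp, polar_comm qh e, h.pe, mul_zero, zero_smul,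
    sub_zero]
  module

theorem flip_p' : (flip2 qh b d a e).1 (b + (-a) • d) = b + (-a) • d :=
  h.flip_perp h.pp (by rw [polar_comm]; exact h.neg.pe)

theorem flip_e : (flip2 qh b d a e).1 e = -e := by
  rw [h.flip_apply, h.pe, polar_self', mul_zero, zero_smul, sub_zero, show (qh e)⁻¹ * (2 * qh e) = 2 by
    have := h.qe; field_simp]
  module

theorem flip_e' : (flip2 qh b d a e).1 e' = e' := h.flip_perp h.pe' h.ee

theorem half_p : half qh b d (b + a • d) = b + a • d := half_self h.pair a
theorem half_p' : half qh b d (b + (-a) • d) = b + (-a) • d := half_self h.pair (-a)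
theorem half_e : half qh b d e = -e := half_perp h.eb h.ed
theorem half_e' : half qh b d e' = -e' := half_perp h.e'b h.e'd

end Frame

namespace Data

variable (hd : Data Q qf qh) [Fintype F]
include hd

theorem finrank_perp_pair {b d : Fin 4 → F} (hp : Pair qh b d) :
    finrank F ↥(LinearMap.ker (polarBilin qh b) ⊓ LinearMap.ker (polarBilin qh d)) ≤ 2 := by
  set S := LinearMap.ker (polarBilin qh b) ⊓ LinearMap.ker (polarBilin qh d)
  have hb : b ∉ S := fun h => by
    have e : polar qh d b = 0 := h.2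
    rw [hp.db] at e
    exact one_ne_zero e
  have hdS : d ∉ (F ∙ b) ⊔ S := fun h => by
    obtain ⟨_, hl, s, hs, e⟩ := Submodule.mem_sup.1 h
    obtain ⟨l, rfl⟩ := Submodule.mem_span_singleton.1 hl
    have := hp.pair
    rw [← e, polar_add_right, polar_smul_r', hp.bb, show polar qh b s = 0 from hs.1, mul_zero, add_zero] at this
    exact zero_ne_one this
  have l1 : S < (F ∙ b) ⊔ S := lt_of_le_of_ne le_sup_right fun h =>
    hb (h ▸ Submodule.mem_sup_left (Submodule.mem_span_singleton_self b))
  have l2 : (F ∙ b) ⊔ S < (F ∙ d) ⊔ ((F ∙ b) ⊔ S) := lt_of_le_of_ne le_sup_right fun h =>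
    hdS (h ▸ Submodule.mem_sup_left (Submodule.mem_span_singleton_self d))
  have := Submodule.finrank_lt_finrank_of_lt l1
  have := Submodule.finrank_lt_finrank_of_lt l2
  have := Submodule.finrank_le ((F ∙ d) ⊔ ((F ∙ b) ⊔ S))
  rw [finrank_fin_fun] at this
  omega

/-- The complement of the plane is spanned by two independent vectors. -/
theorem perp_pair_span {b d e e' w : Fin 4 → F} (hp : Pair qh b d) (he0 : e ≠ 0) (he' : e' ∉ F ∙ e)
    (eb : polar qh b e = 0) (ed : polar qh d e = 0) (e'b : polar qh b e' = 0) (e'd : polar qh d e' = 0)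
    (wb : polar qh b w = 0) (wd : polar qh d w = 0) : w ∈ (F ∙ e) ⊔ (F ∙ e') := by
  have hle : (F ∙ e) ⊔ (F ∙ e') ≤ LinearMap.ker (polarBilin qh b) ⊓ LinearMap.ker (polarBilin qh d) :=
    sup_le ((Submodule.span_singleton_le_iff_mem _ _).2 ⟨eb, ed⟩) ((Submodule.span_singleton_le_iff_mem _ _).2 ⟨e'b, e'd⟩)
  have hlt : (F ∙ e) < (F ∙ e) ⊔ (F ∙ e') := lt_of_le_of_ne le_sup_left fun h =>
    he' (h ▸ Submodule.mem_sup_right (Submodule.mem_span_singleton_self e'))
  have h2 := Submodule.finrank_lt_finrank_of_lt hlt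
  rw [finrank_span_singleton he0] at h2
  rw [Submodule.eq_of_le_of_finrank_le hle ((hd.finrank_perp_pair hp).trans h2)]
  exact ⟨wb, wd⟩

/-- A vector of the complement orthogonal to two independent ones is zero. -/
theorem perp_pair_zero {b d e e' w : Fin 4 → F} (hp : Pair qh b d) (he0 : e ≠ 0) (he' : e' ∉ F ∙ e)
    (eb : polar qh b e = 0) (ed : polar qh d e = 0) (e'b : polar qh b e' = 0) (e'd : polar qh d e' = 0)
    (wb : polar qh b w = 0) (wd : polar qh d w = 0) (we : polar qh e w = 0) (we' : polar qh e' w = 0) : w = 0 := by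
  by_contra hw
  refine hd.perp_aniso hp wb wd hw ?_
  obtain ⟨_, h1, _, h2, e1⟩ := Submodule.mem_sup.1 (hd.perp_pair_span hp he0 he' eb ed e'b e'd wb wd)
  obtain ⟨s, rfl⟩ := Submodule.mem_span_singleton.1 h1
  obtain ⟨t, rfl⟩ := Submodule.mem_span_singleton.1 h2
  refine quad_eq_zero_of_self hd.two ?_
  conv_lhs => arg 2; rw [← e1]
  rw [polar_add_left, polar_smul_l', polar_smul_l', we, we', mul_zero, mul_zero, add_zero]

/-- An anisotropic vector of the complement has an orthogonal companion. -/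
theorem exists_companion {b d e : Fin 4 → F} (hp : Pair qh b d) {a : F} (ha : a ≠ 0) (eb : polar qh b e = 0)
    (ed : polar qh d e = 0) (he0 : e ≠ 0) : ∃ e', Frame qh b d a e e' := by
  obtain ⟨e', he', he'0⟩ := Submodule.exists_mem_ne_zero_of_ne_bot
    (p := LinearMap.ker (polarBilin qh b) ⊓ LinearMap.ker (polarBilin qh d) ⊓ LinearMap.ker (polarBilin qh e))
    fun h => by
      have := hd.perp_ne_zero hp
      have := finrank_perp_vec (Q := qh) (S := LinearMap.ker (polarBilin qh b) ⊓ LinearMap.ker (polarBilin qh d)) e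
      rw [h, finrank_bot] at this
      omega
  exact ⟨e', hp, ha, eb, ed, he'.1.1, he'.1.2, hd.perp_aniso hp eb ed he0, hd.perp_aniso hp he'.1.1 he'.1.2 he'0, he'.2⟩

variable {b d e e' : Fin 4 → F} {a : F} (h : Frame qh b d a e e')
include h

theorem frame_notMem : e' ∉ F ∙ e := fun hmem => by
  obtain ⟨t, rfl⟩ := Submodule.mem_span_singleton.1 hmem
  have h1 := h.ee
  rw [polar_smul_r', polar_self'] at h1
  have ht : t = 0 := (mul_eq_zero.1 h1).resolve_right (mul_ne_zero hd.two h.qe)
  exact h.qe' (by rw [ht, zero_smul, QuadraticMap.map_zero])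

theorem frame_span (w : Fin 4 → F) :
    ∃ c₁ c₂ c₃ c₄ : F, w = c₁ • (b + a • d) + c₂ • (b + (-a) • d) + c₃ • e + c₄ • e' := by
  obtain ⟨hb, hd'⟩ := h.pair.part_perp w
  set w' := w - polar qh d w • b - polar qh b w • d with hw'
  have e0 : e ≠ 0 := fun h0 => h.qe (by rw [h0, QuadraticMap.map_zero])
  obtain ⟨_, h1, _, h2, e1⟩ := Submodule.mem_sup.1
    (hd.perp_pair_span h.pair e0 (hd.frame_notMem h) h.eb h.ed h.e'b h.e'd hb hd')
  obtain ⟨s, rfl⟩ := Submodule.mem_span_singleton.1 h1
  obtain ⟨t, rfl⟩ := Submodule.mem_span_singleton.1 h2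
  refine ⟨(2 : F)⁻¹ * (polar qh d w + polar qh b w / a), (2 : F)⁻¹ * (polar qh d w - polar qh b w / a), s, t, ?_⟩
  have ha := h.a0
  have h2 := hd.two
  rw [hw'] at e1
  linear_combination (norm := skip) -e1
  match_scalars <;> field_simp <;> ring

/-- Linear maps agreeing on a frame are equal. -/
theorem frame_ext {W : Type*} [AddCommGroup W] [Module F W] {f g : (Fin 4 → F) →ₗ[F] W}
    (h1 : f (b + a • d) = g (b + a • d)) (h2 : f (b + (-a) • d) = g (b + (-a) • d)) (h3 : f e = g e)
    (h4 : f e' = g e') : f = g := LinearMap.ext fun w => by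
  obtain ⟨c₁, c₂, c₃, c₄, rfl⟩ := hd.frame_span h w
  simp only [map_add, map_smul] at h1 h2 ⊢
  rw [h1, h2, h3, h4]

theorem flip_sq : flip2 qh b d a e * flip2 qh b d a e = 1 :=
  Subtype.ext (LinearEquiv.toLinearMap_injective (hd.frame_ext h
    (by show (flip2 qh b d a e).1 ((flip2 qh b d a e).1 _) = _; rw [h.flip_p, map_neg, h.flip_p, neg_neg]; rfl)
    (by show (flip2 qh b d a e).1 ((flip2 qh b d a e).1 _) = _; rw [h.flip_p', h.flip_p']; rfl)
    (by show (flip2 qh b d a e).1 ((flip2 qh b d a e).1 _) = _; rw [h.flip_e, map_neg, h.flip_e, neg_neg]; rfl)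
    (by show (flip2 qh b d a e).1 ((flip2 qh b d a e).1 _) = _; rw [h.flip_e', h.flip_e']; rfl)))

theorem flip_half (w : Fin 4 → F) :
    (flip2 qh b d a e).1 (half qh b d w) = half qh b d ((flip2 qh b d a e).1 w) :=
  LinearMap.congr_fun (hd.frame_ext h (f := (flip2 qh b d a e).1.toLinearMap ∘ₗ half qh b d)
    (g := half qh b d ∘ₗ (flip2 qh b d a e).1.toLinearMap)
    (by show (flip2 qh b d a e).1 (half qh b d _) = half qh b d _; rw [h.half_p, LinearEquiv.coe_coe, h.flip_p, map_neg, h.half_p])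
    (by show (flip2 qh b d a e).1 (half qh b d _) = half qh b d _; rw [h.half_p', LinearEquiv.coe_coe, h.flip_p', h.half_p'])
    (by show (flip2 qh b d a e).1 (half qh b d _) = half qh b d _
        rw [h.half_e, map_neg, LinearEquiv.coe_coe, h.flip_e, map_neg, h.half_e])
    (by show (flip2 qh b d a e).1 (half qh b d _) = half qh b d _
        rw [h.half_e', map_neg, LinearEquiv.coe_coe, h.flip_e', h.half_e'])) w

/-- The product with the half turn of the plane has trace zero. -/
theorem trace_flip_half : LinearMap.trace F _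
    (((flip2 qh b d a e).1 : (Fin 4 → F) →ₗ[F] (Fin 4 → F)) ∘ₗ half qh b d) = 0 := by
  rw [show ((flip2 qh b d a e).1 : (Fin 4 → F) →ₗ[F] (Fin 4 → F)) ∘ₗ half qh b d = half qh b d -
      ((a⁻¹ • polarBilin qh (b + a • d)) ∘ₗ half qh b d).smulRight (b + a • d) -
      (((qh e)⁻¹ • polarBilin qh e) ∘ₗ half qh b d).smulRight e from LinearMap.ext fun w => h.flip_apply _,
    map_sub, map_sub, hd.trace_half h.pair, LinearMap.trace_smulRight, LinearMap.trace_smulRight]
  simp only [LinearMap.comp_apply, LinearMap.smul_apply, QuadraticMap.polarBilin_apply_apply, h.half_p, h.half_e,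
    polar_neg_right, polar_self', h.qp, smul_eq_mul]
  have := h.a0
  have := h.qe
  field_simp
  ring

theorem det_flip : LinearMap.det ((flip2 qh b d a e).1 : (Fin 4 → F) →ₗ[F] (Fin 4 → F)) = 1 := by
  show LinearMap.det (((refl qh (b + a • d)).1 : (Fin 4 → F) →ₗ[F] (Fin 4 → F)) *
    ((refl qh e).1 : (Fin 4 → F) →ₗ[F] (Fin 4 → F))) = 1
  rw [map_mul, det_refl qh (by rw [h.qp]; exact h.a0), det_refl qh h.qe]
  ring

theorem flip_ne_scalar (κ : F) : ∃ w, (flip2 qh b d a e).1 w ≠ κ • w := by
  by_contra! hall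
  have e1 := hall (b + (-a) • d)
  have e2 := hall e
  rw [h.flip_p'] at e1
  rw [h.flip_e] at e2
  have hp0 : b + (-a) • d ≠ 0 := fun h0 => h.neg.a0 (by rw [← h.neg.qp, h0, QuadraticMap.map_zero])
  have he0 : e ≠ 0 := fun h0 => h.qe (by rw [h0, QuadraticMap.map_zero])
  have k1 : κ = 1 := smul_left_injective F hp0 (e1.symm.trans (one_smul F _).symm)
  have k2 : κ = -1 := smul_left_injective F he0 (e2.symm.trans (neg_one_smul F e).symm)
  exact hd.two (by linear_combination k2 - k1)

/-- Up to sign the product of the reflections gives an element of the commutator subgroup. -/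
theorem exists_flip_mem : ∃ (σ : orthGroup Q) (κ : F), σ ∈ commutator (orthGroup Q) ∧ IsTensor σ.1 ∧
    (κ = 1 ∨ κ = -1) ∧ ∀ u w, σ.1 (vecMulVec u w) = κ • vecMulVec u ((flip2 qh b d a e).1 w) := by
  classical
  have hgood := good_of_two_ne (V := Fin 4 → F) hd.two
  by_cases hs : IsSquare (a * qh e)
  · refine ⟨_, 1, hd.model.row_mem (C := flip2 qh b d a e) ?_, hd.model.row_tensor _, Or.inl rfl,
      fun u w => by rw [hd.model.row_pure, one_smul]⟩
    rw [flip2, CfsgLib.Orth.mem_commutator_iff, map_mul, ab_refl_eq hd.model.ndh hgood (b := e)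
      (by rw [h.qp]; exact h.a0) h.qe (by rw [h.qp]; exact hs), ab_refl_sq]
  have hnsq : ¬ IsSquare (-(qh e * qh e')) := by
    rintro ⟨s, hs'⟩
    set v := qh e' • e + s • e' with hv
    have hqv : qh v = 0 := by
      rw [hv, quad_add', quad_smul', quad_smul', polar_smul_l', polar_smul_r', h.ee, ← hs']; ring
    have hv0 : v ≠ 0 := fun h0 => by
      have := congrArg (polar qh e) h0
      rw [hv, polar_add_right, polar_smul_r', polar_smul_r', h.ee, polar_zero_right, polar_self', mul_zero,
        add_zero] at this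
      exact mul_ne_zero h.qe' (mul_ne_zero hd.two h.qe) this
    exact hd.perp_aniso h.pair (by rw [hv, polar_add_right, polar_smul_r', polar_smul_r', h.eb, h.e'b]; ring)
      (by rw [hv, polar_add_right, polar_smul_r', polar_smul_r', h.ed, h.e'd]; ring) hv0 hqv
  have hs' : IsSquare (-a * qh e') := by
    by_contra hns
    have hne1 : a * qh e ≠ 0 := mul_ne_zero h.a0 h.qe
    have hne2 : -a * qh e' ≠ 0 := mul_ne_zero (neg_ne_zero.2 h.a0) h.qe'
    obtain ⟨s, hs2⟩ : IsSquare (a * qh e * (-a * qh e')) := by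
      rw [← quadraticChar_one_iff_isSquare (mul_ne_zero hne1 hne2), map_mul,
        quadraticChar_neg_one_iff_not_isSquare.2 hs, quadraticChar_neg_one_iff_not_isSquare.2 hns]
      norm_num
    exact hnsq ⟨s / a, by have := h.a0; field_simp; linear_combination hs2⟩
  have h' : Frame qh b d (-a) e' e := ⟨h.pair, neg_ne_zero.2 h.a0, h.e'b, h.e'd, h.eb, h.ed, h.qe', h.qe,
    (polar_comm _ _ _).trans h.ee⟩
  have hneg : ∀ w, (flip2 qh b d (-a) e').1 w = -(flip2 qh b d a e).1 w := LinearMap.congr_fun (hd.frame_ext h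
    (f := (flip2 qh b d (-a) e').1.toLinearMap) (g := -(flip2 qh b d a e).1.toLinearMap)
    (by
      show (flip2 qh b d (-a) e').1 _ = -(flip2 qh b d a e).1 _
      rw [h.flip_p, neg_neg]
      exact h'.flip_perp ((polar_comm _ _ _).trans h.pp) ((polar_comm _ _ _).trans h.pe'))
    (by show (flip2 qh b d (-a) e').1 _ = -(flip2 qh b d a e).1 _; rw [h.flip_p', h'.flip_p])
    (by show (flip2 qh b d (-a) e').1 _ = -(flip2 qh b d a e).1 _; rw [h.flip_e, h'.flip_e', neg_neg])
    (by show (flip2 qh b d (-a) e').1 _ = -(flip2 qh b d a e).1 _; rw [h.flip_e', h'.flip_e]))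
  refine ⟨_, -1, hd.model.row_mem (C := flip2 qh b d (-a) e') ?_, hd.model.row_tensor _, Or.inr rfl,
      fun u w => by rw [hd.model.row_pure, hneg, vecMulVec_neg, neg_one_smul]⟩
  rw [flip2, CfsgLib.Orth.mem_commutator_iff, map_mul, ab_refl_eq hd.model.ndh hgood (b := e')
    (by rw [h'.qp]; exact h'.a0) h'.qe (by rw [h'.qp]; exact hs'), ab_refl_sq]

end Data

end CfsgLib.Classical.TensorMax34
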