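import Cfsg.Agent.Lib.Classical.TensorMax34.Basic
import Cfsg.Agent.Lib.Classical.TensorMaxU.Climb
import Cfsg.Agent.Lib.Coprime.Generation
import Mathlib.GroupTheory.SpecificGroups.Cyclic

/-!
# A slice of the first factor

An element of an overgroup mapping an anisotropic slice of the first factor to such a slice is a tensor map.
-/

set_option autoImplicit false
set_option linter.unusedSectionVars false

namespace CfsgLib.Classical.TensorMax34

open Matrix Module QuadraticMap CfsgLib.Orth CfsgLib.Classical CfsgLib.Classical.TensorMaxO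
open CfsgLib.Classical.TensorMax (IsTensor)
open CfsgLib.Classical.TensorMaxU (vecMulVec_row sl1 sl2 sl2_injective)

/-- A `p`-element normalising a subgroup of order divisible by `p` commutes with an element of order `p` in it. -/
theorem exists_commute_of_dvd {X : Type*} [Group X] [Finite X] {p : ℕ} [Fact p.Prime] {x : X}
    (hx : IsPGroup p (Subgroup.zpowers x)) {N : Subgroup X} (hN : x ∈ Subgroup.normalizer (N : Set X))
    (hdvd : p ∣ Nat.card N) : ∃ n ∈ N, n ≠ 1 ∧ Commute x n ∧ n ^ p = 1 := by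
  set G := Subgroup.normalizer (N : Set X)
  set N' : Subgroup G := N.subgroupOf G
  haveI : N'.Normal := Subgroup.normal_in_normalizer
  set x' : G := ⟨x, hN⟩
  have hx' : IsPGroup p (Subgroup.zpowers x') := by
    rintro ⟨z, i, rfl⟩
    obtain ⟨k, hk⟩ := hx ⟨x ^ i, i, rfl⟩
    refine ⟨k, Subtype.ext (Subtype.ext ?_)⟩
    simpa [x'] using congrArg Subtype.val hk
  obtain ⟨P, hP⟩ := hx'.exists_le_sylow
  set S := (P : Subgroup G) ⊓ N'
  have hcard : Nat.card N' = Nat.card N :=
    Nat.card_congr (Subgroup.subgroupOfEquivOfLe Subgroup.le_normalizer).toEquiv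
  have hpS : p ∣ Nat.card S := by
    rw [CfsgLib.Coprime.card_sylow_inf_normal P N']
    refine dvd_pow_self p (Nat.pos_iff_ne_zero.1 ?_)
    rw [hcard]
    exact (Fact.out : p.Prime).factorization_pos_of_dvd Nat.card_pos.ne' hdvd
  have hconj : ∀ z ∈ Subgroup.zpowers x', ∀ s ∈ S, z * s * z⁻¹ ∈ S := fun z hz s hs =>
    Subgroup.mem_inf.2 ⟨(P : Subgroup G).mul_mem ((P : Subgroup G).mul_mem (hP hz) hs.1)
      ((P : Subgroup G).inv_mem (hP hz)), Subgroup.Normal.conj_mem ‹N'.Normal› s hs.2 z⟩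
  letI : MulAction (Subgroup.zpowers x') S :=
    { smul := fun z s => ⟨(z : G) * s * (z : G)⁻¹, hconj z z.2 s s.2⟩
      one_smul := fun s => Subtype.ext (show (1 : G) * s * (1 : G)⁻¹ = s by group)
      mul_smul := fun z z' s => Subtype.ext
        (show ((z : G) * z') * s * ((z : G) * z')⁻¹ = z * (z' * s * (z' : G)⁻¹) * (z : G)⁻¹ by group) }
  obtain ⟨⟨r, hr⟩, hrfix, hr1⟩ := hx'.exists_fixed_point_of_prime_dvd_card_of_fixed_point S hpS
    (a := 1) (fun z => Subtype.ext (show (z : G) * 1 * (z : G)⁻¹ = 1 by group))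
  have hrx : Commute x' r :=
    mul_inv_eq_iff_eq_mul.1 (congrArg Subtype.val (hrfix ⟨x', Subgroup.mem_zpowers x'⟩))
  have hr1' : r ≠ 1 := fun h => hr1 (Subtype.ext h.symm)
  have hrp : IsPGroup p (Subgroup.zpowers r) :=
    P.isPGroup'.to_le (Subgroup.zpowers_le.2 hr.1)
  obtain ⟨⟨n, i, rfl⟩, hn⟩ := exists_prime_orderOf_dvd_card' (G := Subgroup.zpowers r) p
    (hrp.card_eq_or_dvd.resolve_left fun h => hr1' (Subgroup.zpowers_eq_bot.1 (Subgroup.eq_bot_of_card_eq _ h)))
  rw [← Subgroup.orderOf_coe] at hn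
  refine ⟨((r ^ i : G) : X), ?_, ?_, ?_, ?_⟩
  · exact Subgroup.zpow_mem N' hr.2 i
  · intro h
    have : r ^ i = 1 := Subtype.ext h
    simp only [this, orderOf_one] at hn
    exact (Fact.out : p.Prime).one_lt.ne hn
  · exact (hrx.zpow_right i).map G.subtype
  · have := pow_orderOf_eq_one (r ^ i)
    rw [show orderOf (r ^ i) = p from hn] at this
    exact congrArg Subtype.val this

theorem isSiegel_pow {F V : Type*} [Field F] [AddCommGroup V] [Module F V] [FiniteDimensional F V] {Q : QuadraticForm F V} {g : orthGroup Q}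
    {d u : V} (h : IsSiegel g d u) : ∀ n : ℕ, IsSiegel (g ^ n) d ((n : F) • u)
  | 0 => by rw [pow_zero, Nat.cast_zero, zero_smul]; exact isSiegel_one h.1
  | n + 1 => by rw [pow_succ, Nat.cast_succ, add_smul, one_smul]; exact (isSiegel_pow h n).mul h

theorem isSiegel_pow_char {F V : Type*} [Field F] [AddCommGroup V] [Module F V] [FiniteDimensional F V]
    {Q : QuadraticForm F V}
    (p : ℕ) [CharP F p] {g : orthGroup Q} {d u : V} (h : IsSiegel g d u) : g ^ p = 1 := by
  have h' := isSiegel_pow h p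
  rw [CharP.cast_eq_zero, zero_smul] at h'
  exact h'.unique (isSiegel_one h.1)

variable {F : Type*} [Field F]

/-- An isometry of three-dimensional space of order `p` fixes no anisotropic vector. -/
theorem eq_one_of_pow_char {qf : QuadraticForm F (Fin 3 → F)} (hq : (polarBilin qf).Nondegenerate) (h2 : (2 : F) ≠ 0)
    (p : ℕ) [CharP F p] [Fact p.Prime] {v : Fin 3 → F} (hv : qf v ≠ 0) {A : orthGroup qf} (hAv : A.1 v = v)
    (hA : A ^ p = 1) : A = 1 := by
  haveI : CharP (Module.End F (Fin 3 → F)) p :=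
    charP_of_injective_algebraMap (FaithfulSMul.algebraMap_injective F (Module.End F (Fin 3 → F))) p
  let φ : orthGroup qf →* Module.End F (Fin 3 → F) :=
    { toFun := fun B => B.1.toLinearMap, map_one' := rfl, map_mul' := fun _ _ => rfl }
  set N : Module.End F (Fin 3 → F) := φ A - 1 with hN
  have hNp : N ^ p = 0 := by
    rw [hN, sub_pow_char_of_commute _ (Commute.one_right (φ A)), one_pow, ← map_pow, hA, map_one, sub_self]
  have hNa : ∀ u, A.1 u = u + N u := fun u => by
    show A.1 u = u + (A.1 u - u)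
    abel
  by_contra hne
  have hN0 : N ≠ 0 := fun h => hne (Subtype.ext (LinearEquiv.ext fun u => by
    show A.1 u = u
    rw [hNa, h, LinearMap.zero_apply, add_zero]))
  classical
  have hex : ∃ k, N ^ k = 0 := ⟨p, hNp⟩
  obtain ⟨k, hk, hmin⟩ : ∃ k, N ^ (k + 2) = 0 ∧ N ^ (k + 1) ≠ 0 := by
    have h0 := Nat.find_spec hex
    obtain ⟨k, hk⟩ : ∃ k, Nat.find hex = k + 2 := by
      rcases hf : Nat.find hex with _ | _ | k
      · rw [hf, pow_zero] at h0
        exact absurd h0 one_ne_zero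
      · rw [hf, pow_one] at h0
        exact absurd h0 hN0
      · exact ⟨k, rfl⟩
    exact ⟨k, hk ▸ h0, Nat.find_min hex (by omega)⟩
  obtain ⟨u, hu⟩ : ∃ u, (N ^ (k + 1)) u ≠ 0 := by
    by_contra! h
    exact hmin (LinearMap.ext h)
  set z := (N ^ k) u
  set x := N z with hx
  have hx0 : x ≠ 0 := by rw [hx]; rw [pow_succ'] at hu; exact hu
  have hNx : N x = 0 := by
    have := LinearMap.congr_fun hk u
    rw [pow_succ', pow_succ'] at this
    exact this
  have hperp : ∀ w y, N w = 0 → polar qf w (N y) = 0 := fun w y hw => by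
    have h := polar_isom A w y
    rw [hNa w, hNa y, hw, add_zero, polar_add_right] at h
    linear_combination h
  have hNv : N v = 0 := by
    show A.1 v - v = 0
    rw [hAv, sub_self]
  have hxv : polar qf v x = 0 := hperp v z hNv
  have hxx : polar qf x x = 0 := hperp x z hNx
  have hqx : qf x = 0 := by
    rw [polar_self'] at hxx
    exact (mul_eq_zero.1 hxx).resolve_left h2
  have hzx : polar qf z x = 0 := by
    have h := apply_quad A z
    rw [hNa, ← hx, quad_add', hqx] at h
    linear_combination h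
  have hvx : v ∉ F ∙ x := fun h => by
    obtain ⟨t, rfl⟩ := Submodule.mem_span_singleton.1 h
    rw [quad_smul', hqx, mul_zero] at hv
    exact hv rfl
  have hzW : z ∉ (F ∙ x) ⊔ (F ∙ v) := fun h => hx0 (by
    have hle : (F ∙ x) ⊔ (F ∙ v) ≤ LinearMap.ker N := sup_le ((Submodule.span_singleton_le_iff_mem _ _).2 hNx)
      ((Submodule.span_singleton_le_iff_mem _ _).2 hNv)
    exact LinearMap.mem_ker.1 (hle h))
  have l1 : (F ∙ x) < (F ∙ x) ⊔ (F ∙ v) := lt_of_le_of_ne le_sup_left fun h =>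
    hvx (h ▸ Submodule.mem_sup_right (Submodule.mem_span_singleton_self v))
  have l2 : (F ∙ x) ⊔ (F ∙ v) < ((F ∙ x) ⊔ (F ∙ v)) ⊔ (F ∙ z) := lt_of_le_of_ne le_sup_left fun h =>
    hzW (h ▸ Submodule.mem_sup_right (Submodule.mem_span_singleton_self z))
  have htop : ((F ∙ x) ⊔ (F ∙ v)) ⊔ (F ∙ z) = ⊤ := by
    refine Submodule.eq_top_of_finrank_eq (le_antisymm (Submodule.finrank_le _) ?_)
    have := Submodule.finrank_lt_finrank_of_lt l1
    have := Submodule.finrank_lt_finrank_of_lt l2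
    rw [finrank_span_singleton hx0] at *
    rw [finrank_fin_fun]
    omega
  refine hx0 (hq.1 x fun w => ?_)
  have hle : ((F ∙ x) ⊔ (F ∙ v)) ⊔ (F ∙ z) ≤ LinearMap.ker (polarBilin qf x) :=
    sup_le (sup_le ((Submodule.span_singleton_le_iff_mem _ _).2 hxx)
      ((Submodule.span_singleton_le_iff_mem _ _).2 ((polar_comm _ _ _).trans hxv)))
      ((Submodule.span_singleton_le_iff_mem _ _).2 ((polar_comm _ _ _).trans hzx))
  exact LinearMap.mem_ker.1 (hle (htop ▸ Submodule.mem_top))

variable {Q : QuadraticForm F (Matrix (Fin 3) (Fin 4) F)} {qf : QuadraticForm F (Fin 3 → F)}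
  {qh : QuadraticForm F (Fin 4 → F)} {M : Subgroup (orthGroup Q)}

/-- Elements mapping a singular slice to a slice are tensor maps. -/
def SliceFree (M : Subgroup (orthGroup Q)) (qh : QuadraticForm F (Fin 4 → F)) : Prop :=
  ∀ g ∈ M, ∀ b₀ c : Fin 4 → F, b₀ ≠ 0 → qh b₀ = 0 →
    (∀ u, ∃ u', g.1 (vecMulVec u b₀) = vecMulVec u' c) → IsTensor g.1

/-- The tensor maps. -/
def tensorSub (Q : QuadraticForm F (Matrix (Fin 3) (Fin 4) F)) : Subgroup (orthGroup Q) where
  carrier := {g | IsTensor g.1}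
  mul_mem' := fun hg hh => hg.mul hh
  one_mem' := ⟨1, 1, by simp, by simp, fun X => by simp⟩
  inv_mem' := fun hg => hg.inv

/-- The maps fixing a slice of the first factor pointwise. -/
def lineFix (Q : QuadraticForm F (Matrix (Fin 3) (Fin 4) F)) (v : Fin 3 → F) : Subgroup (orthGroup Q) where
  carrier := {g | ∀ w, g.1 (vecMulVec v w) = vecMulVec v w}
  mul_mem' := fun {g h} hg hh w => by rw [TensorMaxO.mul_apply', hh, hg]
  one_mem' := fun _ => rfl
  inv_mem' := fun {g} hg w => g.1.injective (by rw [Orth.inv_apply, hg])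

/-- The Siegel elements of the second factor with a given centre. -/
def siegelRow [Fintype F] (hm : TensorMaxO.Model Q qf qh) {c : Fin 4 → F} (hc : qh c = 0) :
    Subgroup (orthGroup Q) where
  carrier := {k | ∃ C y, IsSiegel C c y ∧ hm.row C = k}
  mul_mem' := by
    rintro _ _ ⟨C, y, hC, rfl⟩ ⟨C', y', hC', rfl⟩
    exact ⟨C * C', y + y', hC.mul hC', map_mul _ _ _⟩
  one_mem' := ⟨1, 0, isSiegel_one hc, map_one _⟩
  inv_mem' := by
    rintro _ ⟨C, y, hC, rfl⟩
    obtain ⟨C', hC'⟩ := exists_isSiegel hm.ndh hc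
      (show polar qh c (-y) = 0 by rw [polar_neg_right, hC.2.1, neg_zero])
    refine ⟨C', -y, hC', ?_⟩
    have h := hC'.mul hC
    rw [neg_add_cancel] at h
    rw [eq_inv_iff_mul_eq_one, ← map_mul, h.unique (isSiegel_one hc), map_one]

namespace Data

variable (hd : Data Q qf qh) [Fintype F]
include hd

theorem row_injective {C C' : orthGroup qh} (h : hd.model.row C = hd.model.row C') : C = C' :=
  Subtype.ext (LinearEquiv.ext fun w => TensorMaxU.sl1_injective (b := 4) (u := (Pi.single 0 1 : Fin 3 → F))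
    (by simp) (by
      show vecMulVec _ (C.1 w) = vecMulVec _ (C'.1 w)
      rw [← hd.model.row_pure, ← hd.model.row_pure, h]))

/-- The square of a Siegel element minus one. -/
theorem siegel_sq {C : orthGroup qh} {c y : Fin 4 → F} (hC : IsSiegel C c y) (X : Matrix (Fin 3) (Fin 4) F) :
    (hd.model.row C).1 ((hd.model.row C).1 X) - (2 : F) • (hd.model.row C).1 X + X =
      vecMulVec (-(2 * qh y) • ct 3 qh c X) c := by
  have key : ∀ x : Fin 4 → F, C.1 (C.1 x) - (2 : F) • C.1 x + x = (-(2 * qh y) * polar qh c x) • c := fun x => by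
    obtain ⟨hc, hcy, hf⟩ := hC
    rw [hf (C.1 x), hf x]
    simp only [polar_add_right, polar_smul_r', polar_self', hc, hcy, polar_comm _ y c]
    module
  funext i
  show C.1 (C.1 (X i)) - (2 : F) • C.1 (X i) + X i = _
  rw [key, vecMulVec_row, Pi.smul_apply, smul_eq_mul, ct_apply]

theorem quad_ne_of_siegel_ne {C : orthGroup qh} {c y : Fin 4 → F} (hc0 : c ≠ 0) (hC : IsSiegel C c y)
    (h1 : C ≠ 1) : qh y ≠ 0 := fun h => by
  obtain ⟨t, rfl⟩ := Submodule.mem_span_singleton.1 (hd.line_four hc0 hC.1 h hC.2.1)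
  exact h1 (hC.unique (isSiegel_one_smul hC.1 t))

/-- An element of `M` commuting with a Siegel element of the second factor is a tensor map. -/
theorem tensor_of_commute_siegel (hNF : SliceFree M qh) {n : orthGroup Q} (hn : n ∈ M) {C : orthGroup qh}
    {c y : Fin 4 → F} (hc0 : c ≠ 0) (hC : IsSiegel C c y) (hy : qh y ≠ 0) (hcom : Commute (hd.model.row C) n) :
    IsTensor n.1 := by
  obtain ⟨p, -, hcp⟩ := exists_partner hd.model.ndh hC.1 hc0
  refine hNF n hn c c hc0 hC.1 fun u => ⟨(-(2 * qh y))⁻¹ • (-(2 * qh y) • ct 3 qh c (n.1 (vecMulVec u p))), ?_⟩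
  have hR : ∀ X, n.1 ((hd.model.row C).1 X) = (hd.model.row C).1 (n.1 X) := fun X =>
    congrArg (fun k : orthGroup Q => k.1 X) hcom.eq.symm
  have e := congrArg n.1 (hd.siegel_sq hC (vecMulVec u p))
  rw [map_add, map_sub, map_smul, hR, hR, hd.siegel_sq hC] at e
  simp only [ct_vecMulVec, hcp, one_smul, smul_vecMulVec, map_smul] at e
  rw [smul_vecMulVec, smul_vecMulVec, e, smul_smul, inv_mul_cancel₀ (neg_ne_zero.2 (mul_ne_zero hd.two hy)), one_smul]

/-- A tensor map fixing a slice pointwise is an isometry of the first factor. -/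
theorem eq_col_of_fix {n : orthGroup Q} (hT : IsTensor n.1) {v : Fin 3 → F} (hv : qf v ≠ 0)
    (hfix : n ∈ lineFix Q v) : ∃ A : orthGroup qf, A.1 v = v ∧ n = hd.model.col A := by
  obtain ⟨A₀, C₀, hA₀, hC₀, h0⟩ := TensorMaxU.tensor_pure hT
  have hv0 : v ≠ 0 := fun e => hv (by rw [e, QuadraticMap.map_zero])
  obtain ⟨w₀, -, hw₀⟩ := exists_anisotropic_in hd.model.ndh (S := ⊤) (by rw [finrank_top, finrank_fin_fun]; omega)
  have hw₀0 : w₀ ≠ 0 := fun e => hw₀ (by rw [e, QuadraticMap.map_zero])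
  have hAC : ∀ w, vecMulVec (A₀ v) (C₀ w) = vecMulVec v w := fun w => (h0 v w).symm.trans (hfix w)
  obtain ⟨μ, hμ⟩ := Submodule.mem_span_singleton.1
    (TensorMaxU.left_mem_span (hAC w₀) (fun e => hw₀0 (hC₀ (by rw [e, map_zero]))))
  have hC : ∀ w, μ • C₀ w = w := fun w => TensorMaxU.sl1_injective (b := 4) hv0 (by
    show vecMulVec v (μ • C₀ w) = vecMulVec v w
    rw [vecMulVec_smul, ← smul_vecMulVec, hμ, hAC])
  have hμ0 : μ ≠ 0 := fun e => hw₀0 (by rw [← hC w₀, e, zero_smul])
  set A : (Fin 3 → F) →ₗ[F] (Fin 3 → F) := μ⁻¹ • A₀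
  have hpure : ∀ u w, n.1 (vecMulVec u w) = vecMulVec (A u) w := fun u w => by
    conv_rhs => rw [← hC w, vecMulVec_smul]
    rw [h0, LinearMap.smul_apply, smul_vecMulVec, smul_smul, mul_inv_cancel₀ hμ0, one_smul]
  have hA : ∀ u, qf (A u) = qf u := fun u => by
    have h := apply_quad n (vecMulVec u w₀)
    rw [hpure, hd.model.quad_pure, hd.model.quad_pure] at h
    exact mul_left_cancel₀ hd.two (mul_right_cancel₀ hw₀ h)
  have hinj : Function.Injective A := fun u u' h => hA₀ (by
    have := congrArg (fun z => μ • z) h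
    simpa [A, smul_smul, mul_inv_cancel₀ hμ0] using this)
  refine ⟨⟨LinearEquiv.ofInjectiveEndo A hinj, hA⟩, ?_, Subtype.ext (LinearEquiv.toLinearMap_injective
    (ext_pure fun u w => (hpure u w).trans
      (hd.model.col_pure ⟨LinearEquiv.ofInjectiveEndo A hinj, hA⟩ u w).symm))⟩
  show μ⁻¹ • A₀ v = v
  rw [← hμ, smul_smul, inv_mul_cancel₀ hμ0, one_smul]

theorem finite_orth : Finite (orthGroup Q) :=
  have : Finite (Matrix (Fin 3) (Fin 4) F ≃ₗ[F] Matrix (Fin 3) (Fin 4) F) :=
    Finite.of_injective _ DFunLike.coe_injective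
  inferInstance

/-- An element mapping a slice of the first factor to another is a tensor map. -/
theorem tensor_of_first_slice (hM : ContainsTensor M) (hNF : SliceFree M qh) {g : orthGroup Q} (hg : g ∈ M)
    {v v' : Fin 3 → F} (hv : qf v ≠ 0) (hv' : qf v' ≠ 0)
    (hs : ∀ w, ∃ w', g.1 (vecMulVec v w) = vecMulVec v' w') : IsTensor g.1 := by
  classical
  haveI := hd.finite_orth
  have hm := hd.model
  have hF := hM.factors hm
  set p := ringChar F
  haveI : CharP F p := ringChar.charP F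
  haveI : Fact p.Prime := ⟨CharP.char_is_prime F p⟩
  set N := M ⊓ lineFix Q v'
  obtain ⟨c, hc0, hc⟩ := CfsgLib.Orth.exists_singular hm.ndh (by rw [finrank_fin_fun]; omega)
  set R := siegelRow hm hc with hR
  have hRN : R ≤ Subgroup.normalizer (N : Set (orthGroup Q)) := by
    have hconj : ∀ k ∈ R, ∀ n ∈ N, k * n * k⁻¹ ∈ N := by
      rintro _ ⟨C, y, hC, rfl⟩ n hn
      refine ⟨M.mul_mem (M.mul_mem (hF.row_siegel hC) hn.1) (M.inv_mem (hF.row_siegel hC)), fun w => ?_⟩
      rw [TensorMaxO.mul_apply', TensorMaxO.mul_apply', ← map_inv, hm.row_pure, hn.2, hm.row_pure, Orth.inv_apply]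
    refine fun k hk => Subgroup.mem_normalizer_iff.2 fun n => ⟨hconj k hk n, fun h => ?_⟩
    simpa [mul_assoc] using hconj k⁻¹ (inv_mem hk) _ h
  have hcol : ∀ n ∈ N, IsTensor n.1 → n ^ p = 1 → n = 1 := fun n hn hT hnp => by
    obtain ⟨A, hAv, rfl⟩ := hd.eq_col_of_fix hT hv' hn.2
    rw [eq_one_of_pow_char hm.ndf hm.two p hv' hAv (Subtype.ext (LinearEquiv.ext fun u =>
      sl2_injective (a := 3) (w := c) hc0 (by
        show vecMulVec ((A ^ p).1 u) c = vecMulVec u c
        rw [← hm.col_pure, map_pow, hnp]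
        rfl))), map_one]
  -- a first Siegel element
  obtain ⟨y₀, hy₀, hqy₀⟩ := exists_anisotropic_in hm.ndh (S := LinearMap.ker (polarBilin qh c))
    (by have := finrank_kerPolar (Q := qh) c; rw [finrank_fin_fun] at *; omega)
  obtain ⟨C₀, hC₀⟩ := exists_isSiegel hm.ndh hc (show polar qh c y₀ = 0 from hy₀)
  have hRp : IsPGroup p R := by
    rintro ⟨_, C, y, hC, rfl⟩
    refine ⟨1, Subtype.ext ?_⟩
    show hm.row C ^ (p ^ 1) = 1
    rw [pow_one, ← map_pow, isSiegel_pow_char p hC, map_one]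
  have hndvd : ¬ p ∣ Nat.card N := by
    intro hdvd
    obtain ⟨n, hn, hn1, hcom, hnp⟩ := exists_commute_of_dvd
      (hRp.to_le (Subgroup.zpowers_le.2 (show hm.row C₀ ∈ R from ⟨C₀, y₀, hC₀, rfl⟩)))
      (hRN ⟨C₀, y₀, hC₀, rfl⟩) hdvd
    exact hn1 (hcol n hn (hd.tensor_of_commute_siegel hNF hn.1 hc0 hC₀ hqy₀ hcom) hnp)
  haveI : IsMulCommutative R := by
    refine ⟨⟨?_⟩⟩
    rintro ⟨_, C, y, hC, rfl⟩ ⟨_, C', y', hC', rfl⟩
    refine Subtype.ext ?_
    show hm.row C * hm.row C' = hm.row C' * hm.row C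
    rw [← map_mul, ← map_mul, (hC.mul hC').unique (add_comm y' y ▸ hC'.mul hC)]
  have hnc : ¬ IsCyclic R := by
    intro hcyc
    obtain ⟨⟨_, C₁, y₁, hC₁, rfl⟩, hgen⟩ := hcyc.exists_monoid_generator
    have hle : LinearMap.ker (polarBilin qh c) ≤ (F ∙ c) ⊔ (F ∙ y₁) := fun y hy => by
      obtain ⟨C, hC⟩ := exists_isSiegel hm.ndh hc hy
      obtain ⟨i, hi⟩ := (Submonoid.mem_powers_iff _ _).1 (hgen ⟨hm.row C, C, y, hC, rfl⟩)
      replace hi := congrArg Subtype.val hi
      have hi' : C₁ ^ i = C := hd.row_injective (by rw [map_pow]; exact hi)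
      have h' := isSiegel_pow hC₁ i
      rw [hi'] at h'
      obtain ⟨q, -, hcq⟩ := exists_partner hm.ndh hc hc0
      have e := (hC.2.2 q).symm.trans (h'.2.2 q)
      rw [hcq, one_smul, one_smul, add_assoc, add_assoc, add_right_inj] at e
      refine Submodule.mem_sup.2 ⟨(-(polar qh ((i : F) • y₁) q) - qh ((i : F) • y₁) * 1 -
        (-(polar qh y q) - qh y * 1)) • c, Submodule.smul_mem _ _ (Submodule.mem_span_singleton_self c),
        (i : F) • y₁, Submodule.smul_mem _ _ (Submodule.mem_span_singleton_self y₁), ?_⟩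
      linear_combination (norm := module) -e
    have h1 := finrank_kerPolar (Q := qh) c
    have h2 := Submodule.finrank_mono hle
    have h3 := Submodule.finrank_add_le_finrank_add_finrank (F ∙ c) (F ∙ y₁)
    have h4 := finrank_span_le_card (R := F) ({c} : Set (Fin 4 → F))
    have h5 := finrank_span_le_card (R := F) ({y₁} : Set (Fin 4 → F))
    simp only [Set.toFinset_singleton, Finset.card_singleton] at h4 h5
    rw [finrank_fin_fun] at h1
    omega
  have hcop : (Nat.card R).Coprime (Nat.card N) := by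
    obtain ⟨k, hk⟩ := hRp.exists_card_eq
    rw [hk]
    exact Nat.Coprime.pow_left _ ((Fact.out : p.Prime).coprime_iff_not_dvd.2 hndvd)
  have hNT : N ≤ tensorSub Q := by
    rw [← CfsgLib.Coprime.iSup_centralizer_singleton hnc hRN hcop]
    refine iSup₂_le fun k hk n hn => ?_
    obtain ⟨⟨C, y, hC, rfl⟩, hk1⟩ := hk
    exact hd.tensor_of_commute_siegel hNF hn.1.1 hc0 hC
      (hd.quad_ne_of_siegel_ne hc0 hC fun e => hk1 (by rw [e, map_one]))
      (Subgroup.mem_centralizer_singleton_iff.1 hn.2).symm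
  -- the induced similitude
  set r := (polar qf v' v')⁻¹ • v'
  have hrv : polar qf r v' = 1 := by
    rw [polar_smul_l', inv_mul_cancel₀ (by rw [polar_self']; exact mul_ne_zero hm.two hv')]
  set D : (Fin 4 → F) →ₗ[F] (Fin 4 → F) := TensorMaxS.ct1 4 (polarBilin qf) r ∘ₗ g.1.toLinearMap ∘ₗ sl1 4 v
  have hgD : ∀ w, g.1 (vecMulVec v w) = vecMulVec v' (D w) := fun w => by
    obtain ⟨w', hw'⟩ := hs w
    have : D w = w' := by
      show TensorMaxS.ct1 4 (polarBilin qf) r (g.1 (vecMulVec v w)) = w'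
      rw [hw', TensorMaxS.ct1_vecMulVec, QuadraticMap.polarBilin_apply_apply, hrv, one_smul]
    rw [this, hw']
  set l := qf v / qf v'
  have hl0 : l ≠ 0 := div_ne_zero hv hv'
  have hDp : ∀ w w', polar qh (D w) (D w') = l * polar qh w w' := fun w w' => by
    have h := polar_isom g (vecMulVec v w) (vecMulVec v w')
    rw [hgD, hgD, hm.pol, hm.pol, polar_self', polar_self'] at h
    have h2 := hm.two
    simp only [l]
    field_simp
    exact mul_left_cancel₀ h2 (by linear_combination h)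
  have hDq : ∀ w, qh (D w) = l * qh w := fun w => by
    refine mul_left_cancel₀ hm.two ?_
    rw [← polar_self', hDp, polar_self']
    ring
  have hDinj : Function.Injective D := fun w w' h => by
    have hv0 : v ≠ 0 := fun e => hv (by rw [e, QuadraticMap.map_zero])
    exact TensorMaxU.sl1_injective (b := 4) hv0 (g.1.injective ((hgD w).trans (h ▸ (hgD w').symm)))
  have hDsurj : Function.Surjective D := D.surjective_of_injective hDinj
  have hDc : qh (D c) = 0 := by rw [hDq, hc, mul_zero]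
  obtain ⟨C', hC'⟩ := exists_isSiegel hm.ndh hDc (show polar qh (D c) (l⁻¹ • D y₀) = 0 by
    rw [polar_smul_r', hDp, show polar qh c y₀ = 0 from hy₀, mul_zero, mul_zero])
  have hint : ∀ w, C'.1 (D w) = D (C₀.1 w) := fun w => by
    rw [hC'.2.2, hC₀.2.2, hDp, polar_smul_l', hDp, quad_smul', hDq]
    simp only [map_add, map_smul]
    match_scalars <;> field_simp
  set j := g * hm.row C₀ * g⁻¹ with hj
  have hjp : j ^ p = 1 := by
    rw [hj, conj_pow, ← map_pow, isSiegel_pow_char p hC₀, map_one, mul_one, mul_inv_cancel]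
  set n := (hm.row C')⁻¹ * j with hn
  have hnN : n ∈ N := by
    refine ⟨M.mul_mem (M.inv_mem (hF.row_siegel hC')) (M.mul_mem (M.mul_mem hg (hF.row_siegel hC₀)) (M.inv_mem hg)),
      fun w => ?_⟩
    obtain ⟨w, rfl⟩ := hDsurj w
    have hgi : (g⁻¹).1 (vecMulVec v' (D w)) = vecMulVec v w := by
      rw [← hgD]; exact g.1.symm_apply_apply _
    rw [hn, TensorMaxO.mul_apply', hj, TensorMaxO.mul_apply', TensorMaxO.mul_apply', hgi, hm.row_pure, hgD, ← map_inv,
      hm.row_pure, ← hint]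
    congr 1
    exact C'.1.symm_apply_apply _
  obtain ⟨A, -, hnA⟩ := hd.eq_col_of_fix (hNT hnN) hv' hnN.2
  have hcom : Commute (hm.row C') (hm.col A) := Subtype.ext (LinearEquiv.toLinearMap_injective
    (ext_pure fun u w => by simp [TensorMaxO.mul_apply', hm.row_pure, hm.col_pure]))
  have hjn : j = hm.row C' * n := by rw [hn, mul_inv_cancel_left]
  have hn1 : n = 1 := hcol n hnN (hNT hnN) (by
    have := hjp
    rwa [hjn, hnA, hcom.mul_pow, ← map_pow, isSiegel_pow_char p hC', map_one, one_mul, ← hnA] at this)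
  have hR' : ∀ X, g.1 ((hm.row C₀).1 X) = (hm.row C').1 (g.1 X) := fun X => by
    have h := congrArg (fun k : orthGroup Q => k.1 (g.1 X)) hjn
    simp only [hn1, mul_one, hj, TensorMaxO.mul_apply'] at h
    rwa [show (g⁻¹).1 (g.1 X) = X from g.1.symm_apply_apply X] at h
  obtain ⟨q, -, hcq⟩ := exists_partner hm.ndh hc hc0
  refine hNF g hg c (D c) hc0 hc fun u => ⟨(-(2 * qh y₀))⁻¹ •
    (-(2 * qh (l⁻¹ • D y₀)) • ct 3 qh (D c) (g.1 (vecMulVec u q))), ?_⟩
  have e := congrArg g.1 (hd.siegel_sq hC₀ (vecMulVec u q))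
  rw [map_add, map_sub, map_smul, hR', hR', hd.siegel_sq hC'] at e
  simp only [ct_vecMulVec, hcq, one_smul, smul_vecMulVec, map_smul] at e
  rw [smul_vecMulVec, smul_vecMulVec, e, smul_smul, inv_mul_cancel₀ (neg_ne_zero.2 (mul_ne_zero hm.two hqy₀)), one_smul]

end Data

end CfsgLib.Classical.TensorMax34
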