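import Cfsg.Agent.Lib.Classical.TensorMax34.Slice
import Cfsg.Agent.Lib.Classical.TensorMax34.Final
import Cfsg.Agent.Lib.Classical.TensorMaxO.Matrix

/-!
# The stabiliser of the tensor product of a three-space and a four-space of minus type is maximal in `Ω`
-/

set_option autoImplicit false
set_option linter.unusedSectionVars false
set_option backward.isDefEq.respectTransparency false

namespace CfsgLib.Classical.TensorMax34

open Matrix Module QuadraticMap CfsgLib.Orth CfsgLib.Classical CfsgLib.Classical.TensorMaxO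
open CfsgLib.Classical.TensorMax (IsTensor)

variable {F : Type*} [Field F] [Fintype F]

/-- An overgroup of the tensor maps of `Ω` with a further element of `Ω` contains `Ω`. -/
theorem Data.omega_le_of_not_tensor {Q : QuadraticForm F (Matrix (Fin 3) (Fin 4) F)}
    {qf : QuadraticForm F (Fin 3 → F)} {qh : QuadraticForm F (Fin 4 → F)} (hd : Data Q qf qh)
    (hq : 5 ≤ Fintype.card F) {M : Subgroup (orthGroup Q)} (hM : ContainsTensor M) {g : orthGroup Q} (hg : g ∈ M)
    (hgc : g ∈ commutator (orthGroup Q)) (hgT : ¬ IsTensor g.1) : commutator (orthGroup Q) ≤ M := by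
  set M' := M ⊓ commutator (orthGroup Q)
  have hM' : ContainsTensor M' := fun k hk hkT => ⟨hM k hk hkT, hk⟩
  by_cases hNF : SliceFree M' qh
  · exact absurd (hd.isTensor_of_sliceFree hM' inf_le_right hNF hq (⟨hg, hgc⟩ : g ∈ M')) hgT
  · simp only [SliceFree, not_forall, exists_prop] at hNF
    obtain ⟨k, hk, b₀, c, hb0, hbs, hs, hkT⟩ := hNF
    exact (hd.omega_le_of_slice (hM'.factors hd.model) hk hkT hb0 hbs hs).trans inf_le_left

variable {ι : Type} [Fintype ι] [DecidableEq ι]

/-- The stabiliser of the tensor decomposition is maximal in `Ω`. -/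
theorem omega_isMaximal {Qf : (ι → F) → F} (hQ : Cfsg.Geo.IsNondegenerateQuadraticForm Qf) (h2 : (2 : F) ≠ 0)
    (hq : 5 ≤ Fintype.card F) {e : ι ≃ Fin 3 × Fin 4} {P : GL ι F}
    {f₁ : (Fin 3 → F) → (Fin 3 → F) → F} {f₂ : (Fin 4 → F) → (Fin 4 → F) → F}
    (hf₁ : Cfsg.Geo.IsSymmetricForm f₁) (hf₂ : Cfsg.Geo.IsSymmetricForm f₂)
    (hminus : ¬ Cfsg.Geo.IsPlusTypeOn (fun v : Fin 4 → F => f₂ v v) ⊤)
    (hT : Cfsg.Geo.IsTensorFormStructure id (polar Qf) f₁ f₂ e P) :
    Cfsg.Geo.IsMaximalIn (Cfsg.Geo.omegaGL Qf)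
      (Cfsg.Geo.tensorProductSubgroup 3 4 e P ⊓ Cfsg.Geo.omegaGL Qf) := by
  classical
  obtain ⟨Q, hQf, -⟩ := exists_quadOf hQ
  obtain ⟨c, hc, hf⟩ := TensorNonMax.tmap_form e P (σ := id) (fun _ _ => rfl) hT
  set Φ := coordsI e P with hΦ
  set Q' : QuadraticForm F (Matrix (Fin 3) (Fin 4) F) := Q.comp Φ.toLinearMap with hQ'
  have hQ'v : ∀ X, Q (Φ X) = Q' X := fun X => rfl
  have gr : ∀ {k : ℕ} {g : (Fin k → F) → (Fin k → F) → F} (hg : Cfsg.Geo.IsSymmetricForm g) (x y : Fin k → F),
      Cfsg.Geo.formOfGram id (Cfsg.Geo.gramMatrix g) x y = g x y := fun {k g} hg x y =>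
    TensorNonMax.gram_expand hg.bilinear.add_left hg.bilinear.smul_left hg.bilinear.add_right
      (fun t v x => hg.bilinear.smul_right t v x) x y
  have hm : Model Q' (quadSym c hf₁) (quadSym 1 hf₂) :=
    { two := h2
      ndf := nondeg_quadSym h2 hc hf₁
      ndh := nondeg_quadSym h2 one_ne_zero hf₂
      pol := fun u u' w w' => by
        have e1 : polar Q' (vecMulVec u w) (vecMulVec u' w') =
            polar Qf (TensorNonMax.tmap e P u w) (TensorNonMax.tmap e P u' w') := by
          simp only [QuadraticMap.polar, hQf]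
          show Q' _ - Q' _ - Q' _ = _
          rw [← hQ'v, map_add]
          rfl
        rw [e1, hf, gr hf₁, gr hf₂, polar_quadSym h2, polar_quadSym h2, one_mul]
        ring }
  have hnp : ∀ u v, u ≠ 0 → quadSym 1 hf₂ u = 0 → quadSym 1 hf₂ v = 0 → polar (quadSym 1 hf₂) u v = 0 →
      v ∈ F ∙ u := by
    intro u v hu hqu hqv huv
    by_contra hv
    refine hminus ⟨(F ∙ u) ⊔ (F ∙ v), le_top, fun w hw => ?_, ?_⟩
    · obtain ⟨_, h1, _, h2', rfl⟩ := Submodule.mem_sup.1 hw
      obtain ⟨s, rfl⟩ := Submodule.mem_span_singleton.1 h1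
      obtain ⟨t, rfl⟩ := Submodule.mem_span_singleton.1 h2'
      show f₂ _ _ = 0
      rw [← one_mul (f₂ _ _), ← polar_quadSym h2 1 hf₂, polar_self', quad_add', quad_smul', quad_smul',
        polar_smul_l', polar_smul_r', hqu, hqv, huv]
      ring
    · have hlt : (F ∙ u) < (F ∙ u) ⊔ (F ∙ v) := lt_of_le_of_ne le_sup_left fun h =>
        hv (h ▸ Submodule.mem_sup_right (Submodule.mem_span_singleton_self v))
      have h1 := Submodule.finrank_lt_finrank_of_lt hlt
      have h3 := Submodule.finrank_add_le_finrank_add_finrank (F ∙ u) (F ∙ v)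
      have h4 := finrank_span_le_card (R := F) ({v} : Set (Fin 4 → F))
      simp only [Set.toFinset_singleton, Finset.card_singleton] at h4
      rw [finrank_span_singleton hu] at h1 h3
      rw [finrank_top, finrank_fin_fun]
      omega
  have hbig : ∃ s : F, s ≠ 0 ∧ s * s ≠ 1 := by
    by_contra! hall
    have hsub : (Finset.univ : Finset F) ⊆ {0, 1, -1} := fun s _ => by
      by_cases hs : s = 0
      · simp [hs]
      · rcases mul_self_eq_one_iff.1 (hall s hs) with rfl | rfl <;> simp
    have h3 := Finset.card_le_card hsub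
    rw [Finset.card_univ] at h3
    have := Finset.card_le_three (a := (0 : F)) (b := 1) (c := -1)
    omega
  have hd : Data Q' (quadSym c hf₁) (quadSym 1 hf₂) := ⟨hm, hnp, hbig⟩
  set D : orthGroup Q' ≃* orthGroup Q := orthGroupCongr Φ hQ'v with hD
  have hmem : ∀ g, orthToGL Q hQf (D g) ∈ Cfsg.Geo.tensorProductSubgroup 3 4 e P ↔ IsTensor g.1 := by
    intro g
    have hv : ∀ X, (orthToGL Q hQf (D g) : Matrix ι ι F) *ᵥ Φ X = Φ (g.1 X) := fun X => by
      rw [← Matrix.toLin'_apply, toLin'_orthToGL]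
      show Φ (g.1 (Φ.symm (Φ X))) = _
      rw [Φ.symm_apply_apply]
    constructor
    · intro hmem
      obtain ⟨A, C, hAC⟩ := TensorNonMax.tmap_mul e P hmem
      exact TensorMax.isTensor_of_forall (by omega) (by omega) _ fun w _ =>
        ⟨(C : Matrix _ _ F) *ᵥ w, fun u => ⟨(A : Matrix _ _ F) *ᵥ u, Φ.injective (by
          rw [← hv]
          exact hAC u w)⟩⟩
    · exact fun hT' => mem_tensorProductSubgroup e P _ hT' hv
  have hcomm : ∀ g, D g ∈ commutator (orthGroup Q) ↔ g ∈ commutator (orthGroup Q') := fun g => by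
    have e1 : (commutator (orthGroup Q')).map D.toMonoidHom = commutator (orthGroup Q) := by
      rw [commutator_def, Subgroup.map_commutator, Subgroup.map_top_of_surjective _ D.surjective, commutator_def]
    rw [← e1]
    exact Subgroup.mem_map_equiv.trans (by rw [D.symm_apply_apply])
  refine omega_isMaximalIn_inf Q hQf _ ?_ fun M hM g hgM hgc hgN => ?_
  · obtain ⟨g, hg, hgT⟩ := hm.exists_not_tensor le_rfl (by omega)
    exact ⟨D g, (hcomm g).2 hg, fun hN => hgT ((hmem g).1 hN)⟩
  · obtain ⟨g', rfl⟩ := D.surjective g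
    have hle := hd.omega_le_of_not_tensor hq (M := M.comap D.toMonoidHom)
      (fun k hk hkT => hM _ ((hcomm k).2 hk) ((hmem k).2 hkT)) (g := g') hgM ((hcomm g').1 hgc)
      fun hT' => hgN ((hmem g').2 hT')
    intro k hk
    obtain ⟨k', rfl⟩ := D.surjective k
    exact hle ((hcomm k').1 hk)

end CfsgLib.Classical.TensorMax34
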