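import Cfsg.Agent.Lib.Classical.TensorMax34.Basic
import Cfsg.Agent.Lib.Classical.TensorMaxU.Climb

/-!
# Tensor involutions

A tensor involution of determinant one is a scalar, a half turn of the first factor up to sign, or the product of an
involution of the first factor with the half turn about a hyperbolic plane of the second.
-/

set_option autoImplicit false
set_option linter.unusedSectionVars false

namespace CfsgLib.Classical.TensorMax34

open Matrix Module QuadraticMap CfsgLib.Orth CfsgLib.Classical CfsgLib.Classical.TensorMaxO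
open CfsgLib.Classical.TensorMax (IsTensor)
open CfsgLib.Classical.TensorMaxU (vecMulVec_row sl1 sl2 sl2_injective left_mem_span right_mem_span)
open scoped Kronecker

variable {F : Type*} [Field F]

/-- Trace and determinant of a map given on pure tensors. -/
theorem trace_det_pure {a b : ℕ} (f : Matrix (Fin a) (Fin b) F →ₗ[F] Matrix (Fin a) (Fin b) F)
    (A : (Fin a → F) →ₗ[F] (Fin a → F)) (C : (Fin b → F) →ₗ[F] (Fin b → F))
    (h : ∀ u w, f (vecMulVec u w) = vecMulVec (A u) (C w)) :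
    LinearMap.trace F _ f = LinearMap.trace F _ A * LinearMap.trace F _ C ∧
      LinearMap.det f = LinearMap.det A ^ b * LinearMap.det C ^ a := by
  classical
  set e := Matrix.stdBasis F (Fin a) (Fin b) with he
  have hm : LinearMap.toMatrix e e f = LinearMap.toMatrix' A ⊗ₖ LinearMap.toMatrix' C := by
    refine Matrix.ext fun x y => ?_
    obtain ⟨i, j⟩ := x
    obtain ⟨k, l⟩ := y
    have hs : e (k, l) = vecMulVec (Pi.single k 1) (Pi.single l 1) := by
      rw [he, Matrix.stdBasis_eq_single]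
      refine Matrix.ext fun p r => ?_
      simp only [Matrix.single_apply, vecMulVec_apply, Pi.single_apply]
      by_cases hp : p = k <;> by_cases hr : r = l <;> simp [hp, hr, Ne.symm]
      all_goals intros; simp_all
    have hrepr : ∀ X : Matrix (Fin a) (Fin b) F, e.repr X (i, j) = X i j := fun X => by
      have h1 : e.coord (i, j) = Matrix.entryLinearMap F F i j := e.ext fun p => by
        rw [Basis.coord_apply, Basis.repr_self, he, show p = (p.1, p.2) from rfl, Matrix.stdBasis_eq_single,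
          Matrix.entryLinearMap_apply, Finsupp.single_apply, Matrix.single_apply]
        simp [Prod.ext_iff]
      exact LinearMap.congr_fun h1 X
    rw [LinearMap.toMatrix_apply, hs, h, hrepr, kroneckerMap_apply, LinearMap.toMatrix'_apply,
      LinearMap.toMatrix'_apply, vecMulVec_apply]
  refine ⟨?_, ?_⟩
  · rw [LinearMap.trace_eq_matrix_trace F e, hm, trace_kronecker, LinearMap.trace_eq_matrix_trace F (Pi.basisFun F _),
      LinearMap.trace_eq_matrix_trace F (Pi.basisFun F _)]
    rfl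
  · rw [← LinearMap.det_toMatrix e, hm, det_kronecker, Fintype.card_fin, Fintype.card_fin, LinearMap.det_toMatrix',
      LinearMap.det_toMatrix']

/-- An involution fixing a hyperplane is a reflection. -/
theorem eq_refl_of_line {V : Type*} [AddCommGroup V] [Module F V] [FiniteDimensional F V] {q : QuadraticForm F V}
    (hq : (polarBilin q).Nondegenerate) (h2 : (2 : F) ≠ 0) (g : V →ₗ[F] V) (hg : ∀ v, g (g v) = v)
    (hi : ∀ u v, polar q (g u) (g v) = polar q u v) {x : V} (hx : g x = -x)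
    (hline : ∀ v, g v = -v → v ∈ F ∙ x) (hx0 : x ≠ 0) :
    q x ≠ 0 ∧ ∀ v, g v = v - ((q x)⁻¹ * polar q x v) • x := by
  have hsplit : ∀ v, ∃ t : F, g v = v + t • x ∧ polar q x (v + g v) = 0 := fun v => by
    obtain ⟨t, ht⟩ := Submodule.mem_span_singleton.1 (hline (g v - v) (by rw [map_sub, hg, neg_sub]))
    refine ⟨t, by rw [ht, add_sub_cancel], ?_⟩
    have e := hi x (v + g v)
    rw [map_add, hg, hx, polar_neg_left, add_comm (g v) v] at e
    exact mul_left_cancel₀ h2 (by linear_combination -e)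
  have hqx : q x ≠ 0 := fun h => hx0 (hq.1 x fun v => by
    obtain ⟨t, ht, hp⟩ := hsplit v
    rw [ht, polar_add_right, polar_add_right, polar_smul_r', polar_self', h] at hp
    rw [QuadraticMap.polarBilin_apply_apply]
    exact mul_left_cancel₀ h2 (by linear_combination hp))
  refine ⟨hqx, fun v => ?_⟩
  obtain ⟨t, ht, hp⟩ := hsplit v
  rw [ht, polar_add_right, polar_add_right, polar_smul_r', polar_self'] at hp
  rw [ht, sub_eq_add_neg, ← neg_smul]
  congr 2
  field_simp
  exact mul_left_cancel₀ h2 (by linear_combination hp)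

/-- The half turn about a vector. -/
def turn {a : ℕ} (qf : QuadraticForm F (Fin a → F)) (x : Fin a → F) : (Fin a → F) →ₗ[F] (Fin a → F) :=
  ((qf x)⁻¹ • polarBilin qf x).smulRight x - LinearMap.id

theorem turn_apply {a : ℕ} (qf : QuadraticForm F (Fin a → F)) (x u : Fin a → F) :
    turn qf x u = ((qf x)⁻¹ * polar qf x u) • x - u := by simp [turn]

/-- The half turn about a plane with the given pair. -/
def half {b : ℕ} (qh : QuadraticForm F (Fin b → F)) (p d : Fin b → F) : (Fin b → F) →ₗ[F] (Fin b → F) :=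
  ((2 : F) • polarBilin qh d).smulRight p + ((2 : F) • polarBilin qh p).smulRight d - LinearMap.id

theorem half_apply {b : ℕ} (qh : QuadraticForm F (Fin b → F)) (p d w : Fin b → F) :
    half qh p d w = (2 * polar qh d w) • p + (2 * polar qh p w) • d - w := by simp [half]

variable {Q : QuadraticForm F (Matrix (Fin 3) (Fin 4) F)} {qf : QuadraticForm F (Fin 3 → F)}
  {qh : QuadraticForm F (Fin 4 → F)}

/-- Negation. -/
def negOrth {V : Type*} [AddCommGroup V] [Module F V] (q : QuadraticForm F V) : orthGroup q :=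
  ⟨LinearEquiv.neg F, fun v => by rw [LinearEquiv.neg_apply, QuadraticMap.map_neg]⟩

@[simp] theorem negOrth_apply {V : Type*} [AddCommGroup V] [Module F V] (q : QuadraticForm F V) (v : V) :
    (negOrth q).1 v = -v := rfl

theorem mul_self_one_iff {V : Type*} [AddCommGroup V] [Module F V] {q : QuadraticForm F V} (g : orthGroup q) :
    g * g = 1 ↔ ∀ v, g.1 (g.1 v) = v :=
  ⟨fun h v => congrArg (fun k : orthGroup q => k.1 v) h, fun h => Subtype.ext (LinearEquiv.ext h)⟩

namespace Data

variable (hd : Data Q qf qh) [Fintype F]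
include hd

theorem trace_turn {x : Fin 3 → F} (hx : qf x ≠ 0) : LinearMap.trace F _ (turn qf x) = -1 := by
  rw [turn, map_sub, LinearMap.trace_smulRight, LinearMap.trace_id, finrank_fin_fun, LinearMap.smul_apply,
    QuadraticMap.polarBilin_apply_apply, polar_self', smul_eq_mul]
  field_simp
  norm_num

theorem trace_half {b d : Fin 4 → F} (hp : Pair qh b d) : LinearMap.trace F _ (half qh b d) = 0 := by
  rw [half, map_sub, map_add, LinearMap.trace_smulRight, LinearMap.trace_smulRight, LinearMap.trace_id,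
    finrank_fin_fun, LinearMap.smul_apply, LinearMap.smul_apply, QuadraticMap.polarBilin_apply_apply,
    QuadraticMap.polarBilin_apply_apply, hp.pair, hp.db, smul_eq_mul]
  norm_num

omit hd in
theorem det_commutator {k : orthGroup Q} (hQ : (polarBilin Q).Nondegenerate) (h2 : (2 : F) ≠ 0)
    (hk : k ∈ commutator (orthGroup Q)) :
    LinearMap.det (k.1 : Matrix (Fin 3) (Fin 4) F →ₗ[F] Matrix (Fin 3) (Fin 4) F) = 1 := by
  classical
  exact ((mem_commutator_odd hQ h2 k).1 hk).1

/-- The normal form of a tensor involution. -/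
theorem exists_pure_involution {k : orthGroup Q} (hT : IsTensor k.1) (hk : k * k = 1) :
    ∃ (A : orthGroup qf) (S : orthGroup qh), A * A = 1 ∧ S * S = 1 ∧
      ∀ u w, k.1 (vecMulVec u w) = vecMulVec (A.1 u) (S.1 w) := by
  classical
  have hm := hd.model
  obtain ⟨A₀, C₀, hA₀, hC₀, h0⟩ := TensorMaxU.tensor_pure hT
  have hiso : ∀ u u' w w', polar qf (A₀ u) (A₀ u') * polar qh (C₀ w) (C₀ w') = polar qf u u' * polar qh w w' :=
    fun u u' w w' => by rw [← hm.pol, ← h0, ← h0, polar_isom, hm.pol]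
  have hsq : ∀ u w, vecMulVec (A₀ (A₀ u)) (C₀ (C₀ w)) = vecMulVec u w := fun u w => by
    rw [← h0, ← h0]; exact (mul_self_one_iff k).1 hk _
  obtain ⟨w₀, -, hw₀⟩ := exists_anisotropic_in hm.ndh (S := ⊤) (by rw [finrank_top, finrank_fin_fun]; omega)
  have hw₀0 : w₀ ≠ 0 := fun e => hw₀ (by rw [e, QuadraticMap.map_zero])
  obtain ⟨u₀, -, hu₀⟩ := exists_anisotropic_in hm.ndf (S := ⊤) (by rw [finrank_top, finrank_fin_fun]; omega)
  have hu₀0 : u₀ ≠ 0 := fun e => hu₀ (by rw [e, QuadraticMap.map_zero])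
  obtain ⟨μ, hμ⟩ := scalar_of_eigen hm.ndf hd.two (by rw [finrank_fin_fun]) (A₀ ∘ₗ A₀) fun u _ =>
    left_mem_span (hsq u w₀) fun e => hw₀0 (hC₀ (hC₀ (by rw [e, map_zero, map_zero])))
  have hA2 : ∀ u, A₀ (A₀ u) = μ • u := fun u => LinearMap.congr_fun hμ u
  have hμ0 : μ ≠ 0 := fun e => hu₀0 (hA₀ (hA₀ (by rw [hA2, e, zero_smul, map_zero, map_zero])))
  have hC2 : ∀ w, C₀ (C₀ w) = μ⁻¹ • w := fun w => by
    refine TensorMaxU.sl1_injective (b := 4) hu₀0 ?_
    show vecMulVec u₀ (C₀ (C₀ w)) = vecMulVec u₀ (μ⁻¹ • w)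
    have h := hsq u₀ w
    rw [hA2, smul_vecMulVec] at h
    rw [vecMulVec_smul, ← h, smul_smul, inv_mul_cancel₀ hμ0, one_smul]
  obtain ⟨ν, hν⟩ : IsSquare μ := by
    have h := congrArg LinearMap.det hμ
    rw [LinearMap.det_comp, LinearMap.det_smul, LinearMap.det_id, mul_one, finrank_fin_fun] at h
    exact ⟨LinearMap.det A₀ / μ, by field_simp; linear_combination -h⟩
  have hν0 : ν ≠ 0 := fun e => hμ0 (by rw [hν, e, zero_mul])
  set A : (Fin 3 → F) →ₗ[F] (Fin 3 → F) := ν⁻¹ • A₀ with hA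
  set C : (Fin 4 → F) →ₗ[F] (Fin 4 → F) := ν • C₀ with hC
  have hAA : ∀ u, A (A u) = u := fun u => by
    rw [hA, LinearMap.smul_apply, LinearMap.smul_apply, map_smul, hA2, smul_smul, smul_smul, hν]
    rw [show ν⁻¹ * ν⁻¹ * (ν * ν) = 1 by field_simp, one_smul]
  have hCC : ∀ w, C (C w) = w := fun w => by
    rw [hC, LinearMap.smul_apply, LinearMap.smul_apply, map_smul, hC2, smul_smul, smul_smul, hν]
    rw [show ν * ν * (ν * ν)⁻¹ = 1 by field_simp, one_smul]
  have hpure : ∀ u w, k.1 (vecMulVec u w) = vecMulVec (A u) (C w) := fun u w => by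
    rw [h0, hA, hC, LinearMap.smul_apply, LinearMap.smul_apply, vecMulVec_smul, smul_vecMulVec, smul_smul,
      mul_inv_cancel₀ hν0, one_smul]
  have hiso' : ∀ u u' w w', polar qf (A u) (A u') * polar qh (C w) (C w') = polar qf u u' * polar qh w w' :=
    fun u u' w w' => by rw [← hm.pol, ← hpure, ← hpure, polar_isom, hm.pol]
  have hCw : polar qh (C w₀) (C w₀) ≠ 0 := fun e => by
    have h := hiso' u₀ u₀ w₀ w₀
    rw [e, mul_zero, eq_comm, polar_self', polar_self'] at h
    exact mul_ne_zero (mul_ne_zero hd.two hu₀) (mul_ne_zero hd.two hw₀) h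
  set κ := polar qh w₀ w₀ / polar qh (C w₀) (C w₀) with hκ
  have hAκ : ∀ u u', polar qf (A u) (A u') = κ * polar qf u u' := fun u u' => by
    rw [hκ, div_mul_eq_mul_div, eq_div_iff hCw, hiso', mul_comm]
  have hκ1 : κ * κ = 1 := by
    have h := hAκ (A u₀) (A u₀)
    rw [hAA, hAκ, ← mul_assoc] at h
    exact mul_right_cancel₀ (show polar qf u₀ u₀ ≠ 0 by rw [polar_self']; exact mul_ne_zero hd.two hu₀)
      (by rw [one_mul]; exact h.symm)
  have hκ' : κ = 1 := by
    rcases mul_self_eq_one_iff.1 hκ1 with e | e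
    · exact e
    exfalso
    -- both eigenspaces would be totally singular
    have hsing : ∀ ε : F, ε * ε = 1 → ∀ v, A v = ε • v → qf v = 0 := fun ε hε v hv => by
      have h := hAκ v v
      rw [hv, polar_smul_l', polar_smul_r', ← mul_assoc, hε, e, polar_self'] at h
      exact mul_left_cancel₀ (mul_ne_zero hd.two hd.two) (by linear_combination h)
    have h1 := singular_finrank_le hm.ndf (LinearMap.ker (A - LinearMap.id)) fun v hv => hsing 1 (one_mul 1) v (by
      rw [one_smul]; exact sub_eq_zero.1 hv)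
    have h2 := singular_finrank_le hm.ndf (LinearMap.ker (A + LinearMap.id)) fun v hv =>
      hsing (-1) (by ring) v (by rw [neg_one_smul]; exact eq_neg_of_add_eq_zero_left hv)
    have htop : (⊤ : Submodule F (Fin 3 → F)) ≤
        LinearMap.ker (A - LinearMap.id) ⊔ LinearMap.ker (A + LinearMap.id) := fun v _ => by
      refine Submodule.mem_sup.2 ⟨(2 : F)⁻¹ • (v + A v), ?_, (2 : F)⁻¹ • (v - A v), ?_, ?_⟩
      · rw [LinearMap.mem_ker, LinearMap.sub_apply, LinearMap.id_apply, map_smul, map_add, hAA]; module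
      · rw [LinearMap.mem_ker, LinearMap.add_apply, LinearMap.id_apply, map_smul, map_sub, hAA]; module
      · rw [← smul_add, show v + A v + (v - A v) = (2 : F) • v by module, smul_smul, inv_mul_cancel₀ hd.two,
          one_smul]
    have h3 := Submodule.finrank_mono htop
    have h4 := Submodule.finrank_add_le_finrank_add_finrank (LinearMap.ker (A - LinearMap.id))
      (LinearMap.ker (A + LinearMap.id))
    rw [finrank_top, finrank_fin_fun] at h3
    rw [finrank_fin_fun] at h1 h2
    omega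
  have hA' : ∀ u, qf (A u) = qf u := fun u => by
    refine mul_left_cancel₀ hd.two ?_
    rw [← polar_self', ← polar_self', hAκ, hκ', one_mul]
  have hC' : ∀ w, qh (C w) = qh w := fun w => by
    refine mul_left_cancel₀ hd.two ?_
    rw [← polar_self', ← polar_self']
    have h := hiso' u₀ u₀ w w
    rw [hAκ, hκ', one_mul] at h
    exact mul_left_cancel₀ (show polar qf u₀ u₀ ≠ 0 by rw [polar_self']; exact mul_ne_zero hd.two hu₀) h
  refine ⟨⟨LinearEquiv.ofLinearMap A A (LinearMap.ext hAA) (LinearMap.ext hAA), hA'⟩,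
    ⟨LinearEquiv.ofLinearMap C C (LinearMap.ext hCC) (LinearMap.ext hCC), hC'⟩, (mul_self_one_iff _).2 hAA,
    (mul_self_one_iff _).2 hCC, hpure⟩

/-- Involutions of the first factor. -/
theorem col_involution (A : orthGroup qf) (hA : A * A = 1) :
    (∃ ε : F, (ε = 1 ∨ ε = -1) ∧ ∀ u, A.1 u = ε • u) ∨
      ∃ (x : Fin 3 → F) (ε : F), qf x ≠ 0 ∧ (ε = 1 ∨ ε = -1) ∧ ∀ u, A.1 u = ε • turn qf x u := by
  have hAA := (mul_self_one_iff A).1 hA
  set f := (A.1 : (Fin 3 → F) →ₗ[F] (Fin 3 → F))
  set P := LinearMap.ker (f - LinearMap.id)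
  set N := LinearMap.ker (f + LinearMap.id)
  have hmem : ∀ v, A.1 v = -v → v ∈ N := fun v hv => by
    show A.1 v + v = 0
    rw [hv, neg_add_cancel]
  have hmemP : ∀ v, A.1 v = v → v ∈ P := fun v hv => sub_eq_zero.2 hv
  have hdisj : P ⊓ N = ⊥ := (Submodule.eq_bot_iff _).2 fun v hv => by
    have h1 : A.1 v = v := sub_eq_zero.1 hv.1
    have h2 : A.1 v + v = 0 := hv.2
    rw [h1, ← two_smul F, smul_eq_zero] at h2
    exact h2.resolve_left hd.two
  have hsum := Submodule.finrank_sup_add_finrank_inf_eq P N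
  have htop := Submodule.finrank_le (P ⊔ N)
  rw [hdisj, finrank_bot] at hsum
  rw [finrank_fin_fun] at htop
  by_cases hN : N = ⊥
  · refine Or.inl ⟨1, Or.inl rfl, fun u => ?_⟩
    have h : A.1 u - u ∈ N := hmem _ (by rw [map_sub, hAA, neg_sub])
    rw [hN, Submodule.mem_bot, sub_eq_zero] at h
    rw [one_smul]; exact h
  by_cases hP : P = ⊥
  · refine Or.inl ⟨-1, Or.inr rfl, fun u => ?_⟩
    have h : A.1 u + u ∈ P := hmemP _ (by rw [map_add, hAA, add_comm])
    rw [hP, Submodule.mem_bot] at h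
    rw [neg_one_smul]; exact eq_neg_of_add_eq_zero_left h
  obtain ⟨x, hxN, hx0⟩ := Submodule.exists_mem_ne_zero_of_ne_bot hN
  have hxA : A.1 x = -x := eq_neg_of_add_eq_zero_left hxN
  obtain ⟨y, hyP, hy0⟩ := Submodule.exists_mem_ne_zero_of_ne_bot hP
  have hyA : A.1 y = y := sub_eq_zero.1 hyP
  right
  have hP1 : 1 ≤ finrank F P := Submodule.one_le_finrank_iff.2 hP
  have hN1 : 1 ≤ finrank F N := Submodule.one_le_finrank_iff.2 hN
  rcases (show finrank F N ≤ 1 ∨ finrank F P ≤ 1 by omega) with h1 | h1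
  · obtain ⟨hqx, hx⟩ := eq_refl_of_line hd.model.ndf hd.two f hAA (fun u v => polar_isom A u v) hxA (fun v hv =>
      (Submodule.eq_of_le_of_finrank_le ((Submodule.span_singleton_le_iff_mem _ _).2 hxN)
        (by rwa [finrank_span_singleton hx0])).ge (hmem v hv)) hx0
    exact ⟨x, -1, hqx, Or.inr rfl, fun u => by rw [turn_apply, show A.1 u = f u from rfl, hx]; module⟩
  · obtain ⟨hqy, hy⟩ := eq_refl_of_line hd.model.ndf hd.two (-f) (fun v => by
      simp only [LinearMap.neg_apply, map_neg, neg_neg]; exact hAA v)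
      (fun u v => by
        simp only [LinearMap.neg_apply, polar_neg_left, polar_neg_right, neg_neg]; exact polar_isom A u v)
      (by rw [LinearMap.neg_apply]; exact congrArg Neg.neg hyA) (fun v hv =>
      (Submodule.eq_of_le_of_finrank_le ((Submodule.span_singleton_le_iff_mem _ _).2 hyP)
        (by rwa [finrank_span_singleton hy0])).ge (hmemP v (neg_injective hv))) hy0
    exact ⟨y, 1, hqy, Or.inl rfl, fun u => by
      rw [one_smul, turn_apply, show A.1 u = -((-f) u) by simp [f], hy]; module⟩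

/-- Involutions of the second factor of determinant one. -/
theorem row_involution (S : orthGroup qh) (hS : S * S = 1)
    (hdet : LinearMap.det (S.1 : (Fin 4 → F) →ₗ[F] (Fin 4 → F)) = 1) :
    (∃ ε : F, (ε = 1 ∨ ε = -1) ∧ ∀ w, S.1 w = ε • w) ∨
      ∃ (b d : Fin 4 → F) (ε : F), Pair qh b d ∧ (ε = 1 ∨ ε = -1) ∧ ∀ w, S.1 w = ε • half qh b d w := by
  have hSS := (mul_self_one_iff S).1 hS
  set f := (S.1 : (Fin 4 → F) →ₗ[F] (Fin 4 → F))
  have hf : ∀ u v, polar qh (f u) (f v) = polar qh u v := polar_isom S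
  set P := LinearMap.ker (f - LinearMap.id)
  set N := LinearMap.ker (f + LinearMap.id)
  have hPA : ∀ {v}, v ∈ P → S.1 v = v := fun h => sub_eq_zero.1 h
  have hNA : ∀ {v}, v ∈ N → S.1 v = -v := fun h => eq_neg_of_add_eq_zero_left h
  have hperp : ∀ p ∈ P, ∀ n ∈ N, polar qh p n = 0 := fun p hp n hn => by
    have h := hf p n
    rw [show f p = p from hPA hp, show f n = -n from hNA hn, polar_neg_right] at h
    exact mul_left_cancel₀ hd.two (by linear_combination -h)
  have hsplit : ∀ v, ∃ p ∈ P, ∃ n ∈ N, p + n = v := fun v => by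
    refine ⟨(2 : F)⁻¹ • (v + S.1 v), ?_, (2 : F)⁻¹ • (v - S.1 v), ?_, ?_⟩
    · rw [LinearMap.mem_ker, LinearMap.sub_apply, LinearMap.id_apply, show f = (S.1 : (Fin 4 → F) →ₗ[F] (Fin 4 → F)) from rfl,
        LinearEquiv.coe_coe, map_smul, map_add, hSS]
      module
    · rw [LinearMap.mem_ker, LinearMap.add_apply, LinearMap.id_apply, show f = (S.1 : (Fin 4 → F) →ₗ[F] (Fin 4 → F)) from rfl,
        LinearEquiv.coe_coe, map_smul, map_sub, hSS]
      module
    · rw [← smul_add, show v + S.1 v + (v - S.1 v) = (2 : F) • v by module, smul_smul, inv_mul_cancel₀ hd.two,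
        one_smul]
  have hdim : finrank F P + finrank F N = 4 := by
    have h := Submodule.finrank_sup_add_finrank_inf_eq P N
    rw [show P ⊔ N = ⊤ from eq_top_iff.2 fun v _ => by
      obtain ⟨p, hp, n, hn, rfl⟩ := hsplit v; exact Submodule.add_mem_sup hp hn,
      show P ⊓ N = ⊥ from (Submodule.eq_bot_iff _).2 fun v hv => by
        have h1 := hPA hv.1
        have h2 := hNA hv.2
        rw [h1, eq_neg_iff_add_eq_zero, ← two_smul F, smul_eq_zero] at h2
        exact h2.resolve_left hd.two, finrank_top, finrank_bot, finrank_fin_fun, add_zero] at h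
    exact h.symm
  have hline : ∀ (g : (Fin 4 → F) →ₗ[F] (Fin 4 → F)), (∀ v, g (g v) = v) →
      (∀ u v, polar qh (g u) (g v) = polar qh u v) → LinearMap.det g = 1 →
      ∀ N' : Submodule F (Fin 4 → F), (∀ v, g v = -v ↔ v ∈ N') → finrank F N' = 1 → False := by
    intro g hgg hgi hgd N' hN' h1
    obtain ⟨x, hx, hx0⟩ := Submodule.exists_mem_ne_zero_of_ne_bot (p := N') fun h => by
      rw [h, finrank_bot] at h1; omega
    obtain ⟨hqx, hgx⟩ := eq_refl_of_line hd.model.ndh hd.two g hgg hgi ((hN' x).2 hx) (fun v hv =>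
      (Submodule.eq_of_le_of_finrank_le ((Submodule.span_singleton_le_iff_mem _ _).2 hx)
        (by rw [finrank_span_singleton hx0, h1])).ge ((hN' v).1 hv)) hx0
    have e : g = ((refl qh x).1 : (Fin 4 → F) →ₗ[F] (Fin 4 → F)) := LinearMap.ext fun v => by
      rw [LinearEquiv.coe_coe, refl_apply, hgx]
    rw [e, det_refl qh hqx] at hgd
    exact hd.two (by linear_combination -hgd)
  rcases Nat.eq_zero_or_pos (finrank F N) with h0 | hN0
  · rw [Submodule.finrank_eq_zero] at h0
    refine Or.inl ⟨1, Or.inl rfl, fun w => ?_⟩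
    obtain ⟨p, hp, n, hn, rfl⟩ := hsplit w
    rw [h0, Submodule.mem_bot] at hn
    rw [hn, add_zero, one_smul, hPA hp]
  rcases Nat.eq_zero_or_pos (finrank F P) with h0 | hP0
  · rw [Submodule.finrank_eq_zero] at h0
    refine Or.inl ⟨-1, Or.inr rfl, fun w => ?_⟩
    obtain ⟨p, hp, n, hn, rfl⟩ := hsplit w
    rw [h0, Submodule.mem_bot] at hp
    rw [hp, zero_add, neg_one_smul, hNA hn]
  have hN1 : finrank F N ≠ 1 := fun h =>
    hline f hSS hf hdet N (fun v => eq_neg_iff_add_eq_zero) h
  have hP1 : finrank F P ≠ 1 := fun h => hline (-f) (fun v => by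
      simp only [LinearMap.neg_apply, map_neg, neg_neg]; exact hSS v)
    (fun u v => by simp only [LinearMap.neg_apply, polar_neg_left, polar_neg_right, neg_neg]; exact hf u v)
    (by rw [show -f = (-1 : F) • f from (neg_one_smul F f).symm, LinearMap.det_smul, hdet, finrank_fin_fun]; norm_num) P
    (fun v => by rw [LinearMap.neg_apply, neg_inj]; exact sub_eq_zero.symm) h
  -- one of the planes is hyperbolic
  have key : ∃ y, y ≠ 0 ∧ qh y = 0 ∧ (y ∈ P ∨ y ∈ N) := by
    by_contra! hno
    have hanP : ∀ p ∈ P, p ≠ 0 → qh p ≠ 0 := fun p hp hp0 h => (hno p hp0 h).1 hp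
    have hanN : ∀ p ∈ N, p ≠ 0 → qh p ≠ 0 := fun p hp hp0 h => (hno p hp0 h).2 hp
    have hdisc : ∀ W : Submodule F (Fin 4 → F), (∀ p ∈ W, p ≠ 0 → qh p ≠ 0) → ∀ x ∈ W, ∀ y ∈ W, x ≠ 0 → y ≠ 0 →
        polar qh x y = 0 → ¬ IsSquare (-(qh x * qh y)) := by
      rintro W hW x hx y hy hx0 hy0 hxy ⟨s, hs⟩
      refine hW (qh y • x + s • y) (W.add_mem (W.smul_mem _ hx) (W.smul_mem _ hy)) (fun h => ?_) ?_
      · have := congrArg (polar qh x) h
        rw [polar_add_right, polar_smul_r', polar_smul_r', polar_zero_right, hxy, polar_self', mul_zero, add_zero] at this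
        exact mul_ne_zero (hW y hy hy0) (mul_ne_zero hd.two (hW x hx hx0)) this
      · rw [quad_add', quad_smul', quad_smul', polar_smul_l', polar_smul_r', hxy, ← hs]; ring
    have hperpIn : ∀ (W : Submodule F (Fin 4 → F)) (x : Fin 4 → F), finrank F W = 2 →
        ∃ y ∈ W, y ≠ 0 ∧ polar qh x y = 0 := fun W x hW => by
      have h := finrank_perp_vec (Q := qh) (S := W) x
      obtain ⟨y, hy, hy0⟩ := Submodule.exists_mem_ne_zero_of_ne_bot (p := W ⊓ LinearMap.ker (polarBilin qh x))
        fun h' => by rw [h', finrank_bot] at h; omega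
      exact ⟨y, hy.1, hy0, hy.2⟩
    obtain ⟨x, hx, hx0⟩ := Submodule.exists_mem_ne_zero_of_ne_bot (p := P) fun h => by
      rw [h, finrank_bot] at hP0; omega
    obtain ⟨y, hy, hy0, hqy⟩ := SimMax.exists_singular_of_three (Q := qh) hd.two (U := (F ∙ x) ⊔ N) (by
      have hlt : N < (F ∙ x) ⊔ N := lt_of_le_of_ne le_sup_right fun h => by
        have h' : x ∈ N := h ▸ Submodule.mem_sup_left (Submodule.mem_span_singleton_self x)
        have := hperp x hx x h'
        rw [polar_self'] at this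
        exact mul_ne_zero hd.two (hanP x hx hx0) this
      have := Submodule.finrank_lt_finrank_of_lt hlt
      omega)
    obtain ⟨_, hl, w, hw, rfl⟩ := Submodule.mem_sup.1 hy
    obtain ⟨l, rfl⟩ := Submodule.mem_span_singleton.1 hl
    have hl0 : l ≠ 0 := fun h => by
      rw [h, zero_smul, zero_add] at hy0 hqy
      exact hanN w hw hy0 hqy
    rw [quad_add', quad_smul', polar_smul_l', hperp x hx w hw, mul_zero, add_zero] at hqy
    obtain ⟨z, hz, hqz⟩ : ∃ z ∈ N, qh z = -qh x :=
      ⟨l⁻¹ • w, N.smul_mem _ hw, by rw [quad_smul']; field_simp; linear_combination hqy⟩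
    have hz0 : z ≠ 0 := fun h => hanP x hx hx0 (neg_eq_zero.1 (by rw [← hqz, h, QuadraticMap.map_zero]))
    obtain ⟨x', hx', hx'0, hxx'⟩ := hperpIn P x (by omega)
    obtain ⟨z', hz', hz'0, hzz'⟩ := hperpIn N z (by omega)
    have h1 := hdisc P hanP x hx x' hx' hx0 hx'0 hxx'
    have h2 := hdisc N hanN z hz z' hz' hz0 hz'0 hzz'
    rw [hqz] at h2
    have hsq : IsSquare (-(qh x * qh x') * -(-qh x * qh z')) := by
      classical
      have hne1 : -(qh x * qh x') ≠ 0 := fun h => h1 (h ▸ IsSquare.zero)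
      have hne2 : -(-qh x * qh z') ≠ 0 := fun h => h2 (h ▸ IsSquare.zero)
      rw [← quadraticChar_one_iff_isSquare (mul_ne_zero hne1 hne2), map_mul,
        quadraticChar_neg_one_iff_not_isSquare.2 h1, quadraticChar_neg_one_iff_not_isSquare.2 h2]
      norm_num
    obtain ⟨s, hs⟩ := hsq
    have hqx := hanP x hx hx0
    have hqz' := hanN z' hz' hz'0
    obtain ⟨t, ht⟩ : ∃ t : F, qh x' + t * t * qh z' = 0 := ⟨s / (qh x * qh z'), by
      field_simp
      linear_combination -hs⟩
    have hmem := hd.noPlane (x + z) (x' + t • z') (fun h => hx0 (by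
        have h' : x ∈ N := by rw [eq_neg_of_add_eq_zero_left h]; exact N.neg_mem hz
        have := hperp x hx x h'
        rw [polar_self'] at this
        exact absurd this (mul_ne_zero hd.two hqx)))
      (by rw [quad_add', hperp x hx z hz, hqz]; ring)
      (by rw [quad_add', quad_smul', polar_smul_r', hperp x' hx' z' hz']; linear_combination ht)
      (by rw [polar_add_left, polar_add_right, polar_add_right, polar_smul_r', polar_smul_r', hxx', hperp x hx z' hz',
          polar_comm _ z x', hperp x' hx' z hz, hzz']; ring)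
    obtain ⟨c, hc⟩ := Submodule.mem_span_singleton.1 hmem
    have h := congrArg (polar qh x') hc
    rw [polar_smul_r', polar_add_right, polar_add_right, polar_smul_r', polar_comm _ x' x, hxx', hperp x' hx' z hz,
      hperp x' hx' z' hz', polar_self'] at h
    exact mul_ne_zero hd.two (hanP x' hx' hx'0) (by linear_combination -h)
  obtain ⟨y, hy0, hqy, hyW⟩ := key
  have main : ∀ W W' : Submodule F (Fin 4 → F), finrank F W = 2 → y ∈ W → (∀ p ∈ W, ∀ n ∈ W', polar qh p n = 0) →
      (∀ v, ∃ p ∈ W, ∃ n ∈ W', p + n = v) → ∃ d, Pair qh y d ∧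
        ∀ p ∈ W, ∀ n ∈ W', half qh y d (p + n) = p - n := by
    intro W W' hW hy hor hsp
    obtain ⟨x, hx, hxy⟩ : ∃ x ∈ W, polar qh y x ≠ 0 := by
      by_contra! hall
      refine hy0 (hd.model.ndh.1 y fun v => ?_)
      obtain ⟨p, hp, n, hn, rfl⟩ := hsp v
      rw [QuadraticMap.polarBilin_apply_apply, polar_add_right, hall p hp, hor y hy n hn, add_zero]
    obtain ⟨x', hx', hyx'⟩ : ∃ x' ∈ W, polar qh y x' = 1 :=
      ⟨(polar qh y x)⁻¹ • x, W.smul_mem _ hx, by rw [polar_smul_r', inv_mul_cancel₀ hxy]⟩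
    obtain ⟨d, hd', hp⟩ : ∃ d ∈ W, Pair qh y d := ⟨x' + (-qh x') • y, W.add_mem hx' (W.smul_mem _ hy), hqy, by
        rw [quad_add', quad_smul', polar_smul_r', polar_comm _ x' y, hyx', hqy]; ring,
      by rw [polar_add_right, polar_smul_r', hyx', polar_self', hqy]; ring⟩
    refine ⟨d, hp, fun p hpW n hn => ?_⟩
    have hspan : p ∈ (F ∙ y) ⊔ (F ∙ d) := by
      rw [Submodule.eq_of_le_of_finrank_le (sup_le ((Submodule.span_singleton_le_iff_mem _ _).2 hy)
        ((Submodule.span_singleton_le_iff_mem _ _).2 hd')) (by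
          have hlt : (F ∙ y) < (F ∙ y) ⊔ (F ∙ d) := lt_of_le_of_ne le_sup_left fun h => by
            obtain ⟨c, hc⟩ := Submodule.mem_span_singleton.1
              (h ▸ Submodule.mem_sup_right (Submodule.mem_span_singleton_self d) : d ∈ F ∙ y)
            have := hp.pair
            rw [← hc, polar_smul_r', hp.bb, mul_zero] at this
            exact zero_ne_one this
          have := Submodule.finrank_lt_finrank_of_lt hlt
          rw [finrank_span_singleton hy0] at this
          omega)]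
      exact hpW
    obtain ⟨_, h1, _, h2, rfl⟩ := Submodule.mem_sup.1 hspan
    obtain ⟨s, rfl⟩ := Submodule.mem_span_singleton.1 h1
    obtain ⟨t, rfl⟩ := Submodule.mem_span_singleton.1 h2
    obtain ⟨e1, e2⟩ := hp.coeff (l := s) (m := t) (hor y hy n hn) (hor d hd' n hn)
    rw [half_apply, e1, e2]
    module
  right
  rcases hyW with hy | hy
  · obtain ⟨d, hp, hh⟩ := main P N (by omega) hy hperp hsplit
    refine ⟨y, d, 1, hp, Or.inl rfl, fun w => ?_⟩
    obtain ⟨p, hpP, n, hn, rfl⟩ := hsplit w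
    rw [hh p hpP n hn, one_smul, map_add, hPA hpP, hNA hn, sub_eq_add_neg]
  · obtain ⟨d, hp, hh⟩ := main N P (by omega) hy (fun p hp n hn => (polar_comm _ _ _).trans (hperp n hn p hp))
      (fun v => by obtain ⟨p, hp, n, hn, e⟩ := hsplit v; exact ⟨n, hn, p, hp, by rw [add_comm]; exact e⟩)
    refine ⟨y, d, -1, hp, Or.inr rfl, fun w => ?_⟩
    obtain ⟨p, hpP, n, hn, rfl⟩ := hsplit w
    rw [add_comm p n, hh n hn p hpP, map_add, hPA hpP, hNA hn]
    module

/-- The tensor involutions in the commutator subgroup. -/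
theorem involution_cases {k : orthGroup Q} (hc : k ∈ commutator (orthGroup Q)) (hT : IsTensor k.1) (hk : k * k = 1) :
    (∃ ε : F, (ε = 1 ∨ ε = -1) ∧ ∀ X, k.1 X = ε • X) ∨
      (∃ (x : Fin 3 → F) (ε : F), qf x ≠ 0 ∧ (ε = 1 ∨ ε = -1) ∧
        ∀ u w, k.1 (vecMulVec u w) = ε • vecMulVec (turn qf x u) w) ∨
      ∃ (b d : Fin 4 → F) (A : orthGroup qf), Pair qh b d ∧ A * A = 1 ∧
        ∀ u w, k.1 (vecMulVec u w) = vecMulVec (A.1 u) (half qh b d w) := by
  obtain ⟨A, S, hA, hS, hpure⟩ := hd.exists_pure_involution hT hk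
  have hdet : LinearMap.det (S.1 : (Fin 4 → F) →ₗ[F] (Fin 4 → F)) = 1 := by
    have h1 : LinearMap.det (A.1 : (Fin 3 → F) →ₗ[F] (Fin 3 → F)) ^ 2 = 1 := by
      rw [pow_two, ← LinearMap.det_comp, show (A.1 : (Fin 3 → F) →ₗ[F] (Fin 3 → F)) ∘ₗ A.1 = LinearMap.id from
        LinearMap.ext ((mul_self_one_iff A).1 hA), LinearMap.det_id]
    have h2 : LinearMap.det (S.1 : (Fin 4 → F) →ₗ[F] (Fin 4 → F)) ^ 2 = 1 := by
      rw [pow_two, ← LinearMap.det_comp, show (S.1 : (Fin 4 → F) →ₗ[F] (Fin 4 → F)) ∘ₗ S.1 = LinearMap.id from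
        LinearMap.ext ((mul_self_one_iff S).1 hS), LinearMap.det_id]
    have h3 := (trace_det_pure (k.1 : Matrix (Fin 3) (Fin 4) F →ₗ[F] Matrix (Fin 3) (Fin 4) F)
      (A.1 : (Fin 3 → F) →ₗ[F] (Fin 3 → F)) (S.1 : (Fin 4 → F) →ₗ[F] (Fin 4 → F)) hpure).2
    have h4 : LinearMap.det (A.1 : (Fin 3 → F) →ₗ[F] (Fin 3 → F)) ^ 4 = 1 := by
      rw [pow_mul _ 2 2, h1, one_pow]
    rw [det_commutator hd.model.nondeg hd.two hc, h4, one_mul, pow_succ, h2, one_mul] at h3
    exact h3.symm
  rcases hd.row_involution S hS hdet with ⟨ε, hε, hSw⟩ | ⟨b, d, ε, hp, hε, hSw⟩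
  · rcases hd.col_involution A hA with ⟨δ, hδ, hAu⟩ | ⟨x, δ, hx, hδ, hAu⟩
    · refine Or.inl ⟨δ * ε, by rcases hδ with rfl | rfl <;> rcases hε with rfl | rfl <;> simp,
        LinearMap.congr_fun (ext_pure (φ := (k.1 : Matrix (Fin 3) (Fin 4) F →ₗ[F] Matrix (Fin 3) (Fin 4) F))
          (ψ := (δ * ε) • LinearMap.id) fun u w => ?_)⟩
      rw [LinearEquiv.coe_coe, hpure, hAu, hSw, smul_vecMulVec, vecMulVec_smul, smul_smul]
      rfl
    · exact Or.inr (Or.inl ⟨x, δ * ε, hx, by rcases hδ with rfl | rfl <;> rcases hε with rfl | rfl <;> simp,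
        fun u w => by rw [hpure, hAu, hSw, smul_vecMulVec, vecMulVec_smul, smul_smul]⟩)
  · refine Or.inr (Or.inr ?_)
    rcases hε with rfl | rfl
    · exact ⟨b, d, A, hp, hA, fun u w => by rw [hpure, hSw, one_smul]⟩
    · refine ⟨b, d, negOrth qf * A, hp, (mul_self_one_iff _).2 fun v => ?_, fun u w => ?_⟩
      · show -(A.1 (-(A.1 v))) = v
        rw [map_neg, neg_neg]
        exact (mul_self_one_iff A).1 hA v
      · rw [hpure, hSw, neg_one_smul, vecMulVec_neg, ← neg_vecMulVec]
        rfl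

end Data

end CfsgLib.Classical.TensorMax34
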