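import Cfsg.Agent.Lib.Classical.TensorMax34.Basic
import Cfsg.Agent.Lib.Classical.TensorMaxO.Slices
import Cfsg.Agent.Lib.Classical.TensorMaxO.Axes

/-!
# A preserved slice gives everything
-/

set_option autoImplicit false
set_option linter.unusedSectionVars false

namespace CfsgLib.Classical.TensorMax34

open Matrix Module QuadraticMap CfsgLib.Orth CfsgLib.Classical CfsgLib.Classical.TensorMaxO
open CfsgLib.Classical.TensorMax (IsTensor)
open CfsgLib.Classical.TensorMaxU (vecMulVec_row sl1 sl2 sl2_injective)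

variable {F : Type*} [Field F] [Fintype F] {Q : QuadraticForm F (Matrix (Fin 3) (Fin 4) F)}
  {qf : QuadraticForm F (Fin 3 → F)} {qh : QuadraticForm F (Fin 4 → F)} {M : Subgroup (orthGroup Q)}

namespace Data

variable (hd : Data Q qf qh) (hF : ContainsFactors hd.model M)
include hd hF

/-- A map fixing the orthogonal of a slice is determined on a complement. -/
theorem centre_of_fix {c p : Fin 4 → F} (hcp : polar qh c p = 1) {w : orthGroup Q} (hw : w ∈ M)
    (S : (Fin 3 → F) →ₗ[F] (Fin 3 → F)) (hy : ∀ u y, polar qh c y = 0 → w.1 (vecMulVec u y) = vecMulVec u y)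
    (hp : ∀ u, w.1 (vecMulVec u p) = vecMulVec u p + vecMulVec (S u) c) : Centre M qh c S := by
  refine ⟨w, hw, fun X => LinearMap.congr_fun (ext_pure (φ := w.1.toLinearMap)
    (ψ := LinearMap.id + sl2 3 c ∘ₗ S ∘ₗ ct 3 qh c) fun u y => ?_) X⟩
  rw [show y = (y - polar qh c y • p) + polar qh c y • p by abel, vecMulVec_add, map_add, map_add, vecMulVec_smul,
    map_smul, map_smul, LinearEquiv.coe_coe, hy _ _ (by rw [polar_sub_right, polar_smul_r', hcp, mul_one, sub_self]),
    hp]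
  simp only [LinearMap.add_apply, LinearMap.id_apply, LinearMap.comp_apply, ct_vecMulVec, polar_sub_right,
    polar_smul_r', hcp, mul_one, sub_self, zero_smul, map_zero, add_zero, one_smul]
  rfl

/-- The commutator with a Siegel element is central. -/
theorem centre_of_el_siegel {c y : Fin 4 → F} {C : orthGroup qh} (hC : IsSiegel C c y) {p : Fin 4 → F}
    (hcp : polar qh c p = 1) {T : (Fin 4 → F) →ₗ[F] (Fin 3 → F) →ₗ[F] (Fin 3 → F)} (e : El M qh c T) :
    Centre M qh c (TensorMaxS.adj hd.model.ndf (T y) - T y) := by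
  have hm := hd.model
  obtain ⟨hc, hcy, -⟩ := id hC
  obtain ⟨h, hh, hhc, hhy⟩ := e
  set g := hm.row C
  have hgc : ∀ u, g.1 (vecMulVec u c) = vecMulVec u c := fun u => by
    rw [hm.row_pure, hC.2.2, polar_self', hc, polar_comm _ y c, hcy]
    simp
  have hgy : ∀ u v, polar qh c v = 0 → g.1 (vecMulVec u v) = vecMulVec u v - polar qh y v • vecMulVec u c :=
    fun u v hv => by
      rw [hm.row_siegel hC, ct_vecMulVec, ct_vecMulVec, hv, zero_smul, smul_zero, sub_zero, zero_vecMulVec, add_zero,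
        ← neg_smul, smul_vecMulVec, neg_smul, sub_eq_add_neg]
  set w := g * h * (h * g)⁻¹
  have hw : w ∈ M := M.mul_mem (M.mul_mem (hF.row_siegel hC) hh) (M.inv_mem (M.mul_mem hh (hF.row_siegel hC)))
  have hwE : ∀ X, w.1 (h.1 (g.1 X)) = g.1 (h.1 X) := fun X => by
    show (g * h).1 (((h * g)⁻¹).1 ((h * g).1 X)) = _
    rw [show ((h * g)⁻¹).1 ((h * g).1 X) = X from (h * g).1.symm_apply_apply X]
    rfl
  have hwc : ∀ u, w.1 (vecMulVec u c) = vecMulVec u c := fun u => by
    have e := hwE (vecMulVec u c)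
    rwa [hhc, hgc, hhc] at e
  have hwy : ∀ u v, polar qh c v = 0 → w.1 (vecMulVec u v) = vecMulVec u v := fun u v hv => by
    have e := hwE (vecMulVec u v)
    rw [hgy u v hv, map_sub, map_smul, hhc, hhy u v hv, map_sub, map_smul, hwc, map_add, hwc, map_add, hgy u v hv,
      hgc] at e
    linear_combination (norm := module) e
  refine hd.centre_of_fix hF hcp hw _ hwy fun u => ?_
  have hctc : ct 3 qh c (h.1 (vecMulVec u p)) = u := hm.eq_of_forall fun x => by
    rw [← hm.pol_left, ← hhc x, polar_isom, hm.pol, hcp, mul_one]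
  have hcty : ct 3 qh y (h.1 (vecMulVec u p)) = polar qh y p • u - TensorMaxS.adj hm.ndf (T y) u :=
    hm.eq_of_forall fun x => by
      have e := polar_isom h (vecMulVec x y) (vecMulVec u p)
      rw [hhy x y hcy, polar_add_left, hm.pol_left, hm.pol_left, hctc, hm.pol] at e
      rw [polar_sub_right, polar_smul_r', polar_comm qf x (TensorMaxS.adj hm.ndf (T y) u),
        show polar qf (TensorMaxS.adj hm.ndf (T y) u) x = polar qf u (T y x) from TensorMaxS.adj_left hm.ndf (T y) u x,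
        polar_comm qf u (T y x)]
      linear_combination e
  have e := hwE (vecMulVec u p)
  have hgp : g.1 (vecMulVec u p) = vecMulVec u p + vecMulVec u y + (-polar qh y p - qh y) • vecMulVec u c := by
    rw [hm.row_siegel hC, ct_vecMulVec, ct_vecMulVec, hcp, one_smul, sub_vecMulVec, neg_vecMulVec, smul_vecMulVec,
      smul_vecMulVec, sub_smul, neg_smul]
  rw [hgp] at e
  simp only [map_add, map_smul, hhc, hhy u y hcy, hwc, hwy u y hcy] at e
  rw [hm.row_siegel hC (h.1 (vecMulVec u p)), hctc, hcty] at e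
  -- the part moved by `h` is fixed
  set R := h.1 (vecMulVec u p) - vecMulVec u p
  have hR : w.1 R = R := by
    have h0 : ct 3 qh c R = 0 := by rw [map_sub, hctc, ct_vecMulVec, hcp, one_smul, sub_self]
    conv_lhs => rw [TensorMaxU.matrix_eq_sum R]
    rw [map_sum]
    conv_rhs => rw [TensorMaxU.matrix_eq_sum R]
    exact Finset.sum_congr rfl fun i _ => hwy _ _ (congrFun h0 i)
  rw [map_sub] at hR
  simp only [sub_vecMulVec, neg_vecMulVec, smul_vecMulVec, LinearMap.sub_apply] at e ⊢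
  linear_combination (norm := module) e - hR

/-- A non-scalar parameter gives a Siegel element. -/
theorem start_of_el {c : Fin 4 → F} (hc0 : c ≠ 0) (hc : qh c = 0)
    {T : (Fin 4 → F) →ₗ[F] (Fin 3 → F) →ₗ[F] (Fin 3 → F)} (e : El M qh c T)
    (hns : ∃ y, polar qh c y = 0 ∧ ¬ ∃ s : F, T y = s • LinearMap.id) : Start M qf qh := by
  have hm := hd.model
  by_contra hno
  have hplane : NoPlane qf := fun h => absurd h (by norm_num)
  have hnc : ∀ S, Centre M qh c S → S = 0 := fun S eS => by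
    by_contra hS
    exact hno (hm.start_of_centre hF le_rfl hplane hc0 hc eS hS)
  obtain ⟨p, hp, hcp⟩ := exists_partner hm.ndh hc hc0
  have hsym : ∀ y, polar qh c y = 0 → ∀ x x', polar qf (T y x) x' = polar qf x (T y x') := fun y hy x x' => by
    obtain ⟨C, hC⟩ := exists_isSiegel hm.ndh hc hy
    have h0 := sub_eq_zero.1 (hnc _ (hd.centre_of_el_siegel hF hC hcp e))
    conv_lhs => rw [← h0]
    exact TensorMaxS.adj_left hm.ndf (T y) x x'
  obtain ⟨y₀, hy₀, hns⟩ := hns
  obtain ⟨u₀, hu₀, hτ⟩ : ∃ u₀, qf u₀ = 0 ∧ polar qf u₀ (T y₀ u₀) ≠ 0 := by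
    by_contra! hall
    exact hns (scalar_of_singular_form hm.ndf hm.two (Or.inl hd.big) (by rw [finrank_fin_fun]) (T y₀) (hsym y₀ hy₀) hall)
  have hu₀0 : u₀ ≠ 0 := fun e => hτ (by rw [e, polar_zero_left])
  -- second differences
  have hD : ∀ z, polar qf u₀ z = 0 → ∃ D : (Fin 4 → F) →ₗ[F] (Fin 3 → F) →ₗ[F] (Fin 3 → F), El M qh c D ∧
      ∀ y x, D y x = (2 : F) • ((-(qf z * polar qf u₀ (T y x))) • u₀ - (qf z * polar qf u₀ x) • T y u₀ +
        (qf z * qf z * polar qf u₀ x * polar qf u₀ (T y u₀)) • u₀ -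
          ((polar qf u₀ x * polar qf u₀ (T y z) - polar qf z x * polar qf u₀ (T y u₀)) • z -
            (polar qf u₀ x * polar qf z (T y z) - polar qf z x * polar qf z (T y u₀)) • u₀)) := by
    intro z huz
    obtain ⟨A, hA⟩ := exists_isSiegel hm.ndf hu₀ huz
    obtain ⟨A', hA'⟩ := exists_isSiegel hm.ndf hu₀ (show polar qf u₀ (-z) = 0 by rw [polar_neg_right, huz, neg_zero])
    set conj : orthGroup qf → orthGroup qf → (Fin 4 → F) →ₗ[F] (Fin 3 → F) →ₗ[F] (Fin 3 → F) := fun A A' =>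
      (LinearMap.llcomp F (Fin 3 → F) (Fin 3 → F) (Fin 3 → F) A.1.toLinearMap) ∘ₗ
        ((LinearMap.llcomp F (Fin 3 → F) (Fin 3 → F) (Fin 3 → F)).flip A'.1.toLinearMap) ∘ₗ T with hconj
    have e1 := hm.el_col hF (siegel_mem_commutator hm.ndf hm.two hA) e (T' := conj A A') fun y x _ => by
      rw [siegel_pair hA hA']; rfl
    have e2 := hm.el_col hF (siegel_mem_commutator hm.ndf hm.two hA') e (T' := conj A' A) fun y x _ => by
      rw [siegel_pair hA' (by rwa [neg_neg])]; rfl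
    refine ⟨conj A A' + conj A' A - (2 : F) • T,
      ((e1.add e2).sub (hm.el_smul hF hc0 hc e 2)), fun y x => ?_⟩
    rw [← second_diff hA hA']
    rfl
  obtain ⟨s, hs0, hs1⟩ := hd.big
  obtain ⟨z, huz, hqz⟩ := exists_anisotropic_in hm.ndf (S := LinearMap.ker (polarBilin qf u₀))
    (by have := finrank_kerPolar (Q := qf) u₀; rw [finrank_fin_fun] at *; omega)
  rw [mem_ker_polar] at huz
  obtain ⟨D, eD, hDx⟩ := hD z huz
  obtain ⟨D', eD', hD'x⟩ := hD (s • z) (by rw [polar_smul_r', huz, mul_zero])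
  set φ : (Fin 4 → F) →ₗ[F] F := polarBilin qf u₀ ∘ₗ T.flip u₀
  set r := (LinearMap.BilinForm.toDual (polarBilin qh) hm.ndh).symm φ
  have hr : ∀ y, polar qh r y = polar qf u₀ (T y u₀) := fun y =>
    LinearMap.BilinForm.apply_toDual_symm_apply (B := polarBilin qh) (hB := hm.ndh) φ y
  set k := 2 * (s * s) * (s * s - 1) * (qf z * qf z)
  have hk : k ≠ 0 := mul_ne_zero (mul_ne_zero (mul_ne_zero hm.two (mul_ne_zero hs0 hs0)) (sub_ne_zero.2 hs1))
    (mul_ne_zero hqz hqz)
  set Q₁ : (Fin 3 → F) →ₗ[F] (Fin 3 → F) := (polarBilin qf u₀).smulRight u₀ with hQ₁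
  have eQ : El M qh c ((polarBilin qh r).smulRight (k • Q₁)) :=
    (eD'.sub (hm.el_smul hF hc0 hc eD (s * s))).congr fun y _ => LinearMap.ext fun x => by
      simp only [hQ₁, k, LinearMap.sub_apply, LinearMap.smul_apply, LinearMap.smulRight_apply,
        QuadraticMap.polarBilin_apply_apply, hr, hDx, hD'x, quad_smul', polar_smul_l', polar_smul_r', map_smul]
      module
  have hcr : polar qh c r = 0 := by
    obtain ⟨h, -, hhc, hhy⟩ := e
    have h1 := hhy u₀ c (by rw [polar_self', hc, mul_zero])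
    rw [hhc, left_eq_add, TensorMax.vecMulVec_eq_zero_iff'] at h1
    rw [polar_comm, hr, h1.resolve_right hc0, polar_zero_right]
  have hqr : qh r ≠ 0 := fun h => hτ (by
    obtain ⟨t, ht⟩ := Submodule.mem_span_singleton.1 (hd.line_four hc0 hc h hcr)
    rw [← hr, ← ht, polar_smul_l', hy₀, mul_zero])
  -- a second singular vector
  obtain ⟨u₁, hu₁, hu₀₁⟩ := exists_partner hm.ndf hu₀ hu₀0
  obtain ⟨A, hA, t, ht, hAu⟩ := TensorMaxO.exists_move hm.ndf (by rw [finrank_fin_fun]) hm.two hu₀ hu₁ hu₀0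
    (fun e => by rw [e, polar_zero_right] at hu₀₁; exact zero_ne_one hu₀₁)
  set Q₂ : (Fin 3 → F) →ₗ[F] (Fin 3 → F) := (polarBilin qf (A.1 u₀)).smulRight (A.1 u₀) with hQ₂
  have eA := hm.el_col hF hA eQ (T' := (polarBilin qh r).smulRight (k • Q₂)) fun y x _ => by
    simp only [hQ₁, hQ₂, LinearMap.smulRight_apply, LinearMap.smul_apply, QuadraticMap.polarBilin_apply_apply,
      map_smul, ← polar_isom A u₀ ((A⁻¹).1 x), Orth.inv_apply]
  have hsymQ : ∀ v u x : Fin 3 → F, polar qf ((k • (polarBilin qf v).smulRight v) u) x =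
      polar qf u ((k • (polarBilin qf v).smulRight v) x) := fun v u x => by
    simp only [LinearMap.smul_apply, LinearMap.smulRight_apply, QuadraticMap.polarBilin_apply_apply,
      polar_smul_l', polar_smul_r', polar_comm _ u v]
    ring
  have h0 := LinearMap.congr_fun (hnc _ (hm.centre_of_el hF hp hcp hc hcr hcr (P' := k • Q₁) (P₁' := k • Q₂)
    (hsymQ u₀) (hsymQ (A.1 u₀)) eQ eA)) u₀
  simp only [hQ₁, hQ₂, LinearMap.smul_apply, LinearMap.sub_apply, LinearMap.comp_apply, LinearMap.smulRight_apply,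
    QuadraticMap.polarBilin_apply_apply, LinearMap.zero_apply, hAu, polar_smul_l', polar_smul_r', polar_self', hu₀,
    polar_comm _ u₁ u₀, hu₀₁, mul_zero, zero_smul, smul_zero, zero_sub, smul_neg, neg_eq_zero, smul_eq_zero] at h0
  rcases h0 with h | h
  · exact hqr (quad_eq_zero_of_self hd.two (by rwa [polar_self']))
  · simp [ht, hk, hu₀0] at h

/-- An element mapping a singular slice to a slice is a tensor map, or there is a Siegel element. -/
theorem start_of_slice {g : orthGroup Q} (hg : g ∈ M) (hgT : ¬ IsTensor g.1) {b₀ c : Fin 4 → F} (hb0 : b₀ ≠ 0)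
    (hbs : qh b₀ = 0) (hs : ∀ u, ∃ u', g.1 (vecMulVec u b₀) = vecMulVec u' c) : Start M qf qh := by
  classical
  have hm := hd.model
  obtain ⟨hc0, hcs, A₀, hgA⟩ := exists_slice_equiv hm (by omega) g hb0 hbs hs
  by_contra hno
  have hplane : NoPlane qf := fun h => absurd h (by norm_num)
  have hnoel : ∀ T, El M qh b₀ T → ∀ y, polar qh b₀ y = 0 → ∃ s : F, T y = s • LinearMap.id := by
    intro T e y hy
    by_contra hne
    exact hno (hd.start_of_el hF hb0 hbs e ⟨y, hy, hne⟩)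
  have hnc : ∀ S, Centre M qh b₀ S → S = 0 := fun S eS => by
    by_contra hS
    exact hno (hm.start_of_centre hF le_rfl hplane hb0 hbs eS hS)
  obtain ⟨d, hd', hcd⟩ := exists_partner hm.ndh hcs hc0
  have hdc : polar qh d c = 1 := by rw [polar_comm]; exact hcd
  obtain ⟨p, hp, hbp⟩ := exists_partner hm.ndh hbs hb0
  have hker : ∀ Y, ct 3 qh b₀ Y = 0 → ct 3 qh c (g.1 Y) = 0 := fun Y hY => hm.eq_of_forall fun u => by
    obtain ⟨u', rfl⟩ := A₀.surjective u
    rw [← hm.pol_left, ← hgA, polar_isom, hm.pol_left, hY, polar_zero_right, polar_zero_right]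
  -- the translations of the quotient
  have hsc : ∀ γ y, polar qh c γ = 0 → polar qh b₀ y = 0 →
      ∃ s : F, ∀ u, ct 3 qh γ (g.1 (vecMulVec u y)) = s • A₀ u := by
    intro γ y hγ hy
    obtain ⟨C, hC⟩ := exists_isSiegel hm.ndh hcs hγ
    set T : (Fin 4 → F) →ₗ[F] (Fin 3 → F) →ₗ[F] (Fin 3 → F) := (vecMulVecBilin F F).flip.compr₂
      (-(A₀.symm.toLinearMap ∘ₗ ct 3 qh γ ∘ₗ g.1.toLinearMap))
    have e : El M qh b₀ T := by
      refine ⟨g⁻¹ * hm.row C * g, M.mul_mem (M.mul_mem (M.inv_mem hg) (hF.row_siegel hC)) hg, fun u => g.1.injective ?_,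
        fun u v hv => g.1.injective ?_⟩
      · rw [TensorMaxO.mul_apply', TensorMaxO.mul_apply', Orth.inv_apply, hgA, hm.row_pure, hC.2.2, polar_self', hcs,
          polar_comm _ γ c, hγ]
        simp
      · rw [TensorMaxO.mul_apply', TensorMaxO.mul_apply', Orth.inv_apply, hm.row_siegel hC,
          hker _ (by rw [ct_vecMulVec, hv, zero_smul]), map_add, hgA, smul_zero, sub_zero, zero_vecMulVec, add_zero]
        simp [T]
    obtain ⟨s, hs'⟩ := hnoel T e y hy
    refine ⟨-s, fun u => ?_⟩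
    have h := LinearMap.congr_fun hs' u
    simp only [T, LinearMap.compr₂_apply, LinearMap.flip_apply, LinearMap.neg_apply, LinearMap.comp_apply,
      LinearEquiv.coe_coe, LinearMap.smul_apply, LinearMap.id_apply] at h
    rw [neg_smul, ← map_smul, ← h, map_neg, A₀.apply_symm_apply, neg_neg]
    rfl
  -- the quotient map
  have hu₁ : (Pi.single (0 : Fin 3) 1 : Fin 3 → F) ≠ 0 := by simp
  set u₁ : Fin 3 → F := Pi.single (0 : Fin 3) 1
  obtain ⟨r₀, -, hr₀⟩ := exists_polar_one hm.ndf (W := ⊥) (show A₀ u₁ ∉ (⊥ : Submodule F (Fin 3 → F)) by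
    simpa using hu₁)
  set E : (Fin 4 → F) →ₗ[F] (Fin 4 → F) := TensorMaxS.ct1 4 (polarBilin qf) r₀ ∘ₗ g.1.toLinearMap ∘ₗ sl1 4 u₁
  have hct1 : ∀ γ X, polar qh γ (TensorMaxS.ct1 4 (polarBilin qf) r₀ X) = polar qf r₀ (ct 3 qh γ X) := fun γ X =>
    LinearMap.congr_fun (ext_pure (φ := polarBilin qh γ ∘ₗ TensorMaxS.ct1 4 (polarBilin qf) r₀)
      (ψ := polarBilin qf r₀ ∘ₗ ct 3 qh γ) fun u w => by
        simp [QuadraticMap.polarBilin_apply_apply, polar_smul_r', mul_comm]) X
  have hcE : ∀ y, polar qh b₀ y = 0 → polar qh c (E y) = 0 := fun y hy => by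
    show polar qh c (TensorMaxS.ct1 4 (polarBilin qf) r₀ (g.1 (vecMulVec u₁ y))) = 0
    rw [hct1, hker _ (by rw [ct_vecMulVec, hy, zero_smul]), polar_zero_right]
  set Φ : (Fin 4 → F) →ₗ[F] (Fin 3 → F) →ₗ[F] (Fin 3 → F) :=
    (LinearMap.llcomp F (Fin 3 → F) (Fin 3 → F) (Fin 3 → F) A₀.symm.toLinearMap) ∘ₗ
      ((vecMulVecBilin F F).flip.compr₂ (ct 3 qh d ∘ₗ g.1.toLinearMap) -
        (polarBilin qh d ∘ₗ E).smulRight A₀.toLinearMap) with hΦ
  have hgy' : ∀ y, (∀ γ, polar qh c γ = 0 → ∃ s : F, ∀ u, ct 3 qh γ (g.1 (vecMulVec u y)) = s • A₀ u) → ∀ u,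
      g.1 (vecMulVec u y) = vecMulVec (A₀ u) (E y) + g.1 (vecMulVec (Φ y u) b₀) := by
    intro y hy u
    set D := g.1 (vecMulVec u y) - vecMulVec (A₀ u) (E y) with hD
    have hrow : ∀ i, D i ∈ F ∙ c := fun i => mem_span_of_perp hm.ndh hm.two fun γ hγ => by
      obtain ⟨s, hs'⟩ := hy γ hγ
      have hsE : polar qh γ (E y) = s := by
        show polar qh γ (TensorMaxS.ct1 4 (polarBilin qf) r₀ (g.1 (vecMulVec u₁ y))) = s
        rw [hct1, hs', polar_smul_r', hr₀, mul_one]
      have h0 : ct 3 qh γ D = 0 := by rw [hD, map_sub, hs', ct_vecMulVec, hsE, sub_self]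
      exact congrFun h0 i
    choose t ht using fun i => Submodule.mem_span_singleton.1 (hrow i)
    have hY : g.1 (vecMulVec u y) = vecMulVec (A₀ u) (E y) + vecMulVec t c := by
      rw [show vecMulVec t c = D from funext fun i => by rw [TensorMaxU.vecMulVec_row]; exact ht i, hD]
      abel
    rw [hgA, hY, hΦ]
    congr 1
    simp only [LinearMap.comp_apply, LinearMap.sub_apply, LinearMap.llcomp_apply, LinearMap.compr₂_apply,
      LinearMap.flip_apply, LinearMap.smulRight_apply, LinearMap.smul_apply, LinearEquiv.coe_coe,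
      QuadraticMap.polarBilin_apply_apply]
    rw [A₀.apply_symm_apply, show (vecMulVecBilin F F) u y = vecMulVec u y from rfl, hY, map_add, ct_vecMulVec,
      ct_vecMulVec, hdc, one_smul, add_sub_cancel_left]
  have hgy : ∀ y, polar qh b₀ y = 0 → ∀ u,
      g.1 (vecMulVec u y) = vecMulVec (A₀ u) (E y) + g.1 (vecMulVec (Φ y u) b₀) :=
    fun y hy => hgy' y fun γ hγ => hsc γ y hγ hy
  -- the similitude
  obtain ⟨y₁, hy₁, hqy₁⟩ := exists_anisotropic_in hm.ndh (S := LinearMap.ker (polarBilin qh b₀))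
      (by have := finrank_kerPolar (Q := qh) b₀; rw [finrank_fin_fun] at *; omega)
  rw [mem_ker_polar] at hy₁
  have hyy : polar qh y₁ y₁ ≠ 0 := by rw [polar_self']; exact mul_ne_zero hm.two hqy₁
  have key : ∀ y y', polar qh b₀ y = 0 → polar qh b₀ y' = 0 → ∀ u u',
      polar qf (A₀ u) (A₀ u') * polar qh (E y) (E y') = polar qf u u' * polar qh y y' := fun y y' hy hy' u u' => by
    have e := polar_isom g (vecMulVec u y) (vecMulVec u' y')
    rw [hgy y hy, hgy y' hy', hgA, hgA, hm.pol] at e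
    simp only [polar_add_left, polar_add_right, hm.pol, hcE y hy, hcE y' hy', polar_comm _ (E y) c,
      polar_self', hcs, mul_zero, add_zero] at e
    exact e
  obtain ⟨w₀, -, hw₀⟩ := exists_anisotropic_in hm.ndf (S := ⊤) (by rw [finrank_top, finrank_fin_fun]; omega)
  set κ := polar qh y₁ y₁ / polar qh (E y₁) (E y₁) with hκ
  have hne : polar qh (E y₁) (E y₁) ≠ 0 := fun e => by
    have h := key y₁ y₁ hy₁ hy₁ w₀ w₀
    rw [e, mul_zero, eq_comm, polar_self' _ w₀] at h
    exact mul_ne_zero (mul_ne_zero hm.two hw₀) hyy h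
  have hκ0 : κ ≠ 0 := div_ne_zero hyy hne
  have hA₁ : ∀ u u', polar qf (A₀ u) (A₀ u') = κ * polar qf u u' := fun u u' => by
    rw [hκ, div_mul_eq_mul_div, eq_div_iff hne, key y₁ y₁ hy₁ hy₁, mul_comm]
  have hA₀ : ∀ u, qf (A₀ u) = κ * qf u := fun u => by
    refine mul_left_cancel₀ hm.two ?_
    rw [← polar_self', mul_left_comm, ← polar_self', hA₁]
  let σ : orthGroup qf →* orthGroup qf :=
    { toFun := fun A => ⟨A₀.symm ≪≫ₗ A.1 ≪≫ₗ A₀, fun v => by
        show qf (A₀ (A.1 (A₀.symm v))) = qf v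
        rw [hA₀, apply_quad, ← hA₀, A₀.apply_symm_apply]⟩
      map_one' := Subtype.ext (LinearEquiv.ext fun v => A₀.apply_symm_apply v)
      map_mul' := fun A A' => Subtype.ext (LinearEquiv.ext fun v => by
        show A₀ ((A.1 * A'.1) (A₀.symm v)) = A₀ (A.1 (A₀.symm (A₀ (A'.1 (A₀.symm v)))))
        rw [A₀.symm_apply_apply]; rfl) }
  have hσ : ∀ (A : orthGroup qf) u, (σ A).1 (A₀ u) = A₀ (A.1 u) := fun A u => by
    show A₀ (A.1 (A₀.symm (A₀ u))) = A₀ (A.1 u)
    rw [A₀.symm_apply_apply]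
  -- conjugation by the first factor
  have hconj : ∀ (A : orthGroup qf) y, (∀ u, g.1 (vecMulVec u y) =
      vecMulVec (A₀ u) (E y) + g.1 (vecMulVec (Φ y u) b₀)) → ∀ u,
      (g⁻¹ * hm.col (σ A) * g * hm.col A⁻¹).1 (vecMulVec u y) =
        vecMulVec u y + vecMulVec (A.1 (Φ y ((A⁻¹).1 u)) - Φ y u) b₀ := fun A y hy u => g.1.injective (by
    rw [TensorMaxO.mul_apply', TensorMaxO.mul_apply', TensorMaxO.mul_apply', Orth.inv_apply, hm.col_pure, hy, hgA,
      map_add, hm.col_pure, hm.col_pure, hσ, hσ, Orth.inv_apply, map_add, hy, hgA, hgA, map_sub, sub_vecMulVec]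
    abel)
  -- the remainders are scalar
  have hperp : ∀ v, polar qh b₀ v = 0 → ∃ l : F, Φ v = l • LinearMap.id := by
    intro v hv
    refine scalar_of_conj hm.ndf hm.two (by rw [finrank_fin_fun]) (Or.inl hd.big) (Φ v) fun A hA => ?_
    set T : (Fin 4 → F) →ₗ[F] (Fin 3 → F) →ₗ[F] (Fin 3 → F) :=
      (LinearMap.llcomp F (Fin 3 → F) (Fin 3 → F) (Fin 3 → F) A.1.toLinearMap) ∘ₗ
        ((LinearMap.llcomp F (Fin 3 → F) (Fin 3 → F) (Fin 3 → F)).flip (A⁻¹).1.toLinearMap) ∘ₗ Φ - Φ with hTdef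
    have e : El M qh b₀ T := by
      refine ⟨g⁻¹ * hm.col (σ A) * g * hm.col A⁻¹, M.mul_mem (M.mul_mem (M.mul_mem (M.inv_mem hg)
        (hF.col _ (map_mem_commutator σ hA))) hg) (hF.col _ (inv_mem hA)), fun u => g.1.injective ?_,
        fun u y hy => hconj A y (hgy y hy) u⟩
      rw [TensorMaxO.mul_apply', TensorMaxO.mul_apply', TensorMaxO.mul_apply', Orth.inv_apply, hm.col_pure, hgA,
        hm.col_pure, hσ, Orth.inv_apply, ← hgA]
    obtain ⟨s, hs'⟩ := hnoel T e v hv
    refine ⟨s, fun x => ?_⟩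
    have h : A.1 (Φ v ((A⁻¹).1 (A.1 x))) - Φ v (A.1 x) = s • A.1 x := LinearMap.congr_fun hs' (A.1 x)
    rw [show (A⁻¹).1 (A.1 x) = x from A.1.symm_apply_apply x, sub_eq_iff_eq_add] at h
    rw [h, add_comm]
  choose! l hl using hperp
  have hslice : ∀ y, polar qh b₀ y = 0 → ∀ u, g.1 (vecMulVec u y) = vecMulVec (A₀ u) (E y + l y • c) := fun y hy u => by
    rw [hgy y hy, hl y hy, LinearMap.smul_apply, LinearMap.id_apply, hgA, map_smul, smul_vecMulVec, vecMulVec_add,
      vecMulVec_smul]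
  -- the partner
  set P := LinearMap.ker (polarBilin qh b₀)
  set Eb : P →ₗ[F] LinearMap.ker (polarBilin qh c) :=
    LinearMap.codRestrict _ (((TensorMaxS.ct1 4 (polarBilin qf) r₀ ∘ₗ g.1.toLinearMap ∘ₗ sl1 4 u₁)).domRestrict P)
      fun y => hcE y.1 y.2 with hEb
  have hEy : ∀ y, polar qh b₀ y = 0 → TensorMaxS.ct1 4 (polarBilin qf) r₀ (g.1 (vecMulVec u₁ y)) = E y := fun y _ => rfl
  have hinj : Function.Injective Eb := (injective_iff_map_eq_zero _).2 fun y hy => by
    have hEy0 : E y.1 = 0 := congrArg Subtype.val hy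
    have h1 := hslice y.1 y.2 u₁
    have h3 : TensorMaxS.ct1 4 (polarBilin qf) r₀ (vecMulVec (A₀ u₁) (E y.1 + l y.1 • c)) = E y.1 := by
      rw [← h1]; rfl
    rw [TensorMaxS.ct1_vecMulVec, QuadraticMap.polarBilin_apply_apply, hr₀, one_smul, add_eq_left, smul_eq_zero] at h3
    rw [h3.resolve_right hc0, zero_smul, hEy0, add_zero, TensorMax.vecMulVec_zero', LinearEquiv.map_eq_zero_iff,
      TensorMax.vecMulVec_eq_zero_iff'] at h1
    exact Subtype.ext (h1.resolve_left hu₁)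
  have hsurj : ∀ γ, polar qh c γ = 0 → ∃ y, polar qh b₀ y = 0 ∧ E y = γ := by
    intro γ hγ
    have hdim : finrank F P = finrank F (LinearMap.ker (polarBilin qh c)) := by
      have h1 : ∀ {x : Fin 4 → F}, x ≠ 0 → finrank F (LinearMap.ker (polarBilin qh x)) + 1 = 4 := fun {x} hx => by
        have h2 := finrank_kerPolar (Q := qh) x
        have h3 : LinearMap.ker (polarBilin qh x) ≠ ⊤ := fun h => hx (hm.ndh.1 x fun v =>
          (LinearMap.mem_ker.1 (h ▸ Submodule.mem_top : v ∈ LinearMap.ker (polarBilin qh x))))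
        have h4 := Submodule.finrank_lt h3
        rw [finrank_fin_fun] at *
        omega
      exact Nat.succ_injective ((h1 hb0).trans (h1 hc0).symm)
    obtain ⟨y, hy⟩ := (LinearMap.injective_iff_surjective_of_finrank_eq_finrank hdim).1 hinj ⟨γ, hγ⟩
    exact ⟨y.1, y.2, congrArg Subtype.val hy⟩
  have hscp : ∀ γ, polar qh c γ = 0 → ∃ s : F, ∀ u, ct 3 qh γ (g.1 (vecMulVec u p)) = s • A₀ u := by
    intro γ hγ
    obtain ⟨y, hy, rfl⟩ := hsurj γ hγ
    refine ⟨κ⁻¹ * polar qh y p - l y * κ⁻¹, fun u => ?_⟩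
    have hy' : ct 3 qh (E y + l y • c) (g.1 (vecMulVec u p)) = (κ⁻¹ * polar qh y p) • A₀ u := hm.eq_of_forall fun x => by
      obtain ⟨x, rfl⟩ := A₀.surjective x
      rw [← hm.pol_left, ← hslice y hy, polar_isom, hm.pol, polar_smul_r', hA₁]
      field_simp
    have hcu : ct 3 qh c (g.1 (vecMulVec u p)) = κ⁻¹ • A₀ u := hm.eq_of_forall fun x => by
      obtain ⟨x, rfl⟩ := A₀.surjective x
      rw [← hm.pol_left, ← hgA, polar_isom, hm.pol, hbp, polar_smul_r', hA₁]
      field_simp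
    rw [map_add, LinearMap.add_apply, map_smul, LinearMap.smul_apply, hcu, smul_smul] at hy'
    rw [sub_smul, ← hy', add_sub_cancel_right]
  have hgp := hgy' p hscp
  obtain ⟨lp, hlp⟩ := scalar_of_conj hm.ndf hm.two (by rw [finrank_fin_fun]) (Or.inl hd.big) (Φ p) fun A hA => by
    have eS : Centre M qh b₀ ((A.1 : (Fin 3 → F) →ₗ[F] (Fin 3 → F)) ∘ₗ Φ p ∘ₗ ((A⁻¹).1 : (Fin 3 → F) →ₗ[F] (Fin 3 → F)) -
        Φ p) := by
      refine hd.centre_of_fix hF hbp (w := g⁻¹ * hm.col (σ A) * g * hm.col A⁻¹) (M.mul_mem (M.mul_mem (M.mul_mem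
        (M.inv_mem hg) (hF.col _ (map_mem_commutator σ hA))) hg) (hF.col _ (inv_mem hA))) _ (fun u y hy => ?_) (hconj A p hgp)
      rw [hconj A y (hgy y hy) u, hl y hy]
      simp [Orth.inv_apply]
    refine ⟨0, fun x => ?_⟩
    have h : A.1 (Φ p ((A⁻¹).1 (A.1 x))) - Φ p (A.1 x) = 0 := LinearMap.congr_fun (hnc _ eS) (A.1 x)
    rw [show (A⁻¹).1 (A.1 x) = x from A.1.symm_apply_apply x, sub_eq_zero] at h
    rw [h, zero_smul, add_zero]
  refine hgT (TensorMax.isTensor_of_forall (by omega) (by omega) g.1 fun v _ => ?_)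
  set v' := v - polar qh b₀ v • p
  have hv' : polar qh b₀ v' = 0 := by rw [polar_sub_right, polar_smul_r', hbp, mul_one, sub_self]
  refine ⟨E v' + l v' • c + polar qh b₀ v • (E p + lp • c), fun u => ⟨A₀ u, ?_⟩⟩
  conv_lhs => rw [show v = v' + polar qh b₀ v • p by simp only [v']; abel]
  rw [vecMulVec_add, map_add, hslice v' hv', vecMulVec_smul, map_smul, hgp, hlp, LinearMap.smul_apply,
    LinearMap.id_apply, hgA, map_smul, smul_vecMulVec, ← vecMulVec_smul lp (A₀ u) c, ← vecMulVec_add,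
    ← vecMulVec_smul, ← vecMulVec_add]

/-- An element mapping a singular slice to a slice is a tensor map, or `M` contains the commutator subgroup. -/
theorem omega_le_of_slice {g : orthGroup Q} (hg : g ∈ M) (hgT : ¬ IsTensor g.1) {b₀ c : Fin 4 → F} (hb0 : b₀ ≠ 0)
    (hbs : qh b₀ = 0) (hs : ∀ u, ∃ u', g.1 (vecMulVec u b₀) = vecMulVec u' c) : commutator (orthGroup Q) ≤ M :=
  hd.model.omega_le hF le_rfl (by omega) (by
    simp only [Module.finrank_matrix, finrank_self, mul_one, Fintype.card_fin]; norm_num)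
    (hd.start_of_slice hF hg hgT hb0 hbs hs)

end Data

end CfsgLib.Classical.TensorMax34
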