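import Cfsg.Agent.Lib.Classical.TensorMax34.Pure
import Cfsg.Agent.Lib.Classical.TensorMax34.Kernel

/-!
# Half turns of the first factor

An element of an overgroup conjugating a half turn of the first factor to a tensor map is a tensor map.
-/

set_option autoImplicit false
set_option linter.unusedSectionVars false

namespace CfsgLib.Classical.TensorMax34

open Matrix Module QuadraticMap CfsgLib.Orth CfsgLib.Classical CfsgLib.Classical.TensorMaxO
open CfsgLib.Classical.TensorMax (IsTensor)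
open CfsgLib.Classical.TensorMaxU (vecMulVec_row sl1 sl2 sl2_injective)

variable {F : Type*} [Field F]

/-- The trace of the underlying map. -/
noncomputable def trQ {V : Type*} [AddCommGroup V] [Module F V] {q : QuadraticForm F V} (g : orthGroup q) : F :=
  LinearMap.trace F V (g.1 : V →ₗ[F] V)

theorem trQ_conj {V : Type*} [AddCommGroup V] [Module F V] [FiniteDimensional F V] {q : QuadraticForm F V}
    (g k : orthGroup q) : trQ (g * k * g⁻¹) = trQ k := by
  rw [trQ, trQ, ← LinearMap.trace_conj' (k.1 : V →ₗ[F] V) g.1]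
  rfl

theorem trQ_smul {V : Type*} [AddCommGroup V] [Module F V] [FiniteDimensional F V] {q : QuadraticForm F V}
    (g : orthGroup q) {ε : F} (h : ∀ v, g.1 v = ε • v) : trQ g = ε * finrank F V := by
  rw [trQ, show (g.1 : V →ₗ[F] V) = ε • LinearMap.id from LinearMap.ext h, map_smul, LinearMap.trace_id, smul_eq_mul]

variable {Q : QuadraticForm F (Matrix (Fin 3) (Fin 4) F)} {qf : QuadraticForm F (Fin 3 → F)}
  {qh : QuadraticForm F (Fin 4 → F)} {M : Subgroup (orthGroup Q)}

namespace Data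

variable (hd : Data Q qf qh) [Fintype F]
include hd

theorem trQ_pure (g : orthGroup Q) (A : (Fin 3 → F) →ₗ[F] (Fin 3 → F)) (C : (Fin 4 → F) →ₗ[F] (Fin 4 → F))
    (h : ∀ u w, g.1 (vecMulVec u w) = vecMulVec (A u) (C w)) :
    trQ g = LinearMap.trace F _ A * LinearMap.trace F _ C :=
  (trace_det_pure (g.1 : Matrix (Fin 3) (Fin 4) F →ₗ[F] Matrix (Fin 3) (Fin 4) F) A C h).1

theorem trQ_turn (g : orthGroup Q) {x : Fin 3 → F} (hx : qf x ≠ 0) {ε : F}
    (h : ∀ u w, g.1 (vecMulVec u w) = ε • vecMulVec (turn qf x u) w) : trQ g = -(4 * ε) := by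
  rw [hd.trQ_pure g (turn qf x) (ε • LinearMap.id) (fun u w => by
    rw [h, LinearMap.smul_apply, LinearMap.id_apply, vecMulVec_smul]), hd.trace_turn hx, map_smul, LinearMap.trace_id,
    finrank_fin_fun, smul_eq_mul]
  push_cast
  ring

theorem trQ_half (g : orthGroup Q) {b d : Fin 4 → F} (hp : Pair qh b d) (A : (Fin 3 → F) →ₗ[F] (Fin 3 → F))
    (h : ∀ u w, g.1 (vecMulVec u w) = vecMulVec (A u) (half qh b d w)) : trQ g = 0 := by
  rw [hd.trQ_pure g A (half qh b d) h, hd.trace_half hp, mul_zero]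

theorem trQ_scalar (g : orthGroup Q) {ε : F} (h : ∀ X, g.1 X = ε • X) : trQ g = 12 * ε := by
  rw [trQ_smul g h, Module.finrank_matrix, finrank_self, Fintype.card_fin, Fintype.card_fin]
  push_cast
  ring

/-- Vectors in an eigenspace of a half turn. -/
theorem slice_of_eigen {k : orthGroup Q} {x : Fin 3 → F} {ε : F} (hε : ε ≠ 0)
    (h : ∀ u w, k.1 (vecMulVec u w) = ε • vecMulVec (turn qf x u) w) {Z : Matrix (Fin 3) (Fin 4) F}
    (hZ : k.1 Z = ε • Z) : ∃ w, Z = vecMulVec x w := by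
  have e : k.1 Z + ε • Z = vecMulVec x ((ε * (qf x)⁻¹) • TensorMaxS.ct1 4 (polarBilin qf) x Z) :=
    LinearMap.congr_fun (ext_pure (φ := k.1.toLinearMap + ε • LinearMap.id)
      (ψ := sl1 4 x ∘ₗ ((ε * (qf x)⁻¹) • TensorMaxS.ct1 4 (polarBilin qf) x)) fun u w => by
        show k.1 (vecMulVec u w) + ε • vecMulVec u w = vecMulVec x ((ε * (qf x)⁻¹) • _)
        rw [h, TensorMaxS.ct1_vecMulVec, QuadraticMap.polarBilin_apply_apply, turn_apply, sub_vecMulVec, smul_vecMulVec,
          vecMulVec_smul, vecMulVec_smul]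
        module) Z
  refine ⟨(2 * ε)⁻¹ • (ε * (qf x)⁻¹) • TensorMaxS.ct1 4 (polarBilin qf) x Z, ?_⟩
  rw [vecMulVec_smul, ← e, hZ, ← add_smul, ← two_mul, smul_smul, inv_mul_cancel₀ (mul_ne_zero hd.two hε), one_smul]

theorem turn_self {x : Fin 3 → F} (hx : qf x ≠ 0) : turn qf x x = x := by
  rw [turn_apply, polar_self', show (qf x)⁻¹ * (2 * qf x) = 2 by field_simp, two_smul, add_sub_cancel_right]

/-- An element intertwining two half turns is a tensor map. -/
theorem tensor_of_turn (hM : ContainsTensor M) (hNF : SliceFree M qh) {g : orthGroup Q} (hg : g ∈ M)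
    {k k' : orthGroup Q} {x x' : Fin 3 → F} (hx : qf x ≠ 0) (hx' : qf x' ≠ 0) {ε : F} (hε : ε ≠ 0)
    (hk : ∀ u w, k.1 (vecMulVec u w) = ε • vecMulVec (turn qf x u) w)
    (hk' : ∀ u w, k'.1 (vecMulVec u w) = ε • vecMulVec (turn qf x' u) w)
    (hgk : ∀ X, g.1 (k.1 X) = k'.1 (g.1 X)) : IsTensor g.1 :=
  hd.tensor_of_first_slice hM hNF hg hx hx' fun w => hd.slice_of_eigen hε hk'
    (by rw [← hgk, hk, hd.turn_self hx, map_smul])

/-- An element conjugating a half turn to a tensor map is a tensor map. -/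
theorem tensor_of_conj_turn (hM : ContainsTensor M) (hNF : SliceFree M qh) {g : orthGroup Q} (hg : g ∈ M)
    {A : orthGroup qf} (hAc : hd.model.col A ∈ commutator (orthGroup Q)) {x : Fin 3 → F} (hx : qf x ≠ 0)
    (hA : ∀ u, A.1 u = turn qf x u) (hT : IsTensor (g * hd.model.col A * g⁻¹).1) : IsTensor g.1 := by
  set t := hd.model.col A
  have ht : ∀ u w, t.1 (vecMulVec u w) = (1 : F) • vecMulVec (turn qf x u) w := fun u w => by
    rw [hd.model.col_pure, hA, one_smul]
  have htr : trQ (g * t * g⁻¹) = -4 := by rw [trQ_conj, hd.trQ_turn t hx ht, mul_one]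
  have hA2 : A * A = 1 := (mul_self_one_iff A).2 fun v => by
    rw [hA, hA, turn_apply, turn_apply, polar_sub_right, polar_smul_r', polar_self']
    match_scalars <;> field_simp <;> ring
  have hk2 : g * t * g⁻¹ * (g * t * g⁻¹) = 1 := by
    rw [conj_mul, ← map_mul, hA2, map_one, mul_one, mul_inv_cancel]
  have h2 := hd.two
  rcases hd.involution_cases (((commutator_def (orthGroup Q)) ▸ Subgroup.commutator_normal ⊤ ⊤ :
      (commutator (orthGroup Q)).Normal).conj_mem t hAc g) hT hk2 with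
    ⟨ε, hε, hk⟩ | ⟨x', ε, hx', hε, hk⟩ | ⟨b, d, B, hp, -, hk⟩
  · rw [hd.trQ_scalar _ hk] at htr
    rcases hε with rfl | rfl
    · exact absurd (by linear_combination htr : (2 : F) * 2 * 2 * 2 = 0)
        (mul_ne_zero (mul_ne_zero (mul_ne_zero h2 h2) h2) h2)
    · exact absurd (by linear_combination -htr : (2 : F) * 2 * 2 = 0) (mul_ne_zero (mul_ne_zero h2 h2) h2)
  · rw [hd.trQ_turn _ hx' hk] at htr
    rcases hε with rfl | rfl
    · refine hd.tensor_of_turn hM hNF hg hx hx' one_ne_zero ht hk fun X => ?_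
      show g.1 (t.1 X) = g.1 (t.1 ((g⁻¹).1 (g.1 X)))
      rw [show (g⁻¹).1 (g.1 X) = X from g.1.symm_apply_apply X]
    · exact absurd (by linear_combination htr : (2 : F) * 2 * 2 = 0) (mul_ne_zero (mul_ne_zero h2 h2) h2)
  · rw [hd.trQ_half _ hp (B.1 : (Fin 3 → F) →ₗ[F] (Fin 3 → F)) hk] at htr
    exact absurd (by linear_combination htr : (2 : F) * 2 = 0) (mul_ne_zero h2 h2)

end Data

end CfsgLib.Classical.TensorMax34
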